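import Groth.Agent.CohBase.QCohSections
import Mathlib.RingTheory.Ideal.Span
import Mathlib.Data.Fintype.Order
import Mathlib.Order.ConditionallyCompleteLattice.Finset

/-!
# Čech exactness for a family cut out by functions generating the unit ideal
-/

universe u

open CategoryTheory Limits AlgebraicGeometry Opposite TopologicalSpace

namespace Groth.CohBase

variable {X : Scheme.{u}} (M : X.Modules) {W : X.Opens} {ι : Type u} (U : ι → X.Opens)

lemma inter_le_of_le {n : ℕ} (hle : ∀ k, U k ≤ W) (x : Fin (n + 1) → ι) :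
    inter (X := X.toTopCat) U x ≤ W :=
  (inter_le (X := X.toTopCat) U x 0).trans (hle _)

/-- Scalar multiplication of cochains by functions on an open containing the family. -/
noncomputable def smulCoch (hle : ∀ k, U k ≤ W) (r : Γ(X, W)) {n : ℕ}
    (s : Coch (X := X.toTopCat) U M.presheaf n) : Coch (X := X.toTopCat) U M.presheaf n :=
  fun x => ores (inter_le_of_le U hle x) r • (show Γ(M, inter (X := X.toTopCat) U x) from s x)

lemma smulCoch_apply (hle : ∀ k, U k ≤ W) (r : Γ(X, W)) {n : ℕ}
    (s : Coch (X := X.toTopCat) U M.presheaf n) (x : Fin (n + 1) → ι) :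
    smulCoch M U hle r s x =
      ores (inter_le_of_le U hle x) r • (show Γ(M, inter (X := X.toTopCat) U x) from s x) := rfl

lemma smulCoch_d (hle : ∀ k, U k ≤ W) (r : Γ(X, W)) {n : ℕ}
    (s : Coch (X := X.toTopCat) U M.presheaf n) :
    dCoch (X := X.toTopCat) U M.presheaf n (smulCoch M U hle r s) =
      smulCoch M U hle r (dCoch (X := X.toTopCat) U M.presheaf n s) := by
  ext x
  rw [smulCoch_apply, dCoch_apply, dCoch_apply, Finset.smul_sum]
  refine Finset.sum_congr rfl fun a _ => ?_
  rw [smul_comm]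
  congr 1
  exact (mres_smul M _ _ _).trans (by rw [ores_ores])

/-- If the sections of `M` on each intersection localise at each `f k` to the sections on the
intersection with `U k`, and the powers of the `f k` generate the unit ideal, then the family has no
higher Čech cohomology with values in `M`. -/
theorem cechExact_of_localizing [Finite ι] (hle : ∀ k, U k ≤ W) (f : ι → Γ(X, W))
    (hinj : ∀ (k : ι) (n : ℕ) (x : Fin (n + 1) → ι) (t : Γ(M, inter (X := X.toTopCat) U x)),
      mres M (inf_le_right : U k ⊓ inter (X := X.toTopCat) U x ≤ _) t = 0 →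
        ∃ N : ℕ, ores (inter_le_of_le U hle x) (f k) ^ N • t = 0)
    (hsurj : ∀ (k : ι) (n : ℕ) (x : Fin (n + 1) → ι)
      (s : Γ(M, U k ⊓ inter (X := X.toTopCat) U x)),
        ∃ (N : ℕ) (t : Γ(M, inter (X := X.toTopCat) U x)),
          mres M (inf_le_right : U k ⊓ inter (X := X.toTopCat) U x ≤ _) t =
            ores (inf_le_left.trans (hle k) : U k ⊓ inter (X := X.toTopCat) U x ≤ W) (f k) ^ N • s)
    (hone : ∀ m : ℕ, Ideal.span (Set.range fun k => f k ^ m) = ⊤) (p : ℕ) :
    CechExact (X := X.toTopCat) U M.presheaf p := by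
  classical
  have := Fintype.ofFinite ι
  intro s hs
  have hcons : ∀ (k : ι) {n : ℕ} (x : Fin n → ι),
      U k ⊓ inter (X := X.toTopCat) U x ≤
        inter (X := X.toTopCat) U (Fin.cons k x : Fin (n + 1) → ι) :=
    fun k n x => (inter_cons (X := X.toTopCat) U k x).ge
  choose N₀ u₀ hu₀ using fun (k : ι) (x : Fin (p + 1) → ι) =>
    hsurj k p x (mres M (hcons k x) (s (Fin.cons k x)))
  obtain ⟨N, hN⟩ : ∃ N, ∀ k x, N₀ k x ≤ N :=
    ⟨Finset.univ.sup fun z : ι × (Fin (p + 1) → ι) => N₀ z.1 z.2,
      fun k x => Finset.le_sup (f := fun z : ι × (Fin (p + 1) → ι) => N₀ z.1 z.2)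
        (Finset.mem_univ (k, x))⟩
  let u : ι → Coch (X := X.toTopCat) U M.presheaf p := fun k x =>
    ores (inter_le_of_le U hle x) (f k) ^ (N - N₀ k x) • u₀ k x
  have hu : ∀ k x, mres M (inf_le_right : U k ⊓ inter (X := X.toTopCat) U x ≤ _) (u k x) =
      ores (inf_le_left.trans (hle k) : U k ⊓ inter (X := X.toTopCat) U x ≤ W) (f k) ^ N • mres M (hcons k x) (s (Fin.cons k x)) := by
    intro k x
    rw [mres_smul, hu₀, map_pow, ores_ores, ← mul_smul, ← pow_add, Nat.sub_add_cancel (hN k x)]
  have hker : ∀ k x, ∃ K : ℕ, ores (inter_le_of_le U hle x) (f k) ^ K •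
      ((ores (inter_le_of_le U hle x) (f k) ^ N •
          (show Γ(M, inter (X := X.toTopCat) U x) from s x)) -
        (show Γ(M, inter (X := X.toTopCat) U x) from
          dCoch (X := X.toTopCat) U M.presheaf p (u k) x)) = 0 := by
    intro k x
    refine hinj k (p + 1) x _ ?_
    rw [map_sub, mres_smul, map_pow, ores_ores]
    have h0 := congrArg (res (X := X.toTopCat) M.presheaf (hcons k x)) (congrFun hs (Fin.cons k x))
    rw [dCoch_apply, Fin.sum_univ_succ] at h0
    simp only [map_add, map_sum, map_zsmul, map_neg, res_res, Pi.zero_apply, map_zero, Fin.val_zero,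
      pow_zero, one_smul, Fin.val_succ, pow_succ, mul_neg, mul_one, neg_smul,
      Finset.sum_neg_distrib] at h0
    rw [add_neg_eq_zero] at h0
    rw [sub_eq_zero]
    refine Eq.trans (congrArg _ ((Coch.congr_res (X := X.toTopCat) U M.presheaf s ?_ _ _).trans
      h0)) ?_
    · funext a
      simp
    rw [dCoch_apply, map_sum, Finset.smul_sum]
    refine Finset.sum_congr rfl fun a _ => ?_
    rw [map_zsmul, smul_comm]
    congr 1
    rw [res_res]
    have h1 := congrArg (mres M (inf_le_inf_left (U k)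
      (inter_comp (X := X.toTopCat) U x a.succAbove))) (hu k (x ∘ a.succAbove))
    rw [res_res] at h1
    refine Eq.trans ?_ h1.symm
    rw [mres_smul, map_pow, ores_ores]
    congr 1
    rw [res_res]
    refine Coch.congr_res (X := X.toTopCat) U M.presheaf s ?_ _ _
    funext b
    cases b using Fin.cases <;> simp
  choose K₀ hK₀ using hker
  obtain ⟨K, hK⟩ : ∃ K, ∀ k x, K₀ k x ≤ K :=
    ⟨Finset.univ.sup fun z : ι × (Fin (p + 2) → ι) => K₀ z.1 z.2,
      fun k x => Finset.le_sup (f := fun z : ι × (Fin (p + 2) → ι) => K₀ z.1 z.2)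
        (Finset.mem_univ (k, x))⟩
  have hkey : ∀ k, dCoch (X := X.toTopCat) U M.presheaf p (smulCoch M U hle (f k ^ K) (u k)) =
      smulCoch M U hle (f k ^ (K + N)) s := by
    intro k
    rw [smulCoch_d]
    ext x
    have := congrArg (ores (inter_le_of_le U hle x) (f k) ^ (K - K₀ k x) • ·) (hK₀ k x)
    simp only [smul_zero, ← mul_smul, ← pow_add, Nat.sub_add_cancel (hK k x), smul_sub,
      sub_eq_zero] at this
    rw [smulCoch_apply, smulCoch_apply, map_pow, map_pow]
    rw [show K - K₀ k x + (K₀ k x + N) = K + N by have := hK k x; omega] at this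
    exact this.symm
  obtain ⟨c, hc⟩ : ∃ c : ι → Γ(X, W), ∑ k, c k * f k ^ (K + N) = 1 := by
    have h1 : (1 : Γ(X, W)) ∈ Ideal.span (Set.range fun k => f k ^ (K + N)) := by
      rw [hone]; trivial
    exact Ideal.mem_span_range_iff_exists_fun.mp h1
  refine ⟨∑ k, smulCoch M U hle (c k) (smulCoch M U hle (f k ^ K) (u k)), ?_⟩
  rw [map_sum]
  have hstep : ∀ k, dCoch (X := X.toTopCat) U M.presheaf p
      (smulCoch M U hle (c k) (smulCoch M U hle (f k ^ K) (u k))) =
      smulCoch M U hle (c k) (smulCoch M U hle (f k ^ (K + N)) s) := by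
    intro k
    rw [smulCoch_d, hkey]
  simp only [hstep]
  ext x
  rw [Finset.sum_apply]
  simp only [smulCoch_apply, ← mul_smul, ← map_mul]
  exact (Finset.sum_smul (R := Γ(X, inter (X := X.toTopCat) U x))
    (M := Γ(M, inter (X := X.toTopCat) U x))).symm.trans
      (by rw [← map_sum, hc, map_one]; exact one_smul Γ(X, inter (X := X.toTopCat) U x) _)

end Groth.CohBase
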