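import Groth.Agent.CohBase.Acyclic
import Groth.Agent.CohBase.StdCover
import Mathlib.RingTheory.Ideal.Operations

/-!
# Vanishing of the cohomology of quasi-coherent modules on affine opens
-/

universe u

open CategoryTheory Limits AlgebraicGeometry Opposite TopologicalSpace

namespace Groth.CohBase

variable {X : Scheme.{u}}

/-- The underlying abelian sheaf of a module. -/
noncomputable abbrev abSheaf (M : X.Modules) : AbSheaf X.toTopCat :=
  (SheafOfModules.toSheaf X.ringCatSheaf).obj M

lemma isAffineOpen_inter {W : X.Opens} (hW : IsAffineOpen W) {ι : Type u} (f : ι → Γ(X, W)) :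
    ∀ {n : ℕ} (x : Fin (n + 1) → ι),
      IsAffineOpen (inter (X := X.toTopCat) (fun k => X.basicOpen (f k)) x) := by
  intro n
  induction n with
  | zero => intro x; rw [inter_one]; exact hW.basicOpen _
  | succ n ih =>
    intro x
    rw [← Fin.cons_self_tail x, inter_cons]
    have hV := ih (Fin.tail x)
    have hle := inter_le_of_le (X := X) (W := W) (fun k => X.basicOpen (f k))
      (fun k => X.basicOpen_le (f k)) (Fin.tail x)
    have e := X.basicOpen_res (f (x 0)) (homOfLE hle).op
    rw [inf_comm] at e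
    have h' : X.basicOpen (f (x 0)) ⊓ inter (X := X.toTopCat) (fun k => X.basicOpen (f k)) (Fin.tail x) =
        X.basicOpen (ores hle (f (x 0))) := e.symm
    exact h' ▸ hV.basicOpen _

/-- Čech exactness of a quasi-coherent module for a standard covering of an affine open. -/
theorem cechExact_std (M : X.Modules) [M.IsQuasicoherent] {W : X.Opens} (hW : IsAffineOpen W)
    {ι : Type u} [Finite ι] (f : ι → Γ(X, W)) (hf : Ideal.span (Set.range f) = ⊤) (p : ℕ) :
    CechExact (X := X.toTopCat) (fun k => X.basicOpen (f k)) M.presheaf p := by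
  have hle : ∀ k, X.basicOpen (f k) ≤ W := fun k => X.basicOpen_le (f k)
  have key : ∀ (k : ι) {n : ℕ} (x : Fin (n + 1) → ι),
      X.basicOpen (f k) ⊓ inter (X := X.toTopCat) (fun k => X.basicOpen (f k)) x =
        X.basicOpen (ores (inter_le_of_le _ hle x) (f k)) := by
    intro k n x
    exact ((X.basicOpen_res (f k) (homOfLE (inter_le_of_le _ hle x)).op).trans (inf_comm _ _)).symm
  refine cechExact_of_localizing M _ hle f ?_ ?_ ?_ p
  · intro k n x t ht
    refine (basicOpen_sections M (isAffineOpen_inter hW f x)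
      (ores (inter_le_of_le _ hle x) (f k))).1 t ?_
    have := congrArg (mres M (key k x).ge) ht
    rw [res_res, map_zero] at this
    exact this
  · intro k n x s
    obtain ⟨N, t, ht⟩ := (basicOpen_sections M (isAffineOpen_inter hW f x)
      (ores (inter_le_of_le _ hle x) (f k))).2 (mres M (key k x).ge s)
    refine ⟨N, t, ?_⟩
    have := congrArg (mres M (key k x).le) ht
    rw [res_res, mres_smul, res_res, res_self, map_pow, ores_ores, ores_ores] at this
    exact this
  · intro m
    have := Ideal.span_pow_eq_top _ hf m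
    rwa [← Set.range_comp] at this

/-- Standard coverings of affine opens. -/
def affineCoverSystem (X : Scheme.{u}) : CoverSystem X.toTopCat where
  B W := IsAffineOpen (X := X) W
  adm W ι U := ∃ (_ : IsAffineOpen (X := X) W) (_ : Finite ι) (f : ι → Γ(X, W)),
    Ideal.span (Set.range f) = ⊤ ∧ U = fun k => X.basicOpen (f k)
  le := by
    rintro W ι U ⟨_, _, f, -, rfl⟩ i
    exact X.basicOpen_le _
  cover := by
    rintro W ι U ⟨hW, _, f, hf, rfl⟩
    refine (hW.self_le_iSup_basicOpen_iff.mpr hf).trans (iSup_le ?_)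
    rintro ⟨_, k, rfl⟩
    exact le_iSup (fun k => X.basicOpen (f k)) k
  inter_mem := by
    rintro W ι U ⟨hW, _, f, -, rfl⟩ n x
    exact isAffineOpen_inter hW f x
  refine := by
    intro W hW V hV
    choose f hf hxf using fun x : W => IsAffineOpen.exists_basicOpen_le (X := X) hW
      (V := V x) ⟨x.1, hV x⟩ x.2
    obtain ⟨s, hs⟩ := (IsAffineOpen.isCompact (X := X) hW).elim_finite_subcover
      (fun x : W => (X.basicOpen (f x) : Set X)) (fun x => (X.basicOpen (f x)).2)
      (fun y hy => Set.mem_iUnion.mpr ⟨⟨y, hy⟩, hxf ⟨y, hy⟩⟩)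
    refine ⟨{x // x ∈ s}, fun x => X.basicOpen (f x.1),
      ⟨hW, inferInstance, fun x => f x.1, ?_, rfl⟩, fun i => ⟨i.1, hf i.1⟩⟩
    refine (IsAffineOpen.self_le_iSup_basicOpen_iff (X := X) hW).mp ?_
    intro y hy
    obtain ⟨x, hx, hy'⟩ := Set.mem_iUnion₂.mp (hs hy)
    exact Opens.mem_iSup.mpr ⟨⟨f x, ⟨x, hx⟩, rfl⟩, hy'⟩

lemma affineCoverSystem_acyclic (M : X.Modules) [M.IsQuasicoherent] :
    (affineCoverSystem X).Acyclic M.presheaf := by
  rintro W ι U ⟨hW, _, f, hf, rfl⟩ p
  exact cechExact_std M hW f hf p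

/-- A quasi-coherent module has no higher cohomology on an affine open. -/
theorem hVanish_of_isAffineOpen (M : X.Modules) [M.IsQuasicoherent] {U : X.Opens}
    (hU : IsAffineOpen U) (n : ℕ) : HVanish (X := X.toTopCat) (abSheaf M) (n + 1) U :=
  (affineCoverSystem X).hVanish _ (affineCoverSystem_acyclic M) n hU

end Groth.CohBase
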