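import Groth.Agent.CohBase.Restrict
import Groth.Agent.CohBase.AffineVanishing
import Groth.Agent.QCohMod.Stalk

/-!
# Short exact sequences of modules and cohomology on open subschemes
-/

universe u

open CategoryTheory Limits AlgebraicGeometry TopologicalSpace Opposite

namespace Groth.CohBase

variable {X : Scheme.{u}}

/-- The forgetful functor to abelian sheaves. -/
noncomputable abbrev toAbF (X : Scheme.{u}) : X.Modules ⥤ AbSheaf X.toTopCat :=
  SheafOfModules.toSheaf X.ringCatSheaf

instance : PreservesFiniteColimits (toAbF X) :=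
  ⟨fun J _ _ => QCohMod.preservesColimitsOfShape_toSheaf X.ringCatSheaf J⟩

instance : PreservesFiniteLimits (toAbF X) :=
  inferInstanceAs (PreservesFiniteLimits (SheafOfModules.toSheaf.{u} X.ringCatSheaf))

instance : (toAbF X).Additive :=
  inferInstanceAs (SheafOfModules.toSheaf.{u} X.ringCatSheaf).Additive

lemma shortExact_toAb {S : ShortComplex X.Modules} (hS : S.ShortExact) :
    (S.map (toAbF X)).ShortExact :=
  hS.map_of_exact (toAbF X)

/-- The underlying abelian sheaf of a restriction. -/
lemma abSheaf_restrict {Y : Scheme.{u}} (f : X ⟶ Y) [IsOpenImmersion f] (M : Y.Modules) :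
    abSheaf (M.restrict f) = (restrictAb f.isOpenEmbedding).obj (abSheaf M) := rfl

/-- Cohomology of a restriction along an open immersion. -/
theorem nonempty_equiv_restrict {Y : Scheme.{u}} (f : X ⟶ Y) [IsOpenImmersion f] (M : Y.Modules)
    (n : ℕ) (W : X.Opens) :
    Nonempty ((Sheaf.H' (abSheaf (M.restrict f)) n W : Type u) ≃+
      (Sheaf.H' (abSheaf M) n (f ''ᵁ W) : Type u)) := by
  rw [abSheaf_restrict]
  exact nonempty_equiv_restrictAb f.isOpenEmbedding (abSheaf M) n W

/-- Cohomology of an open subscheme. -/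
theorem nonempty_equiv_HHon (M : X.Modules) (U : X.Opens) (n : ℕ) :
    Nonempty ((Sheaf.H (abSheaf (M.restrict U.ι)) n : Type u) ≃+
      (Sheaf.H' (abSheaf M) n U : Type u)) := by
  obtain ⟨e⟩ := nonempty_equiv_restrict U.ι M n ⊤
  rw [Scheme.Hom.image_top_eq_opensRange, Scheme.Opens.opensRange_ι] at e
  exact ⟨(equivHTop _ n).trans e⟩

lemma hVanish_restrict_iff {Y : Scheme.{u}} (f : X ⟶ Y) [IsOpenImmersion f] (M : Y.Modules)
    (n : ℕ) (W : X.Opens) :
    HVanish (X := X.toTopCat) (abSheaf (M.restrict f)) n W ↔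
      HVanish (X := Y.toTopCat) (abSheaf M) n (f ''ᵁ W) := by
  obtain ⟨e⟩ := nonempty_equiv_restrict f M n W
  exact ⟨fun h => e.symm.toEquiv.subsingleton, fun h => e.toEquiv.subsingleton⟩

end Groth.CohBase
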