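import Groth.Agent.CohBase.RpushSections

/-!
# Higher direct images of modules and of abelian sheaves
-/

universe u

open CategoryTheory Limits AlgebraicGeometry TopologicalSpace Opposite
open CategoryTheory.Abelian (Ext)
open Groth.QCohMod (resFun res_app)

namespace Groth.CohBase

section Sheafify

variable {T : TopCat.{u}} {P : (Opens T)ᵒᵖ ⥤ AddCommGrpCat.{u}} {G : AbSheaf T}

/-- A locally bijective map to a sheaf exhibits it as the associated sheaf. -/
theorem nonempty_sheafify_iso (η : P ⟶ G.obj)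
    (hinj : ∀ (V : Opens T) (s : P.obj (op V)), η.app (op V) s = 0 →
      ∀ x ∈ V, ∃ (W : Opens T) (h : W ≤ V), x ∈ W ∧ P.map (homOfLE h).op s = 0)
    (hsurj : ∀ (V : Opens T) (t : G.obj.obj (op V)), ∀ x ∈ V,
      ∃ (W : Opens T) (h : W ≤ V) (s : P.obj (op W)), x ∈ W ∧
        η.app (op W) s = G.obj.map (homOfLE h).op t) :
    Nonempty ((presheafToSheaf (Opens.grothendieckTopology T) AddCommGrpCat.{u}).obj P ≅ G) := by
  have hi : Presheaf.IsLocallyInjective (Opens.grothendieckTopology T) η := by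
    refine ⟨fun {V} a b h x hx => ?_⟩
    obtain ⟨W, hW, hxW, hz⟩ := hinj V.unop (a - b) (by rw [map_sub]; exact sub_eq_zero.2 h) x hx
    refine ⟨W, homOfLE hW, ?_, hxW⟩
    rw [map_sub, sub_eq_zero] at hz
    exact hz
  have hs : Presheaf.IsLocallySurjective (Opens.grothendieckTopology T) η := by
    refine ⟨fun {V} t x hx => ?_⟩
    obtain ⟨W, hW, s, hxW, hst⟩ := hsurj V t x hx
    exact ⟨W, homOfLE hW, ⟨s, hst⟩, hxW⟩
  have : IsIso ((presheafToSheaf (Opens.grothendieckTopology T) AddCommGrpCat.{u}).map η) :=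
    (GrothendieckTopology.W_iff _ η).1 (GrothendieckTopology.W_of_isLocallyBijective _ η)
  exact ⟨(asIso ((presheafToSheaf (Opens.grothendieckTopology T) AddCommGrpCat.{u}).map η)) ≪≫
    (asIso (sheafificationAdjunction (Opens.grothendieckTopology T) AddCommGrpCat.{u}).counit).app G⟩

end Sheafify

variable {X S Z : Scheme.{u}} (f : X ⟶ S) {M : X.Modules} (I : InjectiveResolution M) (p : ℕ)

/-- Cohomology of preimages, as a presheaf on the target. -/
noncomputable abbrev cohPresheaf : (Opens S.toTopCat)ᵒᵖ ⥤ AddCommGrpCat.{u} :=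
  (Opens.map f.base).op ⋙ Sheaf.cohomologyPresheaf.{u} (abSheaf M) p

/-- Cohomology of a preimage maps to sections of the homology of the direct image. -/
noncomputable def cohToH (V : S.Opens) :
    (Sheaf.H' (abSheaf M) p (f ⁻¹ᵁ V) : Type u) →+ Γ((pushCx f I).homology p, V) :=
  (Res.clsH (Res.ofInjective I) (f ⁻¹ᵁ V) p).liftOfSurjective
    (Res.clsH_surjective (flasque_ofInjective I) _ _)
    ⟨θH f I p V, fun z hz => θH_eq_zero_of_bd f I p z
      ((Res.clsH_eq_zero_iff (flasque_ofInjective I) _ _ z).1 hz)⟩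

lemma cohToH_clsH (V : S.Opens) (z : (Res.ofInjective I).Cyc (f ⁻¹ᵁ V) p) :
    cohToH f I p V (Res.clsH (Res.ofInjective I) (f ⁻¹ᵁ V) p z) = θH f I p V z :=
  AddMonoidHom.liftOfRightInverse_comp_apply _ _ _ _ z

lemma cohToH_res {V W : S.Opens} (h : W ≤ V) (ξ : (Sheaf.H' (abSheaf M) p (f ⁻¹ᵁ V) : Type u)) :
    QCohMod.res _ h (cohToH f I p V ξ) =
      cohToH f I p W ((cohPresheaf f (M := M) p).map (homOfLE h).op ξ) := by
  obtain ⟨z, rfl⟩ := Res.clsH_surjective (flasque_ofInjective I) (f ⁻¹ᵁ V) p ξ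
  rw [cohToH_clsH, θH_res, ← cohToH_clsH]
  exact congrArg (cohToH f I p W) (Res.clsH_res _ (f.preimage_mono h) p z)

/-- The comparison as a map of presheaves. -/
noncomputable def cohToHNat :
    cohPresheaf f (M := M) p ⟶ ((toAbF S).obj ((pushCx f I).homology p)).obj where
  app V := AddCommGrpCat.ofHom (cohToH f I p V.unop)
  naturality V W i := by
    ext ξ
    exact (cohToH_res f I p (leOfHom i.unop) ξ).symm

lemma cohToH_locally_inj {V : S.Opens} (ξ : (Sheaf.H' (abSheaf M) p (f ⁻¹ᵁ V) : Type u))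
    (hξ : cohToH f I p V ξ = 0) (x : S) (hx : x ∈ V) :
    ∃ (W : S.Opens) (h : W ≤ V), x ∈ W ∧ (cohPresheaf f (M := M) p).map (homOfLE h).op ξ = 0 := by
  obtain ⟨z, rfl⟩ := Res.clsH_surjective (flasque_ofInjective I) (f ⁻¹ᵁ V) p ξ
  rw [cohToH_clsH] at hξ
  obtain ⟨W, h, hxW, hW⟩ := (θH_eq_zero_iff f I p z).1 hξ x hx
  refine ⟨W, h, hxW, (Res.clsH_res _ (f.preimage_mono h) p z).symm.trans ?_⟩
  exact (Res.clsH_eq_zero_iff (flasque_ofInjective I) _ _ _).2 hW

lemma cohToH_bijective [QuasiCompact f] [QuasiSeparated f] [M.IsQuasicoherent] {V : S.Opens}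
    (hV : IsAffineOpen V) : Function.Bijective (cohToH f I p V) := by
  refine ⟨(injective_iff_map_eq_zero _).2 fun ξ hξ => ?_, fun s => ?_⟩
  · obtain ⟨z, rfl⟩ := Res.clsH_surjective (flasque_ofInjective I) (f ⁻¹ᵁ V) p ξ
    rw [cohToH_clsH] at hξ
    exact (Res.clsH_eq_zero_iff (flasque_ofInjective I) _ _ _).2 (θH_ker f I p hV z hξ)
  · obtain ⟨z, rfl⟩ := θH_surjective f I p hV s
    exact ⟨_, cohToH_clsH f I p V z⟩

/-- The abelian higher direct image is the homology of the direct image of a resolution. -/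
theorem nonempty_RpushAb_iso_homology :
    Nonempty ((Coh.RpushAb f p).obj (Coh.toAb M) ≅ (toAbF S).obj ((pushCx f I).homology p)) := by
  obtain ⟨a⟩ := Groth.SiteCohomology.nonempty_Rpush_top_iso f.base (abSheaf M) p
  obtain ⟨b⟩ := nonempty_sheafify_iso (cohToHNat f I p)
    (fun V s hs x hx => cohToH_locally_inj f I p s hs x hx)
    (fun V t x hx => by
      obtain ⟨W, h, z, hxW, hz⟩ := θH_exists_local f I p t x hx
      exact ⟨W, h, _, hxW, (cohToH_clsH f I p W z).trans hz⟩)
  exact ⟨a ≪≫ b⟩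

/-- The underlying sheaf of the higher direct image of a module. -/
theorem nonempty_toAb_Rpush_iso [HasInjectiveResolutions X.Modules] :
    Nonempty (Coh.toAb ((Coh.Rpush f p).obj M) ≅ (Coh.RpushAb f p).obj (Coh.toAb M)) := by
  obtain ⟨a⟩ := nonempty_RpushAb_iso_homology f (injectiveResolution M) p
  exact ⟨(toAbF S).mapIso ((injectiveResolution M).isoRightDerivedObj (Coh.push f) p) ≪≫ a.symm⟩

/-- Higher direct images of quasi-coherent modules are quasi-coherent. -/
theorem isQCoh_Rpush [HasInjectiveResolutions X.Modules] [QuasiCompact f] [QuasiSeparated f]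
    [M.IsQuasicoherent] : ((Coh.Rpush f p).obj M).IsQuasicoherent :=
  (QCohMod.isQCoh_iff_of_iso ((injectiveResolution M).isoRightDerivedObj (Coh.push f) p).symm).mp
    (isQCoh_homology_pushCx f _ p)

/-- Sections over affine opens of higher direct images. -/
theorem nonempty_RpushAb_sections [QuasiCompact f] [QuasiSeparated f] [M.IsQuasicoherent]
    {V : S.Opens} (hV : IsAffineOpen V) :
    Nonempty (((Coh.RpushAb f p).obj (Coh.toAb M)).obj.obj (op V) ≃+
      (Sheaf.H' (abSheaf M) p (f ⁻¹ᵁ V) : Type u)) := by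
  obtain ⟨a⟩ := nonempty_RpushAb_iso_homology f (injectiveResolution M) p
  obtain ⟨b⟩ := nonempty_sections_equiv f (injectiveResolution M) p hV
  exact ⟨((sheafToPresheaf _ _ ⋙ (evaluation _ _).obj (op V)).mapIso
    a).addCommGroupIsoToAddEquiv.trans b⟩

/-- Higher direct images commute with direct image along an affine morphism. -/
theorem nonempty_RpushAb_comp_affine (g : S ⟶ Z) [IsAffineHom g] [QuasiCompact f]
    [QuasiSeparated f] [M.IsQuasicoherent] :
    Nonempty ((Coh.RpushAb (f ≫ g) p).obj (Coh.toAb M) ≅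
      (Coh.pushAb g).obj ((Coh.RpushAb f p).obj (Coh.toAb M))) := by
  let J := injectiveResolution M
  obtain ⟨a⟩ := Groth.SiteCohomology.nonempty_Rpush_top_iso (f ≫ g).base (abSheaf M) p
  obtain ⟨c⟩ := nonempty_RpushAb_iso_homology f J p
  obtain ⟨b⟩ := nonempty_sheafify_iso
    (G := (Coh.pushAb g).obj ((toAbF S).obj ((pushCx f J).homology p)))
    (Functor.whiskerLeft (Opens.map g.base).op (cohToHNat f J p))
    (fun V s hs x hx => by
      obtain ⟨W, hW, hxW, hWV⟩ := exists_isAffineOpen_mem_and_subset hx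
      refine ⟨W, hWV, hxW, ?_⟩
      apply (cohToH_bijective f J p (hW.preimage g)).1
      refine (cohToH_res f J p (g.preimage_mono hWV) s).symm.trans ?_
      rw [map_zero]
      exact (congrArg (QCohMod.res _ (g.preimage_mono hWV)) hs).trans (map_zero _))
    (fun V t x hx => by
      obtain ⟨W, hW, hxW, hWV⟩ := exists_isAffineOpen_mem_and_subset hx
      obtain ⟨s, hs⟩ := (cohToH_bijective f J p (hW.preimage g)).2
        (QCohMod.res ((pushCx f J).homology p) (g.preimage_mono hWV) t)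
      exact ⟨W, hWV, s, hxW, hs⟩)
  exact ⟨a ≪≫ b ≪≫ (Coh.pushAb g).mapIso c.symm⟩

end Groth.CohBase
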