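import Groth.Agent.CohBase.LocalModel
import Groth.Agent.LocFree.Affine
import Groth.Agent.QCohMod.OpenSupport
import Groth.Agent.CohBase.RpushAb

/-!
# Vanishing and local freeness of higher direct images from the fibres
-/

universe u

open CategoryTheory Limits AlgebraicGeometry TopologicalSpace Opposite HomologicalComplex
open scoped TensorProduct

namespace Groth.CohBase

open CxRank Groth.FlatCxBase

section Alg

variable {A : Type u} [CommRing A] (L : CochainComplex (ModuleCat.{u} A) ℤ)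
  [∀ i, Module.Finite A (L.X i)]

namespace CxRank

/-- The fibre dimension only depends on the prime. -/
theorem finrank_ker_eq (j : ℤ) (x : PrimeSpectrum A) (K K' : Type u) [Field K] [Algebra A K]
    [Field K'] [Algebra A K'] (hK : RingHom.ker (algebraMap A K) = x.asIdeal)
    (hK' : RingHom.ker (algebraMap A K') = x.asIdeal) :
    Module.finrank K (LinearMap.ker ((dq L j).baseChange K)) =
      Module.finrank K' (LinearMap.ker ((dq L j).baseChange K')) := by
  have h := kdim_ker_add L K j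
  have h' := kdim_ker_add L K' j
  rw [kdim_eq_fdim K _ x hK, kdim_eq_fdim K _ x hK, kdim_eq_fdim K _ x hK] at h
  rw [kdim_eq_fdim K' _ x hK', kdim_eq_fdim K' _ x hK', kdim_eq_fdim K' _ x hK'] at h'
  omega

theorem injective_of_finrank_ker_eq_zero (j : ℤ) (K : Type u) [Field K] [Algebra A K]
    (h : Module.finrank K (LinearMap.ker ((dq L j).baseChange K)) = 0) :
    Function.Injective ((dq L j).lTensor K) := by
  have hsub : Subsingleton (LinearMap.ker ((dq L j).baseChange K)) :=
    Module.finrank_zero_iff.1 h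
  have : LinearMap.ker ((dq L j).baseChange K) = ⊥ := Submodule.eq_bot_of_subsingleton
  exact fun a b hab => LinearMap.ker_eq_bot.1 this hab

end CxRank

end Alg

variable {X S : Scheme.{u}} (f : X ⟶ S) (M : X.Modules) {V : S.Opens} (hV : IsAffineOpen V)

/-- The functions vanishing at a point of an affine open. -/
lemma ker_evaluation (y : S) (hy : y ∈ V) :
    RingHom.ker (S.evaluation V y hy).hom = (hV.primeIdealOf ⟨y, hy⟩).asIdeal := by
  ext a
  rw [RingHom.mem_ker, ← not_iff_not]
  exact (S.evaluation_ne_zero_iff_mem_basicOpen y hy a).trans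
    (Groth.QCohMod.mem_basicOpen_iff_notMem_primeIdealOf hV a y hy)

lemma exists_primeIdealOf_eq (x : PrimeSpectrum Γ(S, V)) :
    ∃ (y : S) (hy : y ∈ V), hV.primeIdealOf ⟨y, hy⟩ = x := by
  have hy : hV.fromSpec x ∈ V := by
    change hV.fromSpec x ∈ (V : Set S)
    rw [← hV.range_fromSpec]
    exact ⟨x, rfl⟩
  exact ⟨_, hy, hV.fromSpec.isOpenEmbedding.injective (hV.fromSpec_primeIdealOf ⟨_, hy⟩)⟩

section

variable (L : CochainComplex (ModuleCat.{u} Γ(S, V)) ℤ)

/-- The properties of the complex computing the cohomology over `V`. -/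
structure IsModel [HasInjectiveResolutions X.Modules] : Prop where
  finite : ∀ i, Module.Finite Γ(S, V) (L.X i)
  free : ∀ i, Module.Free Γ(S, V) (L.X i)
  bdd : ∃ b : ℤ, ∀ i, b < i → IsZero (L.X i)
  isZero_neg : ∀ (j : ℤ) (N : ModuleCat.{u} Γ(S, V)), j < 0 → IsZero (CohIII.T L j N)
  sections : ∀ p : ℕ, Nonempty (Γ((Coh.Rpush f p).obj M, V) ≃ₗ[Γ(S, V)] Hk L (p : ℤ))
  fibres : ∀ (p : ℕ) (y : S) (hy : y ∈ V),
    letI := (S.evaluation V y hy).hom.toAlgebra
    Nonempty (CohIII.fiberH f M y p ≃ₗ[S.residueField y]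
      LinearMap.ker ((dq L (p : ℤ)).baseChange (S.residueField y)))

end

variable [IsProper f] [IsLocallyNoetherian S] [HasInjectiveResolutions X.Modules]

include hV in
theorem exists_isModel (hM : Coh.IsCoh M) (hfl : FlatMod.IsFlatOver f M) :
    ∃ L : CochainComplex (ModuleCat.{u} Γ(S, V)) ℤ, IsModel f M L := by
  obtain ⟨L, h₁, h₂, h₃, h₄, h₅⟩ := exists_local_model f M hM hfl hV
  exact ⟨L, ⟨fun i => (h₁ i).1, fun i => (h₁ i).2, h₂, h₃, h₄, h₅⟩⟩

namespace IsModel

variable {f M} {L : CochainComplex (ModuleCat.{u} Γ(S, V)) ℤ} (hL : IsModel f M L)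
include hL

omit [IsProper f] [IsLocallyNoetherian S] in
lemma flat (i : ℤ) : Module.Flat Γ(S, V) (L.X i) :=
  have := hL.free i
  inferInstance

omit [IsProper f] [IsLocallyNoetherian S] in
lemma fiberRank_eq (p : ℕ) (y : S) (hy : y ∈ V) (K : Type u) [Field K] [Algebra Γ(S, V) K]
    (hK : RingHom.ker (algebraMap Γ(S, V) K) = (hV.primeIdealOf ⟨y, hy⟩).asIdeal) :
    CohIII.fiberRank f M p y =
      Module.finrank K (LinearMap.ker ((dq L (p : ℤ)).baseChange K)) := by
  have := hL.finite
  let : Algebra Γ(S, V) (S.residueField y) := (S.evaluation V y hy).hom.toAlgebra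
  obtain ⟨e⟩ := hL.fibres p y hy
  exact e.finrank_eq.trans (finrank_ker_eq L _ _ _ _ (ker_evaluation hV y hy) hK)

omit [IsProper f] [IsLocallyNoetherian S] in
lemma injective_residueField (p : ℕ) (y : S) (hy : y ∈ V)
    (h : Subsingleton (CohIII.fiberH f M y p)) :
    Function.Injective ((dq L (p : ℤ)).lTensor (hV.primeIdealOf ⟨y, hy⟩).asIdeal.ResidueField) := by
  have := hL.finite
  refine injective_of_finrank_ker_eq_zero L _ _ ?_
  rw [← hL.fiberRank_eq hV p y hy _ (Ideal.ker_algebraMap_residueField _)]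
  exact Module.finrank_zero_of_subsingleton

omit [IsProper f] [IsLocallyNoetherian S] in
include hV in
lemma flat_Qc_succ (p : ℕ) (h : ∀ y ∈ V, Subsingleton (CohIII.fiberH f M y p)) :
    Module.Flat Γ(S, V) (Qc L ((p : ℤ) + 1)) := by
  have := hL.finite
  have := hL.flat
  refine flat_of_injective_residue L _ fun m hm => ?_
  obtain ⟨y, hy, hx⟩ := exists_primeIdealOf_eq hV ⟨m, hm.isPrime⟩
  have := h y hy
  let : Field (Γ(S, V) ⧸ m) := Ideal.Quotient.field m
  refine injective_of_finrank_ker_eq_zero L _ _ ?_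
  rw [← hL.fiberRank_eq hV p y hy _ (by rw [hx, Ideal.Quotient.algebraMap_eq, Ideal.mk_ker])]
  exact Module.finrank_zero_of_subsingleton

omit [IsProper f] [IsLocallyNoetherian S] in
lemma flat_Qc_zero : Module.Flat Γ(S, V) (Qc L 0) := by
  have := hL.flat
  exact flat_Qc_succ_of_isZero L (-1) fun N => hL.isZero_neg (-1) N (by omega)

omit [IsProper f] [IsLocallyNoetherian S] in
include hV in
lemma notMem_support (p : ℕ) (y : S) (hy : y ∈ V) (h : Subsingleton (CohIII.fiberH f M y p)) :
    hV.primeIdealOf ⟨y, hy⟩ ∉ Module.support Γ(S, V) (Hk L (p : ℤ)) := by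
  have := hL.finite
  have := hL.flat
  exact notMem_support_of_injective L _ _ (hL.injective_residueField hV p y hy h)

omit [IsProper f] [IsLocallyNoetherian S] in
include hV in
lemma subsingleton_Hk (p : ℕ) (h : ∀ y ∈ V, Subsingleton (CohIII.fiberH f M y p)) :
    Subsingleton (Hk L (p : ℤ)) := by
  rw [← Module.support_eq_empty_iff (R := Γ(S, V))]
  refine Set.eq_empty_of_forall_notMem fun x => ?_
  obtain ⟨y, hy, rfl⟩ := exists_primeIdealOf_eq hV x
  exact hL.notMem_support hV p y hy (h y hy)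

include hV in
lemma exists_iso_free (hM : Coh.IsCoh M) (p : ℕ) (h : Module.Flat Γ(S, V) (Qc L (p : ℤ)))
    (h' : Module.Flat Γ(S, V) (Qc L ((p : ℤ) + 1))) :
    (Module.Finite Γ(S, V) Γ((Coh.Rpush f p).obj M, V) ∧
      Module.Projective Γ(S, V) Γ((Coh.Rpush f p).obj M, V)) ∧
    ∀ y ∈ V, ∃ U : S.Opens, y ∈ U ∧ Nonempty (((Coh.Rpush f p).obj M).restrict U.ι ≅
      FlatMod.freeMod (↑U) (CohIII.fiberRank f M p y)) := by
  have := hM.1
  have : IsNoetherianRing Γ(S, V) := IsLocallyNoetherian.component_noetherian ⟨V, hV⟩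
  have := hL.finite
  have := hL.flat
  let R := (Coh.Rpush f p).obj M
  have : R.IsQuasicoherent := isQCoh_Rpush f p
  obtain ⟨e⟩ := hL.sections p
  have := flat_Hk L _ h h'
  have : Module.Finite Γ(S, V) (Hk L (p : ℤ)) := finite_Hk L _
  have : Module.Finite Γ(S, V) Γ(R, V) := Module.Finite.equiv e.symm
  have : Module.Flat Γ(S, V) Γ(R, V) := Module.Flat.of_linearEquiv e
  have : Module.FinitePresentation Γ(S, V) Γ(R, V) := Module.finitePresentation_of_finite _ _
  have : Module.Projective Γ(S, V) Γ(R, V) := Module.Flat.projective_of_finitePresentation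
  refine ⟨⟨inferInstance, inferInstance⟩, fun y hy => ?_⟩
  have : Module.Free (S.presheaf.stalk y) (R.presheaf.stalk y) :=
    (LocFree.mem_freeLocus_iff hV hy).1
      (Module.freeLocus_eq_univ (R := Γ(S, V)) (M := Γ(R, V)) ▸ trivial)
  obtain ⟨g, n, m, hg, hn, hm⟩ := LocFree.exists_basis_of_free_stalk (M := R) hV hy
  obtain ⟨t⟩ := LocFree.nonempty_iso_of_basis hm
  refine ⟨S.basicOpen g, hg, ⟨?_⟩⟩
  have hrank : n = CohIII.fiberRank f M p y := by
    rw [hn, Module.rankAtStalk_eq_of_equiv e, hL.fiberRank_eq hV p y hy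
      (hV.primeIdealOf ⟨y, hy⟩).asIdeal.ResidueField (Ideal.ker_algebraMap_residueField _)]
    exact rankAtStalk_Hk L _ h h' _ _ (Ideal.ker_algebraMap_residueField _)
  rw [← hrank]
  exact t

include hV in
lemma exists_isZero_restrict (hM : Coh.IsCoh M) (p : ℕ) (y : S) (hy : y ∈ V)
    (h : Subsingleton (CohIII.fiberH f M y p)) :
    ∃ U : S.Opens, y ∈ U ∧ IsZero (((Coh.Rpush f p).obj M).restrict U.ι) := by
  have := hM.1
  have : IsNoetherianRing Γ(S, V) := IsLocallyNoetherian.component_noetherian ⟨V, hV⟩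
  have := hL.finite
  let R := (Coh.Rpush f p).obj M
  have : R.IsQuasicoherent := isQCoh_Rpush f p
  obtain ⟨e⟩ := hL.sections p
  have hsupp : IsClosed (Module.support Γ(S, V) (Hk L (p : ℤ))) := by
    rw [Module.support_eq_zeroLocus]
    exact PrimeSpectrum.isClosed_zeroLocus _
  obtain ⟨_, ⟨g, rfl⟩, hxg, hgs⟩ := PrimeSpectrum.isTopologicalBasis_basic_opens.exists_subset_of_mem_open
    (hL.notMem_support hV p y hy h) hsupp.isOpen_compl
  refine ⟨S.basicOpen g, ?_, ?_⟩
  · exact (Groth.QCohMod.mem_basicOpen_iff_notMem_primeIdealOf hV g y hy).2 hxg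
  refine (Groth.QCohMod.isZero_restrict_iff_stalk R _).2 fun z hz => ?_
  have hzV : z ∈ V := S.basicOpen_le g hz
  have hns : hV.primeIdealOf ⟨z, hzV⟩ ∉ Module.support Γ(S, V) Γ(R, V) := by
    rw [e.support_eq]
    exact hgs ((Groth.QCohMod.mem_basicOpen_iff_notMem_primeIdealOf hV g z hzV).1 hz)
  rw [Module.notMem_support_iff] at hns
  let _ := Groth.QCohMod.stalkModule R z hzV
  have := Groth.QCohMod.isLocalizedModule_germ R hV z hzV
  have : Subsingleton (R.presheaf.stalk z) :=
    (IsLocalizedModule.iso (hV.primeIdealOf ⟨z, hzV⟩).asIdeal.primeCompl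
      (Groth.QCohMod.germₗ R z hzV)).symm.toEquiv.subsingleton
  exact @AddCommGrpCat.isZero_of_subsingleton _ this

end IsModel

end Groth.CohBase
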