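import Groth.Agent.FlatCxBase.Core
import Mathlib.RingTheory.Noetherian.Basic
import Mathlib.RingTheory.Finiteness.Cardinality
import Mathlib.Algebra.Homology.QuasiIso

/-!
# Finite free replacements of complexes with finite cohomology
-/

universe u

open CategoryTheory CategoryTheory.Limits HomologicalComplex

namespace Groth.CohBase.FiniteFree

variable {A : Type u} [CommRing A] (C : CochainComplex (ModuleCat.{u} A) ℤ)

/-- A stage of the construction. -/
structure St (n : ℤ) where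
  /-- the rank -/
  r : ℕ
  /-- the map to the complex -/
  φ : (Fin r → A) →ₗ[A] C.X n
  /-- the cocycles -/
  Z : Submodule A (Fin r → A)
  cyc : ∀ z ∈ Z, C.d n (n + 1) (φ z) = 0
  surj : ∀ c, C.d n (n + 1) c = 0 → ∃ z ∈ Z, ∃ w, φ z + C.d (n - 1) n w = c

variable {C}

/-- A step of the construction. -/
structure Nxt {n : ℤ} (m : ℤ) (s : St C n) where
  /-- the new stage -/
  t : St C m
  /-- the differential -/
  δ : (Fin t.r → A) →ₗ[A] (Fin s.r → A)
  range_le : LinearMap.range δ ≤ s.Z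
  comm : ∀ x, C.d m n (t.φ x) = s.φ (δ x)
  Z_eq : t.Z = LinearMap.ker δ
  inj : ∀ z ∈ s.Z, (∃ w, C.d m n w = s.φ z) → z ∈ LinearMap.range δ

/-- The linear map sending the standard basis to a family. -/
noncomputable def lc {M : Type u} [AddCommGroup M] [Module A M] {r : ℕ} (v : Fin r → M) :
    (Fin r → A) →ₗ[A] M :=
  Fintype.linearCombination A v

lemma lc_apply {M : Type u} [AddCommGroup M] [Module A M] {r : ℕ} (v : Fin r → M) (x : Fin r → A) :
    lc v x = ∑ i, x i • v i := rfl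

variable [IsNoetherianRing A]

theorem nonempty_nxt (hfin : ∀ i, Module.Finite A (C.homology i)) {n : ℤ} (m : ℤ) (h : m + 1 = n)
    (s : St C n) : Nonempty (Nxt m s) := by
  classical
  subst h
  let N : Submodule A (Fin s.r → A) := s.Z ⊓ (LinearMap.range (C.d m (m + 1)).hom).comap s.φ
  obtain ⟨a, k, hk⟩ := Submodule.fg_iff_exists_fin_generating_family.1 (IsNoetherian.noetherian N)
  have hkN : ∀ i, k i ∈ N := fun i => hk ▸ Submodule.subset_span ⟨i, rfl⟩
  choose c hc using fun i => (hkN i).2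
  have := hfin m
  obtain ⟨b, g, hg⟩ := Submodule.fg_iff_exists_fin_generating_family.1
    (Module.finite_def.1 this : (⊤ : Submodule A (C.homology m)).FG)
  choose z hz using fun i => FlatCxBase.cls_surjective (K := C) m (g i)
  have hnext : (ComplexShape.up ℤ).next m = m + 1 := FlatCxBase.cochain_next m
  have hz0 : ∀ i, C.d m (m + 1) (z i).1 = 0 := by
    intro i
    have h0 := (z i).2
    rw [LinearMap.mem_ker] at h0
    exact hnext ▸ h0
  let δ : (Fin (a + b) → A) →ₗ[A] (Fin s.r → A) := lc (Fin.append k (0 : Fin b → Fin s.r → A))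
  let φ : (Fin (a + b) → A) →ₗ[A] C.X m := lc (Fin.append c fun i => (z i).1)
  have hcomm : ∀ x, C.d m (m + 1) (φ x) = s.φ (δ x) := fun x => by
    simp only [φ, δ, lc_apply]
    refine ((map_sum (C.d m (m + 1)).hom _ _).trans ?_).trans (map_sum s.φ _ _).symm
    refine Finset.sum_congr rfl fun i _ => ?_
    refine ((map_smul (C.d m (m + 1)).hom (x i) _).trans ?_).trans (map_smul s.φ _ _).symm
    refine congrArg (x i • ·) ?_
    cases i using Fin.addCases with
    | left i => rw [Fin.append_left, Fin.append_left]; exact hc i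
    | right i =>
      rw [Fin.append_right, Fin.append_right, Pi.zero_apply, map_zero]
      exact hz0 i
  have hN : LinearMap.range δ = N := by
    rw [← hk]
    refine le_antisymm ?_ (Submodule.span_le.2 ?_)
    · rintro _ ⟨x, rfl⟩
      simp only [δ, lc_apply, Fin.sum_univ_add, Fin.append_left, Fin.append_right, Pi.zero_apply,
        smul_zero, Finset.sum_const_zero, add_zero]
      exact Submodule.sum_mem _ fun i _ =>
        Submodule.smul_mem _ _ (Submodule.subset_span ⟨i, rfl⟩)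
    · rintro _ ⟨i, rfl⟩
      refine ⟨Pi.single (Fin.castAdd b i) 1, ?_⟩
      simp [δ, lc]
  refine ⟨⟨⟨a + b, φ, LinearMap.ker δ, fun x hx => by
      rw [hcomm, LinearMap.mem_ker.1 hx, map_zero], fun e he => ?_⟩, δ,
    hN.le.trans inf_le_left, hcomm, rfl, fun x hx ⟨w, hw⟩ => hN.ge ⟨hx, ⟨w, hw⟩⟩⟩⟩
  let e' : LinearMap.ker (C.d m ((ComplexShape.up ℤ).next m)).hom :=
    ⟨e, LinearMap.mem_ker.2 (hnext.symm ▸ he)⟩
  obtain ⟨coef, hcoef⟩ := (Submodule.mem_span_range_iff_exists_fun A).1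
    (hg.ge (Submodule.mem_top (x := FlatCxBase.cls C m e')))
  let x : Fin (a + b) → A := Fin.append 0 coef
  have hx : φ x = ∑ i, coef i • (z i).1 := by
    simp [φ, x, lc_apply, Fin.sum_univ_add]
  have h0 : FlatCxBase.cls C m (e' - ∑ i, coef i • z i) = 0 := by
    rw [map_sub, map_sum, sub_eq_zero, ← hcoef]
    exact Finset.sum_congr rfl fun i _ => by rw [map_smul, hz]
  obtain ⟨w, hw⟩ := (FlatCxBase.cls_eq_zero_iff m (FlatCxBase.cochain_prev m) _).1 h0
  refine ⟨x, ?_, w, ?_⟩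
  · simp [LinearMap.mem_ker, δ, x, lc_apply, Fin.sum_univ_add]
  · rw [hx, hw]
    simp [e']

variable (hfin : ∀ i, Module.Finite A (C.homology i)) (b : ℤ)
  (hb : ∀ i, b < i → IsZero (C.homology i))

omit [IsNoetherianRing A] in
include hb in
/-- The first stage. -/
theorem exists_init : ∃ s : St C (b + 1 - ((0 : ℕ) : ℤ)), s.r = 0 := by
  refine ⟨⟨0, 0, ⊤, fun z _ => by simp, fun c hc => ?_⟩, rfl⟩
  obtain ⟨w, hw⟩ := (FlatCxBase.isZero_homology_iff (K := C) (FlatCxBase.cochain_prev _)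
    (FlatCxBase.cochain_next _)).1 (hb _ (by simp)) c hc
  exact ⟨0, trivial, w, by rw [map_zero, zero_add, hw]⟩

/-- The stages. -/
noncomputable def seq : ∀ k : ℕ, St C (b + 1 - (k : ℤ))
  | 0 => (exists_init b hb).choose
  | k + 1 => ((nonempty_nxt hfin (b + 1 - ((k + 1 : ℕ) : ℤ))
      (by push_cast; ring) (seq k)).some).t

/-- The successive steps. -/
noncomputable def nxt (k : ℕ) : Nxt (b + 1 - ((k + 1 : ℕ) : ℤ)) (seq hfin b hb k) :=
  (nonempty_nxt hfin (b + 1 - ((k + 1 : ℕ) : ℤ)) (by push_cast; ring) (seq hfin b hb k)).some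

/-- The terms, indexed by the distance to the top. -/
noncomputable abbrev Lk (k : ℕ) : ModuleCat.{u} A := ModuleCat.of A (Fin (seq hfin b hb k).r → A)

/-- The differential between two terms. -/
noncomputable def dd (k k' : ℕ) : Lk hfin b hb k ⟶ Lk hfin b hb k' :=
  if h : k = k' + 1 then
    eqToHom (by subst h; rfl) ≫ ModuleCat.ofHom (nxt hfin b hb k').δ
  else 0

lemma dd_succ (k : ℕ) : dd hfin b hb (k + 1) k = ModuleCat.ofHom (nxt hfin b hb k).δ := by
  rw [dd, dif_pos rfl]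
  exact Category.id_comp _

lemma dd_dd (i j l : ℕ) : dd hfin b hb i j ≫ dd hfin b hb j l = 0 := by
  by_cases h₁ : i = j + 1
  · by_cases h₂ : j = l + 1
    · subst h₁ h₂
      rw [dd_succ, dd_succ]
      refine ModuleCat.hom_ext (LinearMap.ext fun x => ?_)
      have hx := (nxt hfin b hb (l + 1)).range_le ⟨x, rfl⟩
      rw [show (seq hfin b hb (l + 1)).Z = LinearMap.ker (nxt hfin b hb l).δ from
        (nxt hfin b hb l).Z_eq] at hx
      exact hx
    · rw [dd, dd, dif_neg h₂, comp_zero]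
  · rw [dd, dif_neg h₁, zero_comp]

/-- The distance to the top. -/
def kOf (i : ℤ) : ℕ := (b + 1 - i).toNat

/-- The finite free complex. -/
noncomputable def cx : CochainComplex (ModuleCat.{u} A) ℤ :=
  CochainComplex.of (fun i => Lk hfin b hb (kOf b i))
    (fun i => dd hfin b hb (kOf b i) (kOf b (i + 1))) fun _ => dd_dd hfin b hb _ _ _

lemma subsingleton_of_kOf_eq_zero {k : ℕ} (h : k = 0) : Subsingleton (Lk hfin b hb k) := by
  subst h
  have : (seq hfin b hb 0).r = 0 := (exists_init b hb).choose_spec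
  refine ⟨fun x y => funext fun i => absurd i.2 (by omega)⟩

lemma subsingleton_cx {i : ℤ} (h : b < i) : Subsingleton ((cx hfin b hb).X i) :=
  subsingleton_of_kOf_eq_zero hfin b hb (by unfold kOf; omega)

/-- The comparison in a fixed degree. -/
noncomputable def toC (k : ℕ) (i : ℤ) : Lk hfin b hb k ⟶ C.X i :=
  if h : b + 1 - (k : ℤ) = i then
    ModuleCat.ofHom (seq hfin b hb k).φ ≫ (C.XIsoOfEq h).hom
  else 0

lemma toC_self (k : ℕ) :
    toC hfin b hb k (b + 1 - (k : ℤ)) = ModuleCat.ofHom (seq hfin b hb k).φ := by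
  rw [toC, dif_pos rfl]
  simp

lemma toC_d (k k' : ℕ) (i j : ℤ) (hk : k = k' + 1) (hi : b + 1 - (k : ℤ) = i)
    (hj : b + 1 - (k' : ℤ) = j) :
    toC hfin b hb k i ≫ C.d i j = dd hfin b hb k k' ≫ toC hfin b hb k' j := by
  subst hk hi hj
  rw [toC_self, toC_self, dd_succ]
  exact ModuleCat.hom_ext (LinearMap.ext fun x => (nxt hfin b hb k').comm x)

/-- The comparison map. -/
noncomputable def ψ : cx hfin b hb ⟶ C where
  f i := toC hfin b hb (kOf b i) i
  comm' i j hij := by
    obtain rfl : i + 1 = j := hij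
    change toC hfin b hb (kOf b i) i ≫ C.d i (i + 1) =
      CochainComplex.of.d _ (fun i => dd hfin b hb (kOf b i) (kOf b (i + 1))) i (i + 1) ≫ _
    rw [CochainComplex.of_d]
    by_cases h : b < i
    · have := subsingleton_cx hfin b hb h
      exact (ModuleCat.isZero_of_subsingleton ((cx hfin b hb).X i)).eq_of_src _ _
    · exact toC_d hfin b hb _ _ _ _ (by unfold kOf; omega) (by unfold kOf; omega)
        (by unfold kOf; omega)

lemma ψ_bijective (i : ℤ) : Function.Bijective (homologyMap (ψ hfin b hb) i) := by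
  have hp : (ComplexShape.up ℤ).prev i = i - 1 := FlatCxBase.cochain_prev i
  have hn : (ComplexShape.up ℤ).next i = i + 1 := FlatCxBase.cochain_next i
  refine ⟨(FlatCxBase.homologyMap_injective_iff (ψ hfin b hb) hp hn).2 fun x hx hy => ?_,
    (FlatCxBase.homologyMap_surjective_iff (ψ hfin b hb) hp hn).2 fun y hy => ?_⟩
  · by_cases h : b < i
    · have := subsingleton_cx hfin b hb h
      exact ⟨0, Subsingleton.elim _ _⟩
    · obtain ⟨k, hk, rfl⟩ : ∃ k : ℕ, 1 ≤ k ∧ i = b + 1 - (k : ℤ) :=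
        ⟨(b + 1 - i).toNat, by omega, by omega⟩
      obtain ⟨k, rfl⟩ : ∃ k', k = k' + 1 := ⟨k - 1, by omega⟩
      have hk₀ : kOf b (b + 1 - ((k + 1 : ℕ) : ℤ)) = k + 1 := by unfold kOf; omega
      have hk₁ : kOf b (b + 1 - ((k + 1 : ℕ) : ℤ) + 1) = k := by unfold kOf; omega
      have hk₂ : kOf b (b + 1 - ((k + 1 : ℕ) : ℤ) - 1) = k + 1 + 1 := by unfold kOf; omega
      have key : ∀ (a a₁ a₂ : ℕ), a = k + 1 → a₁ = k → a₂ = k + 1 + 1 →
          ∀ x : Lk hfin b hb a, dd hfin b hb a a₁ x = 0 →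
            (∃ y, C.d (b + 1 - ((k + 1 : ℕ) : ℤ) - 1) (b + 1 - ((k + 1 : ℕ) : ℤ)) y =
              toC hfin b hb a (b + 1 - ((k + 1 : ℕ) : ℤ)) x) →
            ∃ w, dd hfin b hb a₂ a w = x := by
        intro a a₁ a₂ ha ha₁ ha₂
        subst a; subst a₁; subst a₂
        rintro x hx ⟨y, hy⟩
        rw [toC_self] at hy
        rw [dd_succ] at hx ⊢
        refine (nxt hfin b hb (k + 1)).inj x ((nxt hfin b hb k).Z_eq.ge hx) ?_
        have he : b + 1 - ((k + 1 : ℕ) : ℤ) - 1 = b + 1 - ((k + 1 + 1 : ℕ) : ℤ) := by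
          push_cast; ring
        rw [← he]
        exact ⟨y, hy⟩
      have hdx : dd hfin b hb _ _ x = 0 :=
        (congr($(CochainComplex.of_d _ (fun i => dd hfin b hb (kOf b i) (kOf b (i + 1)))
          (b + 1 - ((k + 1 : ℕ) : ℤ))) x)).symm.trans hx
      obtain ⟨w, hw⟩ := key _ _ (kOf b (b + 1 - ((k + 1 : ℕ) : ℤ) - 1)) hk₀ hk₁ hk₂ x hdx hy
      refine ⟨w, ?_⟩
      have e : (b + 1 - ((k + 1 : ℕ) : ℤ) - 1) + 1 = b + 1 - ((k + 1 : ℕ) : ℤ) := by ring
      have hd : ∀ j, (b + 1 - ((k + 1 : ℕ) : ℤ) - 1) + 1 = j →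
          (cx hfin b hb).d (b + 1 - ((k + 1 : ℕ) : ℤ) - 1) j = dd hfin b hb _ (kOf b j) := by
        rintro j rfl
        exact CochainComplex.of_d (fun i => Lk hfin b hb (kOf b i))
          (fun i => dd hfin b hb (kOf b i) (kOf b (i + 1))) _
      rw [hd _ e]
      exact hw
  · by_cases h : b < i
    · obtain ⟨w, hw⟩ := (FlatCxBase.isZero_homology_iff (K := C) hp hn).1 (hb i h) y hy
      exact ⟨0, w, by rw [map_zero], by rw [map_zero, zero_add, hw]⟩
    · obtain ⟨k, hk, rfl⟩ : ∃ k : ℕ, 1 ≤ k ∧ i = b + 1 - (k : ℤ) :=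
        ⟨(b + 1 - i).toNat, by omega, by omega⟩
      obtain ⟨k, rfl⟩ : ∃ k', k = k' + 1 := ⟨k - 1, by omega⟩
      have key : ∀ (a a₁ : ℕ), a = k + 1 → a₁ = k →
          ∃ (x : Lk hfin b hb a) (w : C.X (b + 1 - ((k + 1 : ℕ) : ℤ) - 1)),
            dd hfin b hb a a₁ x = 0 ∧ toC hfin b hb a (b + 1 - ((k + 1 : ℕ) : ℤ)) x +
              C.d _ (b + 1 - ((k + 1 : ℕ) : ℤ)) w = y := by
        intro a a₁ ha ha₁
        subst a; subst a₁
        obtain ⟨z, hz, w, hw⟩ := (seq hfin b hb (k + 1)).surj y hy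
        rw [toC_self, dd_succ]
        exact ⟨z, w, (nxt hfin b hb k).Z_eq.le hz, hw⟩
      obtain ⟨x, w, hx, hxw⟩ := key (kOf b (b + 1 - ((k + 1 : ℕ) : ℤ)))
        (kOf b (b + 1 - ((k + 1 : ℕ) : ℤ) + 1)) (by unfold kOf; omega) (by unfold kOf; omega)
      exact ⟨x, w, (congr($(CochainComplex.of_d _
        (fun i => dd hfin b hb (kOf b i) (kOf b (i + 1))) (b + 1 - ((k + 1 : ℕ) : ℤ))) x)).trans hx,
        hxw⟩

include hfin hb in
/-- A complex with finite cohomology, bounded above, over a Noetherian ring, receives a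
quasi-isomorphism from a complex of finite free modules bounded above. -/
theorem exists_quasiIso : ∃ (L : CochainComplex (ModuleCat.{u} A) ℤ) (φ : L ⟶ C), QuasiIso φ ∧
    (∀ i, Module.Finite A (L.X i) ∧ Module.Free A (L.X i)) ∧ ∀ i, b < i → IsZero (L.X i) := by
  refine ⟨cx hfin b hb, ψ hfin b hb, ⟨fun i => ?_⟩, fun i => ⟨?_, ?_⟩, fun i hi => ?_⟩
  · rw [quasiIsoAt_iff_isIso_homologyMap, ConcreteCategory.isIso_iff_bijective]
    exact ψ_bijective hfin b hb i
  · exact inferInstanceAs (Module.Finite A (Fin (seq hfin b hb (kOf b i)).r → A))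
  · exact inferInstanceAs (Module.Free A (Fin (seq hfin b hb (kOf b i)).r → A))
  · have := subsingleton_cx hfin b hb hi
    exact ModuleCat.isZero_of_subsingleton _

end Groth.CohBase.FiniteFree
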