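import Groth.Agent.CohBase.Acyclic

/-!
# Cohomology of the whole space as cohomology on the top open
-/

universe u

open CategoryTheory Limits TopologicalSpace Opposite
open CategoryTheory.Abelian (Ext)

namespace Groth.CohBase

variable (X : TopCat.{u})

/-- The constant sheaf of integers. -/
noncomputable abbrev constZ : AbSheaf X :=
  (constantSheaf (Opens.grothendieckTopology X) AddCommGrpCat.{u}).obj
    (AddCommGrpCat.of (ULift.{u} ℤ))

variable {X}

/-- Morphisms out of the constant sheaf of integers are global sections. -/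
noncomputable def homConstZ (F : AbSheaf X) :
    (constZ X ⟶ F) ≃+ F.obj.obj (op ⊤) :=
  AddEquiv.trans
    ((constantSheafAdj (Opens.grothendieckTopology X) AddCommGrpCat.{u}
      (T := (⊤ : Opens X)) isTerminalTop).homAddEquiv _ F)
    (AddCommGrpCat.uliftZMultiplesAddEquiv _)

lemma homConstZ_comp {F G : AbSheaf X} (φ : F ⟶ G) (a : constZ X ⟶ F) :
    homConstZ G (a ≫ φ) = φ.hom.app (op ⊤) (homConstZ F a) := by
  exact (congrArg (AddCommGrpCat.uliftZMultiplesAddEquiv _)
    (Adjunction.homEquiv_naturality_right
      (constantSheafAdj (Opens.grothendieckTopology X) AddCommGrpCat.{u}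
        (T := (⊤ : Opens X)) isTerminalTop) a φ)).trans rfl

variable (X) in
/-- The map from the free sheaf on the top open to the constant sheaf. -/
noncomputable def freeTopToConst : freeOpen (⊤ : Opens X) ⟶ constZ X :=
  (homFreeOpen (⊤ : Opens X) (constZ X)).symm (homConstZ (constZ X) (𝟙 (constZ X)))

variable (X) in
/-- The map from the constant sheaf to the free sheaf on the top open. -/
noncomputable def constToFreeTop : constZ X ⟶ freeOpen (⊤ : Opens X) :=
  (homConstZ (freeOpen (⊤ : Opens X))).symm
    (homFreeOpen (⊤ : Opens X) (freeOpen (⊤ : Opens X)) (𝟙 _))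

variable (X) in
/-- The constant sheaf of integers is the free abelian sheaf on the top open. -/
noncomputable def freeOpenTopIso : freeOpen (⊤ : Opens X) ≅ constZ X where
  hom := freeTopToConst X
  inv := constToFreeTop X
  hom_inv_id := (homFreeOpen (⊤ : Opens X) _).injective <| by
    rw [homFreeOpen_comp, freeTopToConst, AddEquiv.apply_symm_apply, ← homConstZ_comp,
      Category.id_comp, constToFreeTop, AddEquiv.apply_symm_apply]
  inv_hom_id := (homConstZ _).injective <| by
    rw [homConstZ_comp, constToFreeTop, AddEquiv.apply_symm_apply, ← homFreeOpen_comp,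
      Category.id_comp, freeTopToConst, AddEquiv.apply_symm_apply]

/-- Cohomology of the space is cohomology on the top open. -/
noncomputable def equivHTop (F : AbSheaf X) (n : ℕ) :
    (Sheaf.H F n : Type u) ≃+ Sheaf.H' F n (⊤ : Opens X) where
  toFun x := (Ext.mk₀ (freeOpenTopIso X).hom).comp x (zero_add n)
  invFun x := (Ext.mk₀ (freeOpenTopIso X).inv).comp x (zero_add n)
  left_inv x := by simp
  right_inv x := (Ext.mk₀_comp_mk₀_assoc _ _ _).trans (by rw [Iso.hom_inv_id]; exact Ext.mk₀_id_comp _)
  map_add' x y := by simp; rfl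

/-- The equivalence is natural in the sheaf. -/
lemma equivHTop_map {F G : AbSheaf X} (φ : F ⟶ G) (n : ℕ)
    (x : (Sheaf.H F n : Type u)) :
    equivHTop G n (Sheaf.H.map φ n x) =
      Ext.comp (equivHTop F n x) (Ext.mk₀ φ) (add_zero n) :=
  ((Ext.comp_assoc _ x _ (zero_add n) (add_zero n) (by simp)).symm)

lemma subsingleton_H_iff (F : AbSheaf X) (n : ℕ) :
    Subsingleton (Sheaf.H F n : Type u) ↔ HVanish F n ⊤ :=
  ⟨fun _ => (equivHTop F n).symm.toEquiv.subsingleton, fun _ => (equivHTop F n).toEquiv.subsingleton⟩

end Groth.CohBase
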