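import Groth.Agent.CohBase.AffineVanishing
import Groth.Agent.CohBase.GlobalSections
import Mathlib.Topology.Sheaves.MayerVietoris
import Mathlib.CategoryTheory.Sites.SheafCohomology.MayerVietoris
import Mathlib.AlgebraicGeometry.Morphisms.QuasiSeparated

/-!
# Vanishing by Mayer–Vietoris, and induction on quasi-compact opens
-/

universe u

open CategoryTheory Limits TopologicalSpace Opposite
open CategoryTheory.Abelian (Ext)

namespace Groth.CohBase

variable {X : TopCat.{u}}

lemma hVanish_sup {F : AbSheaf X} {U V : Opens X} {n : ℕ} (h₁ : HVanish F n (U ⊓ V))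
    (h₂ : HVanish F (n + 1) U) (h₃ : HVanish F (n + 1) V) : HVanish F (n + 1) (U ⊔ V) := by
  have hS := (Opens.mayerVietorisSquare U V).shortComplex_shortExact
  refine subsingleton_of_forall_eq 0 fun x => ?_
  have hb : Subsingleton (Ext (Opens.mayerVietorisSquare U V).shortComplex.X₂ F (n + 1)) := by
    have : Subsingleton (Ext (freeOpen U) F (n + 1)) := h₂
    have : Subsingleton (Ext (freeOpen V) F (n + 1)) := h₃
    exact (Ext.biprodAddEquiv (X₁ := freeOpen U) (X₂ := freeOpen V)).toEquiv.subsingleton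
  obtain ⟨y, hy⟩ := Ext.contravariant_sequence_exact₃ hS F x (Subsingleton.elim _ _)
    (n₀ := n) (Nat.add_comm 1 n)
  have hy0 : y = 0 := @Subsingleton.elim _ h₁ y 0
  rw [← hy, hy0, Ext.comp_zero]
  rfl

lemma isZero_freeOpen_bot : IsZero (freeOpen (⊥ : Opens X)) := by
  rw [IsZero.iff_id_eq_zero]
  apply (homFreeOpen (⊥ : Opens X) (freeOpen (⊥ : Opens X))).injective
  exact (AddCommGrpCat.subsingleton_of_isZero
    ((TopCat.Sheaf.isTerminalOfEmpty (X := X) (freeOpen (⊥ : Opens X))).isZero)).elim _ _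

lemma hVanish_bot (F : AbSheaf X) (n : ℕ) : HVanish F n (⊥ : Opens X) := by
  refine subsingleton_of_forall_eq 0 fun (x : Ext (freeOpen (⊥ : Opens X)) F n) => ?_
  have h := Ext.mk₀_id_comp x
  rw [(IsZero.iff_id_eq_zero _).mp isZero_freeOpen_bot, Ext.mk₀_zero, Ext.zero_comp] at h
  exact h.symm.trans rfl

end Groth.CohBase

namespace Groth.CohBase

open AlgebraicGeometry

variable {X : Scheme.{u}}

/-- Vanishing above the number of affines, for an affine-intersection covering. -/
theorem hVanish_iSup_affine (hd : ∀ V W : X.Opens, IsAffineOpen V → IsAffineOpen W →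
      IsAffineOpen (V ⊓ W)) (M : X.Modules) [M.IsQuasicoherent] :
    ∀ (t : ℕ) (U : Fin t → X.Opens), (∀ i, IsAffineOpen (U i)) → ∀ n, t ≤ n →
      HVanish (X := X.toTopCat) (abSheaf M) n (⨆ i, U i) := by
  intro t
  induction t with
  | zero =>
    intro U _ n _
    rw [iSup_of_empty U]
    exact hVanish_bot _ n
  | succ t ih =>
    intro U hU n hn
    obtain ⟨n, rfl⟩ := Nat.exists_eq_succ_of_ne_zero (show n ≠ 0 by omega)
    have h : ⨆ i, U i = (⨆ i : Fin t, U i.castSucc) ⊔ U (Fin.last t) := by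
      refine le_antisymm (iSup_le fun i => ?_) (sup_le (iSup_le fun i => le_iSup U _) (le_iSup U _))
      cases i using Fin.lastCases with
      | last => exact le_sup_right
      | cast i => exact le_sup_of_le_left (le_iSup (fun i : Fin t => U i.castSucc) i)
    rw [h]
    refine hVanish_sup (X := X.toTopCat) ?_ (ih _ (fun i => hU _) _ (by omega))
      (hVanish_of_isAffineOpen M (hU _) n)
    rw [iSup_inf_eq]
    exact ih _ (fun i => hd _ _ (hU _) (hU _)) n (by omega)

/-- Induction on quasi-compact opens. -/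
theorem qcqs_induction [QuasiSeparatedSpace X] (P : X.Opens → Prop)
    (h₁ : ∀ U : X.Opens, IsAffineOpen U → P U)
    (h₂ : ∀ U V : X.Opens, IsCompact (U : Set X) → IsAffineOpen V → P U → P V → P (U ⊓ V) →
      P (U ⊔ V))
    (U : X.Opens) (hU : IsCompact (U : Set X)) : P U := by
  have hbasic : ∀ {A : X.Opens}, IsAffineOpen A → ∀ (n : ℕ) (g : Fin n → Γ(X, A)),
      P (⨆ i, X.basicOpen (g i)) := by
    intro A hA n
    induction n with
    | zero =>
      intro g
      rw [iSup_of_empty (fun i => X.basicOpen (g i))]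
      exact h₁ _ (isAffineOpen_bot X)
    | succ n ih =>
      intro g
      have h : ⨆ i, X.basicOpen (g i) =
          (⨆ i : Fin n, X.basicOpen (g i.castSucc)) ⊔ X.basicOpen (g (Fin.last n)) := by
        refine le_antisymm (iSup_le fun i => ?_)
          (sup_le (iSup_le fun i => le_iSup (fun i => X.basicOpen (g i)) _)
            (le_iSup (fun i => X.basicOpen (g i)) _))
        cases i using Fin.lastCases with
        | last => exact le_sup_right
        | cast i =>
          exact le_sup_of_le_left (le_iSup (fun i : Fin n => X.basicOpen (g i.castSucc)) i)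
      rw [h]
      refine h₂ _ _ ?_ (hA.basicOpen _) (ih _) (h₁ _ (hA.basicOpen _)) ?_
      · rw [Opens.coe_iSup]
        exact isCompact_iUnion fun i => (hA.basicOpen _).isCompact
      · simp only [iSup_inf_eq, ← Scheme.basicOpen_mul]
        exact ih fun i => g i.castSucc * g (Fin.last n)
  have hsub : ∀ {A : X.Opens}, IsAffineOpen A → ∀ U : X.Opens, IsCompact (U : Set X) → U ≤ A →
      P U := by
    intro A hA U hU hle
    choose f hfle hxf using fun x : U => hA.exists_basicOpen_le (V := U) x (hle x.2)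
    obtain ⟨s, hs⟩ := hU.elim_finite_subcover (fun x : U => (X.basicOpen (f x) : Set X))
      (fun x => (X.basicOpen (f x)).2) (fun y hy => Set.mem_iUnion.mpr ⟨⟨y, hy⟩, hxf ⟨y, hy⟩⟩)
    have e : U = ⨆ i : Fin s.card, X.basicOpen (f (s.equivFin.symm i).1) := by
      refine le_antisymm (fun y hy => ?_) (iSup_le fun i => hfle _)
      obtain ⟨x, hx, hy'⟩ := Set.mem_iUnion₂.mp (hs hy)
      exact Opens.mem_iSup.mpr ⟨s.equivFin ⟨x, hx⟩, by simpa using hy'⟩
    rw [e]
    exact hbasic hA _ _
  refine compact_open_induction_on U hU (h₁ _ (isAffineOpen_bot X)) fun S hS A hP => ?_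
  refine h₂ S A.1 hS A.2 hP (h₁ _ A.2) (hsub A.2 _ ?_ inf_le_right)
  exact QuasiSeparatedSpace.inter_isCompact _ _ S.2 hS A.1.2 A.2.isCompact

/-- On a quasi-separated scheme the cohomology of quasi-coherent modules on a quasi-compact open
vanishes in high degrees. -/
theorem exists_hVanish_of_isCompact [QuasiSeparatedSpace X] (U : X.Opens)
    (hU : IsCompact (U : Set X)) :
    ∃ d : ℕ, ∀ (M : X.Modules), M.IsQuasicoherent → ∀ p, d ≤ p →
      HVanish (X := X.toTopCat) (abSheaf M) p U := by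
  refine qcqs_induction (fun U => ∃ d : ℕ, ∀ (M : X.Modules), M.IsQuasicoherent → ∀ p, d ≤ p →
      HVanish (X := X.toTopCat) (abSheaf M) p U) (fun U hU => ⟨1, fun M hM p hp => ?_⟩) ?_ U hU
  · obtain ⟨p, rfl⟩ := Nat.exists_eq_succ_of_ne_zero (show p ≠ 0 by omega)
    exact hVanish_of_isAffineOpen M hU p
  · rintro U V - - ⟨a, ha⟩ ⟨b, hb⟩ ⟨c, hc⟩
    refine ⟨max (max a b) (c + 1), fun M hM p hp => ?_⟩
    obtain ⟨p, rfl⟩ := Nat.exists_eq_succ_of_ne_zero (show p ≠ 0 by omega)
    exact hVanish_sup (X := X.toTopCat) (hc M hM p (by omega)) (ha M hM _ (by omega))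
      (hb M hM _ (by omega))

/-- Induction on the quasi-compact opens inside a quasi-separated open. -/
theorem qcqs_induction_on {X : Scheme.{u}} (P : X.Opens → Prop) (A : X.Opens)
    (hA : IsQuasiSeparated (A : Set X))
    (h₁ : ∀ U : X.Opens, IsAffineOpen U → U ≤ A → P U)
    (h₂ : ∀ U V : X.Opens, IsCompact (U : Set X) → IsAffineOpen V → U ≤ A → V ≤ A →
      P U → P V → P (U ⊓ V) → P (U ⊔ V))
    (U : X.Opens) (hU : IsCompact (U : Set X)) (hle : U ≤ A) : P U := by
  have : QuasiSeparatedSpace A.toScheme :=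
    (isQuasiSeparated_iff_quasiSeparatedSpace (A : Set X) A.2).mp hA
  have hsup : ∀ U' V' : A.toScheme.Opens, A.ι ''ᵁ (U' ⊔ V') = A.ι ''ᵁ U' ⊔ A.ι ''ᵁ V' :=
    fun U' V' => Opens.ext (Set.image_union _ _ _)
  have hinf : ∀ U' V' : A.toScheme.Opens, A.ι ''ᵁ (U' ⊓ V') = A.ι ''ᵁ U' ⊓ A.ι ''ᵁ V' :=
    fun U' V' => Opens.ext (Set.image_inter A.ι.isOpenEmbedding.injective)
  have hUA : A.ι ''ᵁ (A.ι ⁻¹ᵁ U) = U := by
    rw [Scheme.Hom.image_preimage_eq_opensRange_inf, Scheme.Opens.opensRange_ι, inf_eq_right]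
    exact hle
  rw [← hUA]
  refine qcqs_induction (fun U' => P (A.ι ''ᵁ U'))
    (fun U' hU' => h₁ _ (hU'.image_of_isOpenImmersion A.ι) (A.ι_image_le U'))
    (fun U' V' hU' hV' a b c => ?_) _ ?_
  · rw [hsup]
    exact h₂ _ _ (hU'.image A.ι.continuous) (hV'.image_of_isOpenImmersion A.ι)
      (A.ι_image_le U') (A.ι_image_le V') a b (by rw [← hinf]; exact c)
  · refine A.ι.isOpenEmbedding.isInducing.isCompact_preimage' hU ?_
    intro x hx
    exact ⟨⟨x, hle hx⟩, rfl⟩

end Groth.CohBase
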