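import Groth.Agent.FlatCxBase.BoundedFlat
import Groth.Agent.FlatCxBase.Criteria

/-!
# Quasi-isomorphisms of flat complexes stay so after tensoring
-/

universe u

open CategoryTheory CategoryTheory.Limits MonoidalCategory HomologicalComplex
open scoped TensorProduct

namespace Groth.CohBase.FiniteFree

open Groth.FlatCxBase

variable {A : Type u} [CommRing A]

section Acyclic

variable (F : CochainComplex (ModuleCat.{u} A) ℤ) [∀ i, Module.Flat A (F.X i)]

/-- Cocycles of a flat acyclic complex are flat in the degrees where all `T_j` vanish. -/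
lemma flat_ker_of_isZero_T (hac : F.Acyclic) {j : ℤ}
    (h : ∀ N : ModuleCat.{u} A, IsZero (CohIII.T F j N)) :
    Module.Flat A (LinearMap.ker (F.d j (j + 1)).hom) := by
  have hm : (CohIII.TFun F j).PreservesMonomorphisms :=
    ⟨fun {M N} g _ => ⟨fun _ _ _ => (show IsZero ((CohIII.TFun F j).obj M) from h M).eq_of_tgt _ _⟩⟩
  have hQ := (preservesMono_iff_flat F (cochain_prev j) (cochain_next j)).1 hm
  rw [← range_eq_ker_of_isZero F (show (j - 1) + 1 = j by omega) rfl (hac j).isZero_homology,
    ← Submodule.ker_mkQ (LinearMap.range (F.d (j - 1) j).hom)]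
  have : Module.Flat A (LinearMap.range (cokerπ F (j - 1) j)) :=
    Module.Flat.of_linearEquiv ((LinearEquiv.ofEq _ _ (Submodule.range_mkQ _)).trans
      Submodule.topEquiv)
  exact flat_ker_of_flat_range _

/-- Tensoring keeps an acyclic flat complex acyclic, if it does so in high degrees. -/
lemma acyclic_tensor_of_eventually (hac : F.Acyclic) (b : ℤ)
    (hT : ∀ j, b < j → ∀ N : ModuleCat.{u} A, IsZero (CohIII.T F j N)) (M : ModuleCat.{u} A) :
    (CohIII.tensorObj F M).Acyclic := by
  have hz : ∀ p, IsZero (F.homology p) := fun p => (hac p).isZero_homology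
  have hflat : ∀ i k : ℤ, i + 1 = k → Module.Flat A (LinearMap.ker (F.d i k).hom) := by
    suffices ∀ n : ℕ, ∀ i k : ℤ, i + 1 = k → b < i + n →
        Module.Flat A (LinearMap.ker (F.d i k).hom) from
      fun i k h => this (b + 1 - i).toNat i k h (by omega)
    intro n
    induction n with
    | zero =>
      rintro i k rfl hbi
      exact flat_ker_of_isZero_T F hac (hT i (by omega))
    | succ n ih =>
      intro i k hik hbi
      have := ih k (k + 1) rfl (by omega)
      exact flat_ker_step F hik rfl (hz k)
  intro j
  rw [HomologicalComplex.exactAt_iff_isZero_homology]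
  refine (isZero_T_iff F (cochain_prev j) (cochain_next j) M).2 fun x hx => ?_
  have : Module.Flat A (LinearMap.range (F.d (j + 1) (j + 1 + 1)).hom) := by
    rw [range_eq_ker_of_isZero F rfl rfl (hz _)]
    exact hflat _ _ rfl
  have hi : Function.Injective ((LinearMap.range (F.d j (j + 1)).hom).subtype.rTensor M) := by
    refine rTensor_injective_of_flat (g := (F.d (j + 1) (j + 1 + 1)).hom.rangeRestrict)
      Subtype.val_injective (LinearMap.surjective_rangeRestrict _) ?_ M
    rw [LinearMap.exact_iff, LinearMap.ker_rangeRestrict, Submodule.range_subtype]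
    exact (range_eq_ker_of_isZero F rfl rfl (hz (j + 1))).symm
  have hx' : (F.d j (j + 1)).hom.rangeRestrict.rTensor M x = 0 := by
    apply hi
    rw [map_zero, ← LinearMap.rTensor_comp_apply]
    exact hx
  refine (rTensor_exact M ?_ (LinearMap.surjective_rangeRestrict _) x).1 hx'
  rw [LinearMap.exact_iff, LinearMap.ker_rangeRestrict]
  exact (range_eq_ker_of_isZero F (by omega) rfl (hz j)).symm

end Acyclic

/-- The inclusion into a mapping cone is bijective where the next term of the source vanishes. -/
lemma isIso_inr_f {K L : CochainComplex (ModuleCat.{u} A) ℤ} (φ : K ⟶ L) (i : ℤ)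
    (h : IsZero (K.X (i + 1))) : IsIso ((CochainComplex.mappingCone.inr φ).f i) := by
  refine ⟨(CochainComplex.mappingCone.snd φ).v i i (add_zero i),
    CochainComplex.mappingCone.inr_f_snd_v φ i, ?_⟩
  have := CochainComplex.mappingCone.id_X φ i (i + 1) rfl
  rw [h.eq_of_tgt ((CochainComplex.mappingCone.fst φ).1.v i (i + 1) rfl) 0, zero_comp, zero_add] at this
  exact this

/-- A quasi-isomorphism of flat complexes, bounded above at the source, stays a quasi-isomorphism
after tensoring if the target has eventually vanishing tensored cohomology. -/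
theorem quasiIso_tensor_of_eventually {K L : CochainComplex (ModuleCat.{u} A) ℤ}
    [∀ i, Module.Flat A (K.X i)] [∀ i, Module.Flat A (L.X i)] (b : ℤ)
    (hK : ∀ i, b < i → IsZero (K.X i))
    (hL : ∀ j, b < j → ∀ N : ModuleCat.{u} A, IsZero (CohIII.T L j N))
    (φ : K ⟶ L) [QuasiIso φ] (M : ModuleCat.{u} A) :
    QuasiIso (((tensorRight M).mapHomologicalComplex (ComplexShape.up ℤ)).map φ) := by
  rw [quasiIso_iff_cone_acyclic]
  let E := CochainComplex.mappingCone φ
  let e : ∀ i, E.X i ≅ K.X (i + 1) ⊞ L.X i := fun i =>
    HomologicalComplex.homotopyCofiber.XIsoBiprod φ i (i + 1) rfl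
  have : ∀ i, Module.Flat A (E.X i) := fun i =>
    have : Module.Flat A (K.X (i + 1) × L.X i) :=
      flat_of_exact_flat_right (f := LinearMap.inl A (K.X (i + 1)) (L.X i)) (g := LinearMap.snd A _ _)
        LinearMap.inl_injective LinearMap.snd_surjective Function.Exact.inl_snd
    Module.Flat.of_linearEquiv (M := K.X (i + 1) × L.X i)
      ((e i ≪≫ ModuleCat.biprodIsoProd _ _).toLinearEquiv)
  have hT : ∀ j, b + 1 < j → ∀ N : ModuleCat.{u} A, IsZero (CohIII.T E j N) := by
    intro j hj N
    let ι := ((tensorRight N).mapHomologicalComplex (ComplexShape.up ℤ)).map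
      (CochainComplex.mappingCone.inr φ)
    have hiso : ∀ i, b < i + 1 → IsIso (ι.f i) := fun i hi => by
      have := isIso_inr_f φ i (hK _ (by omega))
      exact Functor.map_isIso (tensorRight N) _
    have : IsIso ((shortComplexFunctor' _ (ComplexShape.up ℤ) (j - 1) j (j + 1)).map ι) := by
      have h1 : IsIso ((shortComplexFunctor' _ (ComplexShape.up ℤ) (j - 1) j (j + 1)).map ι).τ₁ :=
        hiso (j - 1) (by omega)
      have h2 : IsIso ((shortComplexFunctor' _ (ComplexShape.up ℤ) (j - 1) j (j + 1)).map ι).τ₂ :=
        hiso j (by omega)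
      have h3 : IsIso ((shortComplexFunctor' _ (ComplexShape.up ℤ) (j - 1) j (j + 1)).map ι).τ₃ :=
        hiso (j + 1) (by omega)
      exact ShortComplex.isIso_of_isIso _
    have hq : QuasiIsoAt ι j := by
      rw [quasiIsoAt_iff' ι (j - 1) j (j + 1) (cochain_prev j) (cochain_next j)]
      infer_instance
    exact (hL j (by omega) N).of_iso (asIso (homologyMap ι j)).symm
  intro i
  exact HomologicalComplex.ExactAt.of_iso
    (acyclic_tensor_of_eventually E ((quasiIso_iff_cone_acyclic φ).1 inferInstance) (b + 1) hT M i)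
    (CochainComplex.mappingCone.mapHomologicalComplexIso φ (tensorRight M))

end Groth.CohBase.FiniteFree
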