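import Groth.Agent.CohBase.CechCx
import Groth.Agent.CohBase.FiniteFree
import Groth.Agent.CohBase.TensorQis
import Groth.Agent.CohBase.MayerVietoris
import Groth.Agent.Flatmor4.FlatModAffine

/-!
# The complex computing the cohomology of `F ⊗_A M`
-/

universe u

open CategoryTheory Limits AlgebraicGeometry TopologicalSpace Opposite
open scoped TensorProduct
open Groth.QCohMod (resFun resFun_resFun res_app)

namespace Groth.CohBase

/-- A finite covering by affine opens with affine intersections. -/
structure GoodCover (X : Scheme.{u}) where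
  /-- the index type -/
  ι : Type u
  [fin : Finite ι]
  /-- the opens -/
  U : ι → X.Opens
  hcov : ⨆ i, U i = ⊤
  affine : ∀ {n : ℕ} (x : Fin (n + 1) → ι), IsAffineOpen (tupOpen U x)
  affine_inf : ∀ (W : X.Opens), IsAffineOpen W → ∀ {n : ℕ} (x : Fin (n + 1) → ι),
    IsAffineOpen (W ⊓ tupOpen U x)

attribute [instance] GoodCover.fin

/-- A quasi-compact separated scheme has a good covering. -/
theorem exists_goodCover (X : Scheme.{u}) [CompactSpace X] [X.IsSeparated] :
    Nonempty (GoodCover X) := by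
  classical
  have hcov : ∀ x : X, ∃ U : X.Opens, IsAffineOpen U ∧ x ∈ U := fun x => by
    obtain ⟨_, ⟨U, hU, rfl⟩, hx, -⟩ :=
      X.isBasis_affineOpens.exists_subset_of_mem_open (Set.mem_univ x) isOpen_univ
    exact ⟨U, hU, hx⟩
  choose U hU hx using hcov
  obtain ⟨s, hs⟩ := isCompact_univ.elim_finite_subcover (fun x : X => (U x : Set X))
    (fun x => (U x).2) fun x _ => Set.mem_iUnion.2 ⟨x, hx x⟩
  have haff : ∀ {n : ℕ} (x : Fin (n + 1) → s), IsAffineOpen (tupOpen (fun i : s => U i) x) :=
    fun {n} x => isAffineOpen_inter_of_finset (fun i : s => U i) (fun t ht => by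
      induction ht using Finset.Nonempty.cons_induction with
      | singleton a => simpa using hU _
      | cons a t ha ht ih =>
        rw [Finset.cons_eq_insert, Finset.iInf_insert]
        exact (hU _).inf ih) x
  refine ⟨⟨s, fun i => U i, eq_top_iff.2 fun x _ => ?_, haff, fun W hW n x => hW.inf (haff x)⟩⟩
  obtain ⟨y, hy, hxy⟩ := Set.mem_iUnion₂.1 (hs (Set.mem_univ x))
  exact Opens.mem_iSup.2 ⟨⟨y, hy⟩, hxy⟩

variable (A : Type u) [CommRing A] {X : Scheme.{u}} [X.Over (Spec (CommRingCat.of A))]

/-- Sections over affine opens of a module flat over the base are flat. -/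
theorem flat_secA (F : X.Modules) [F.IsQuasicoherent]
    (hfl : FlatMod.IsFlatOver (X ↘ Spec (CommRingCat.of A)) F) {W : X.Opens} (hW : IsAffineOpen W) :
    Module.Flat A (secA A F W) := by
  let f := X ↘ Spec (CommRingCat.of A)
  let R₀ := Γ(Spec (CommRingCat.of A), (⊤ : (Spec (CommRingCat.of A)).Opens))
  have e : W ≤ f ⁻¹ᵁ ⊤ := le_top
  letI := Flatmor4.sectionModule f F e
  have h : Module.Flat R₀ Γ(F, W) :=
    (Flatmor4.isFlatOver_iff_affine f F).1 hfl W ⊤ e hW (isAffineOpen_top _)
  letI : Algebra A R₀ := (Scheme.ΓSpecIso (CommRingCat.of A)).inv.hom.toAlgebra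
  have hb : Function.Bijective (algebraMap A R₀) :=
    ConcreteCategory.bijective_of_isIso (Scheme.ΓSpecIso (CommRingCat.of A)).inv
  have : Module.Flat A R₀ :=
    Module.Flat.of_linearEquiv (LinearEquiv.ofBijective (Algebra.linearMap A R₀) hb).symm
  let : Module R₀ (secA A F W) :=
    Module.compHom Γ(F, W) (f.appLE ⊤ W e).hom
  have : IsScalarTower A R₀ (secA A F W) := .of_algebraMap_smul fun a s => rfl
  have : Module.Flat R₀ (secA A F W) := h
  exact Module.Flat.trans A R₀ (secA A F W)

/-- The comparison for `F` itself. -/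
noncomputable def selfModel {ι : Type u} (U : ι → X.Opens) (F : X.Modules) :
    SecModel A U F A (𝟙 X) F where
  Φ W := AddMonoidHom.mk' (fun z => (show Γ(F, W) from TensorProduct.rid A (secA A F W) z))
    fun z w => map_add (TensorProduct.rid A (secA A F W)) z w
  nat {V W} h z := by
    change secRes A F h (TensorProduct.rid A (secA A F W) z) =
      TensorProduct.rid A (secA A F V) ((secRes A F h).rTensor A z)
    induction z using TensorProduct.induction_on with
    | zero => simp
    | tmul s a => exact (secRes A F h).map_smul a s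
    | add p q hp hq => simp only [map_add, hp, hq]
  bij x := (TensorProduct.rid A (secA A F _)).bijective

variable {A}

/-- The comparison for `(f^* M~) ⊗ F`. -/
noncomputable def tensorModel (G : GoodCover X) (F : X.Modules) [F.IsQuasicoherent]
    (M : ModuleCat.{u} A) :
    SecModel A G.U F M (𝟙 X) ((CohIII.tensorAFunctor A F).obj M) where
  Φ W := tensorSec F M W
  nat h z := tensorSec_res F M h z
  bij x := tensorSec_bijective F M (G.affine x)

instance isQCoh_tensorAFunctor_obj (F : X.Modules) [F.IsQuasicoherent] (M : ModuleCat.{u} A) :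
    ((CohIII.tensorAFunctor A F).obj M).IsQuasicoherent :=
  have := QCohMod.isQCoh_pullback_obj (X ↘ Spec (CommRingCat.of A))
    (tilde (R := CommRingCat.of A) M)
  QCohMod.isQCoh_tensorMod (M := pullTilde (X := X) M) (N := F)

namespace SecModel

variable {ι : Type u} {U : ι → X.Opens} {F : X.Modules} {M : Type u} [AddCommGroup M] [Module A M]
  {X' : Scheme.{u}} {g : X' ⟶ X} {G : X'.Modules} (Ψ : SecModel A U F M g G)
  [Finite ι] [G.IsQuasicoherent] (hcov : ⨆ i, U i = ⊤)

/-- The comparison is equivariant for compatible endomorphisms. -/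
lemma cycToHH_smul (t : M →ₗ[A] M) (s : Γ(X', ⊤))
    (ht : ∀ (W : X.Opens) z, Ψ.Φ W (t.lTensor (secA A F W) z) = resFun X' (le_top : g ⁻¹ᵁ W ≤ ⊤) s • Ψ.Φ W z)
    (p : ℕ) (z z' : LinearMap.ker (((cxA A U F).d (p : ℤ) ((p : ℤ) + 1)).hom.rTensor M))
    (h : z'.1 = t.lTensor ((cxA A U F).X (p : ℤ)) z.1) :
    Ψ.cycToHH hcov p z' = s • Ψ.cycToHH hcov p z := by
  rw [cycToHH_apply, cycToHH_apply]
  refine Eq.trans ?_ (Res.clsTop_smul (res' (g := g) hcov G) p s _)
  refine congrArg (Res.clsTop _ p) (Subtype.ext (funext fun x => ?_))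
  refine (congrFun (congrArg (Ψ.toTop p) h) x).trans ?_
  change Ψ.toTop p (t.lTensor (cxC A U F p) z.1) x =
    resFun X' (inf_le_left : ⊤ ⊓ tupOpen (fun i => g ⁻¹ᵁ U i) x ≤ ⊤) s • Ψ.toTop p z.1 x
  rw [toTop_apply, toTop_apply, ← LinearMap.comp_apply, LinearMap.rTensor_comp_lTensor,
    ← LinearMap.lTensor_comp_rTensor, LinearMap.comp_apply, ht, QCohMod.res_smul, resFun_resFun]

end SecModel

section Complex

variable (A) (G : GoodCover X) (F : X.Modules) [F.IsQuasicoherent]

lemma tensor_affine_tup {n : ℕ} (x : Fin (n + 1) → G.ι) :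
    IsAffineOpen (tupOpen (fun i => (𝟙 X) ⁻¹ᵁ G.U i) x) := G.affine x

/-- The comparison isomorphism in degree `p`. -/
noncomputable def tensorIsoApp (p : ℕ) (M : ModuleCat.{u} A) :
    (CohIII.TFun (cxA A G.U F) (p : ℤ)).obj M ≃+
      Coh.HH X ((CohIII.tensorAFunctor A F).obj M) p :=
  ((tensorModel G F M).exists_hhEquiv G.hcov G.affine G.affine_inf p).choose

lemma tensorIsoApp_clsT (p : ℕ) (M : ModuleCat.{u} A)
    (z : LinearMap.ker (((cxA A G.U F).d (p : ℤ) ((p : ℤ) + 1)).hom.rTensor M)) :
    tensorIsoApp A G F p M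
        (FlatCxBase.clsT (cxA A G.U F) (FlatCxBase.cochain_next (p : ℤ)) M z) =
      (tensorModel G F M).cycToHH G.hcov p z :=
  ((tensorModel G F M).exists_hhEquiv G.hcov G.affine G.affine_inf p).choose_spec z

lemma tensorModel_cycToHH_map (p : ℕ) {M N : ModuleCat.{u} A} (φ : M ⟶ N)
    (z : LinearMap.ker (((cxA A G.U F).d (p : ℤ) ((p : ℤ) + 1)).hom.rTensor M)) :
    Sheaf.H.map ((toAbF X).map ((CohIII.tensorAFunctor A F).map φ)) p
        ((tensorModel G F M).cycToHH G.hcov p z) =
      (tensorModel G F N).cycToHH G.hcov p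
        ⟨φ.hom.lTensor ((cxA A G.U F).X (p : ℤ)) z.1, FlatCxBase.lTensor_mem_ker _ M φ z⟩ := by
  rw [SecModel.cycToHH_apply, SecModel.cycToHH_apply]
  refine (Res.clsTop_map (cechResMap (fun i => (𝟙 X) ⁻¹ᵁ G.U i)
    (preimage_iSup_eq_top (𝟙 X) G.hcov) ((CohIII.tensorAFunctor A F).map φ)) p _ _ ?_).symm
  funext x
  change (tensorModel G F N).toTop p (φ.hom.lTensor (cxC A G.U F p) z.1) x =
    ((CohIII.tensorAFunctor A F).map φ).app _ ((tensorModel G F M).toTop p z.1 x)
  rw [SecModel.toTop_apply, SecModel.toTop_apply, ← LinearMap.comp_apply,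
    LinearMap.rTensor_comp_lTensor, ← LinearMap.lTensor_comp_rTensor, LinearMap.comp_apply]
  refine Eq.trans ?_ (res_app ((CohIII.tensorAFunctor A F).map φ) _ _)
  exact congrArg (QCohMod.res _ _) (tensorSec_map F M φ _ _).symm

/-- The cohomology of `(f^* M~) ⊗ F` is that of the tensored Čech complex, naturally in `M`. -/
noncomputable def tensorIso (p : ℕ) :
    CohIII.TFun (cxA A G.U F) (p : ℤ) ⋙ forget₂ (ModuleCat.{u} A) AddCommGrpCat.{u} ≅
      CohIII.tensorAFunctor A F ⋙ CohIII.HAb X p :=
  NatIso.ofComponents (fun M => AddEquiv.toAddCommGrpIso (tensorIsoApp A G F p M))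
    fun {M N} φ => by
      refine AddCommGrpCat.ext fun a => ?_
      obtain ⟨z, rfl⟩ := FlatCxBase.clsT_surjective (cxA A G.U F)
        (FlatCxBase.cochain_next (p : ℤ)) M a
      change tensorIsoApp A G F p N ((CohIII.TFun (cxA A G.U F) (p : ℤ)).map φ _) =
        Sheaf.H.map ((toAbF X).map ((CohIII.tensorAFunctor A F).map φ)) p
          (tensorIsoApp A G F p M _)
      rw [FlatCxBase.TFun_map_clsT, tensorIsoApp_clsT, tensorIsoApp_clsT, tensorModel_cycToHH_map]

/-- The cohomology of `F` is that of the Čech complex. -/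
noncomputable def selfIso (p : ℕ) :
    (CohIII.TFun (cxA A G.U F) (p : ℤ)).obj (ModuleCat.of A A) ≃+ Coh.HH X F p :=
  ((selfModel A G.U F).exists_hhEquiv G.hcov G.affine G.affine_inf p).choose

lemma selfIso_smul (p : ℕ) (a : A) (c : (CohIII.TFun (cxA A G.U F) (p : ℤ)).obj (ModuleCat.of A A)) :
    selfIso A G F p (a • c) = a • selfIso A G F p c := by
  obtain ⟨z, rfl⟩ := FlatCxBase.clsT_surjective (cxA A G.U F)
    (FlatCxBase.cochain_next (p : ℤ)) (ModuleCat.of A A) c
  rw [← map_smul]
  have h := ((selfModel A G.U F).exists_hhEquiv G.hcov G.affine G.affine_inf p).choose_spec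
  erw [h, h]
  refine SecModel.cycToHH_smul (selfModel A G.U F) G.hcov (a • LinearMap.id)
    (Coh.toGlobal (X ↘ Spec (CommRingCat.of A)) a) (fun W w => ?_) p z _ ?_
  · change (show Γ(F, W) from TensorProduct.rid A (secA A F W)
        ((a • LinearMap.id (R := A) (M := A)).lTensor _ w)) =
      toSec A W a • (show Γ(F, W) from TensorProduct.rid A (secA A F W) w)
    rw [LinearMap.lTensor_smul, LinearMap.lTensor_id, LinearMap.smul_apply, LinearMap.id_apply,
      map_smul]
    rfl
  · change a • z.1 = (a • LinearMap.id (R := A) (M := A)).lTensor _ z.1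
    rw [LinearMap.lTensor_smul, LinearMap.lTensor_id, LinearMap.smul_apply, LinearMap.id_apply]

/-- The cohomology of `F` is that of the Čech complex, `A`-linearly. -/
noncomputable def selfLinIso (p : ℕ) :
    (CohIII.TFun (cxA A G.U F) (p : ℤ)).obj (ModuleCat.of A A) ≃ₗ[A] Coh.HH X F p :=
  (selfIso A G F p).toLinearEquiv (selfIso_smul A G F p)

/-- `T_j` of the Čech complex vanishes in high degrees. -/
theorem exists_isZero_T [X.IsSeparated] [CompactSpace X] :
    ∃ b : ℤ, ∀ j, b < j → ∀ M : ModuleCat.{u} A, IsZero (CohIII.T (cxA A G.U F) j M) := by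
  obtain ⟨d, hd⟩ := exists_hVanish_of_isCompact (X := X) ⊤ isCompact_univ
  refine ⟨d, fun j hj M => ?_⟩
  obtain ⟨p, rfl⟩ : ∃ p : ℕ, j = p := ⟨j.toNat, by omega⟩
  have : Subsingleton (Coh.HH X ((CohIII.tensorAFunctor A F).obj M) p) :=
    (subsingleton_H_iff (X := X.toTopCat) _ p).2
    (hd ((CohIII.tensorAFunctor A F).obj M) inferInstance p (by omega))
  have : Subsingleton ((CohIII.TFun (cxA A G.U F) (p : ℤ)).obj M) :=
    (tensorIsoApp A G F p M).toEquiv.subsingleton
  exact @ModuleCat.isZero_of_subsingleton A _ _ this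

/-- A flat coherent module on a scheme over a Noetherian base, with finite cohomology, has a finite
free complex computing the cohomology of all `F ⊗_A M`. -/
theorem exists_finiteFree_qis [IsNoetherianRing A] [X.IsSeparated] [CompactSpace X]
    (hfl : FlatMod.IsFlatOver (X ↘ Spec (CommRingCat.of A)) F)
    (hfin : ∀ p : ℕ, Module.Finite A (Coh.HH X F p)) :
    ∃ (L : CochainComplex (ModuleCat.{u} A) ℤ) (φ : L ⟶ cxA A G.U F),
      (∀ i, Module.Finite A (L.X i) ∧ Module.Free A (L.X i)) ∧
      (∃ b : ℤ, ∀ i, b < i → IsZero (L.X i)) ∧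
      ∀ M : ModuleCat.{u} A, QuasiIso (((MonoidalCategory.tensorRight M).mapHomologicalComplex
        (ComplexShape.up ℤ)).map φ) := by
  obtain ⟨b, hb⟩ := exists_isZero_T A G F
  let C := cxA A G.U F
  let eC : C ≅ CohIII.tensorObj C (ModuleCat.of A A) :=
    HomologicalComplex.Hom.isoOfComponents
      (fun i => (TensorProduct.rid A (C.X i)).symm.toModuleIso) fun i j _ => by
        refine ModuleCat.hom_ext (LinearMap.ext fun x => ?_)
        exact (LinearMap.rTensor_tmul A (C.d i j).hom (1 : A) x).trans rfl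
  let e : ∀ j : ℤ, C.homology j ≅ CohIII.T C j (ModuleCat.of A A) := fun j =>
    (HomologicalComplex.homologyFunctor _ (ComplexShape.up ℤ) j).mapIso eC
  have hfinC : ∀ j, Module.Finite A (C.homology j) := by
    intro j
    rcases lt_or_ge j 0 with hj | hj
    · have := ModuleCat.subsingleton_of_isZero
        (HomologicalComplex.ExactAt.isZero_homology (K := C) (i := j) (by
          rw [HomologicalComplex.exactAt_iff]
          exact ShortComplex.exact_of_isZero_X₂ _ (isZero_cxA_of_neg A G.U F hj)))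
      infer_instance
    · obtain ⟨p, rfl⟩ : ∃ p : ℕ, j = p := ⟨j.toNat, by omega⟩
      have := hfin p
      exact Module.Finite.equiv ((selfLinIso A G F p).symm ≪≫ₗ (e p).toLinearEquiv.symm)
  have hzero : ∀ i, b < i → IsZero (C.homology i) := fun i hi =>
    (hb i hi (ModuleCat.of A A)).of_iso (e i)
  obtain ⟨L, φ, hφ, hL, hLb⟩ := FiniteFree.exists_quasiIso hfinC b hzero
  have : ∀ i, Module.Flat A (L.X i) := fun i =>
    have := (hL i).2
    inferInstance
  have : ∀ i, Module.Flat A (C.X i) := flat_cxA A G.U F fun x => flat_secA A F hfl (G.affine x)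
  exact ⟨L, φ, hL, ⟨b, hLb⟩, fun M => FiniteFree.quasiIso_tensor_of_eventually b hLb hb φ M⟩

variable {A}

/-- The isomorphism induced on `T_p` by a map staying a quasi-isomorphism after tensoring. -/
noncomputable def tFunIso {K L : CochainComplex (ModuleCat.{u} A) ℤ} (φ : K ⟶ L) (j : ℤ)
    (h : ∀ M : ModuleCat.{u} A, QuasiIso (((MonoidalCategory.tensorRight M).mapHomologicalComplex
        (ComplexShape.up ℤ)).map φ)) : CohIII.TFun K j ≅ CohIII.TFun L j :=
  NatIso.ofComponents
    (fun M => haveI := h M; @asIso _ _ _ _ (HomologicalComplex.homologyMap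
      (((MonoidalCategory.tensorRight M).mapHomologicalComplex (ComplexShape.up ℤ)).map φ) j)
      ((quasiIsoAt_iff_isIso_homologyMap _ j).1 (QuasiIso.quasiIsoAt j)))
    fun {M N} g => by
      refine (HomologicalComplex.homologyMap_comp _ _ _).symm.trans
        (Eq.trans ?_ (HomologicalComplex.homologyMap_comp _ _ _))
      refine congrArg (HomologicalComplex.homologyMap · j) ?_
      exact ((NatTrans.mapHomologicalComplex ((MonoidalCategory.tensoringRight
        (ModuleCat.{u} A)).map g) (ComplexShape.up ℤ)).naturality φ).symm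

end Complex

end Groth.CohBase
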