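import Groth.Agent.FlatCxBase.FlatAlg
import Groth.Agent.FlatCxBase.Criteria
import Groth.Agent.FlatCxBase.MaxLocal

/-!
# Fibre dimensions of the cohomology of a complex of finite flat modules
-/

universe u

open CategoryTheory CategoryTheory.Limits MonoidalCategory HomologicalComplex
open scoped TensorProduct

namespace Groth.CohBase.CxRank

open Groth.FlatCxBase

variable {A : Type u} [CommRing A] (L : CochainComplex (ModuleCat.{u} A) ℤ)

/-- The cokernel in degree `j`. -/
abbrev Qc (j : ℤ) : Type u := Coker L (j - 1) j

/-- The differential out of the cokernel. -/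
noncomputable abbrev dq (j : ℤ) : Qc L j →ₗ[A] L.X (j + 1) := dBar L (j - 1) j (j + 1)

/-- The cohomology in degree `j`, as a kernel. -/
abbrev Hk (j : ℤ) : Type u := LinearMap.ker (dq L j)

lemma range_dq (j : ℤ) : LinearMap.range (dq L j) = LinearMap.range (L.d j (j + 1)).hom := by
  rw [← dBar_comp L (j - 1) j (j + 1), LinearMap.range_comp_of_range_eq_top _ (Submodule.range_mkQ _)]

/-- The cokernel of the differential out of the cokernel is the next cokernel. -/
noncomputable def cokerDqEquiv (j : ℤ) :
    (L.X (j + 1) ⧸ LinearMap.range (dq L j)) ≃ₗ[A] Qc L (j + 1) :=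
  Submodule.quotEquivOfEq _ _ ((range_dq L j).trans (by rw [show j + 1 - 1 = j by ring]))

section

variable {V W W' : Type*} [AddCommGroup V] [Module A V] [AddCommGroup W] [Module A W]
  [AddCommGroup W'] [Module A W']

/-- Two surjections with the same kernel have isomorphic targets. -/
noncomputable def equivOfKerEq (f : V →ₗ[A] W) (g : V →ₗ[A] W') (hf : Function.Surjective f)
    (hg : Function.Surjective g) (h : LinearMap.ker g = LinearMap.ker f) : W ≃ₗ[A] W' :=
  (f.quotKerEquivOfSurjective hf).symm ≪≫ₗ
    (Submodule.quotEquivOfEq _ _ h.symm ≪≫ₗ g.quotKerEquivOfSurjective hg)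

lemma equivOfKerEq_apply (f : V →ₗ[A] W) (g : V →ₗ[A] W') (hf : Function.Surjective f)
    (hg : Function.Surjective g) (h : LinearMap.ker g = LinearMap.ker f) (v : V) :
    equivOfKerEq f g hf hg h (f v) = g v := by
  have : (f.quotKerEquivOfSurjective hf).symm (f v) = Submodule.Quotient.mk v :=
    (LinearEquiv.symm_apply_eq _).2 rfl
  simp only [equivOfKerEq, LinearEquiv.trans_apply, this]
  rfl

end

section Tensor

variable (M : ModuleCat.{u} A) (j : ℤ)

/-- A cocycle of the tensored complex in the kernel of the tensored differential. -/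
noncomputable def cycToKer :
    LinearMap.ker ((L.d j (j + 1)).hom.rTensor M) →ₗ[A] LinearMap.ker ((dq L j).rTensor M) :=
  (((cokerπ L (j - 1) j).rTensor M).comp
    (LinearMap.ker ((L.d j (j + 1)).hom.rTensor M)).subtype).codRestrict _ fun z => by
      rw [LinearMap.mem_ker, LinearMap.comp_apply, ← LinearMap.rTensor_comp_apply, dBar_comp]
      exact z.2

lemma cycToKer_coe (z : LinearMap.ker ((L.d j (j + 1)).hom.rTensor M)) :
    (cycToKer L M j z : Qc L j ⊗[A] M) = (cokerπ L (j - 1) j).rTensor M z.1 := rfl

lemma cycToKer_surjective : Function.Surjective (cycToKer L M j) := by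
  rintro ⟨q, hq⟩
  obtain ⟨x, rfl⟩ := LinearMap.rTensor_surjective M
    (Submodule.mkQ_surjective (LinearMap.range (L.d (j - 1) j).hom)) q
  refine ⟨⟨x, ?_⟩, rfl⟩
  rw [LinearMap.mem_ker, ← LinearMap.rTensor_comp_apply, dBar_comp] at hq
  exact hq

lemma ker_cycToKer :
    LinearMap.ker (cycToKer L M j) = LinearMap.ker (clsT L (cochain_next j) M) := by
  ext z
  exact (Iff.trans ⟨fun h => congrArg Subtype.val h, fun h => Subtype.ext h⟩
    (rTensor_cokerπ_eq_zero_iff L M (j - 1) j z.1)).trans
      (clsT_eq_zero_iff L _ M (cochain_prev j) z).symm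

/-- `T_j(M)` is the kernel of the tensored differential out of the cokernel. -/
noncomputable def tKerEquiv :
    (CohIII.TFun L j).obj M ≃ₗ[A] LinearMap.ker ((dq L j).rTensor M) :=
  letI e := equivOfKerEq (W' := LinearMap.ker ((dq L j).rTensor M)) (clsT L (cochain_next j) M)
    (cycToKer L M j) (clsT_surjective L (cochain_next j) M)
    (cycToKer_surjective L M j) (ker_cycToKer L M j)
  e

lemma tKerEquiv_clsT (z : LinearMap.ker ((L.d j (j + 1)).hom.rTensor M)) :
    tKerEquiv L M j (clsT L (cochain_next j) M z) = cycToKer L M j z :=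
  by
  have h := equivOfKerEq_apply (W' := LinearMap.ker ((dq L j).rTensor M)) (clsT L (cochain_next j) M)
    (cycToKer L M j) (clsT_surjective L (cochain_next j) M)
    (cycToKer_surjective L M j) (ker_cycToKer L M j) z
  exact h

lemma tKerEquiv_map {N : ModuleCat.{u} A} (g : M ⟶ N) (a : (CohIII.TFun L j).obj M) :
    (tKerEquiv L N j ((CohIII.TFun L j).map g a) : Qc L j ⊗[A] N) =
      g.hom.lTensor (Qc L j) (tKerEquiv L M j a : Qc L j ⊗[A] M) := by
  obtain ⟨z, rfl⟩ := clsT_surjective L (cochain_next j) M a
  rw [TFun_map_clsT, tKerEquiv_clsT, tKerEquiv_clsT, cycToKer_coe, cycToKer_coe, lTensor_rTensor]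

/-- `T_j(A)` is the kernel of the differential out of the cokernel. -/
noncomputable def tOneEquiv : (CohIII.TFun L j).obj (ModuleCat.of A A) ≃ₗ[A] Hk L j :=
  (tKerEquiv L (ModuleCat.of A A) j).trans
    (LinearEquiv.ofSubmodules (TensorProduct.rid A (Qc L j)) _ _ (by
      ext q
      have h : ∀ y : Qc L j ⊗[A] A, (dq L j) (TensorProduct.rid A _ y) =
          TensorProduct.rid A _ ((dq L j).rTensor A y) := fun y => by
        induction y using TensorProduct.induction_on with
        | zero => simp
        | tmul s a => simp
        | add p q hp hq => simp [hp, hq]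
      constructor
      · rintro ⟨y, hy, rfl⟩
        exact (h y).trans (by rw [show (dq L j).rTensor A y = 0 from hy, map_zero])
      · intro hq
        refine ⟨(TensorProduct.rid A _).symm q, ?_, LinearEquiv.apply_symm_apply _ q⟩
        apply (TensorProduct.rid A _).injective
        rw [← h, LinearEquiv.apply_symm_apply, map_zero]
        exact hq))

end Tensor

section Field

variable (K : Type u) [Field K] [Algebra A K]

/-- Dimension of the base change to a field. -/
noncomputable def kdim (K : Type u) [Field K] (M : Type u) {A : Type u} [CommRing A] [Algebra A K]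
    [AddCommGroup M] [Module A M] : ℕ :=
  Module.finrank K (K ⊗[A] M)

lemma kdim_eq_fdim (M : Type u) [AddCommGroup M] [Module A M] (x : PrimeSpectrum A)
    (hK : RingHom.ker (algebraMap A K) = x.asIdeal) : kdim (A := A) K M = fdim M x := by
  let ι : x.asIdeal.ResidueField →+* K :=
    Ideal.ResidueField.lift x.asIdeal (algebraMap A K) hK.ge (fun r hr => by
      refine IsUnit.mk0 _ fun h => hr ?_
      rw [← hK]; exact h)
  let := ι.toAlgebra
  have : IsScalarTower A x.asIdeal.ResidueField K := .of_algebraMap_eq fun a =>
    (Ideal.ResidueField.lift_algebraMap _ _ _ _ a).symm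
  exact ((TensorProduct.AlgebraTensorModule.cancelBaseChange A x.asIdeal.ResidueField K K M).finrank_eq).symm.trans
    Module.finrank_baseChange

variable [∀ i, Module.Finite A (L.X i)] (j : ℤ)

lemma kdim_ker_add :
    Module.finrank K (LinearMap.ker ((dq L j).baseChange K)) + kdim (A := A) K (L.X (j + 1)) =
      kdim (A := A) K (Qc L j) + kdim (A := A) K (Qc L (j + 1)) := by
  set f := (dq L j).baseChange K
  have h1 := f.finrank_range_add_finrank_ker
  have h2 : Module.finrank K ((K ⊗[A] L.X (j + 1)) ⧸ LinearMap.range f) = kdim (A := A) K (Qc L (j + 1)) := by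
    refine Eq.trans ?_ ((cokerDqEquiv L j).baseChange A K _ _).finrank_eq
    let π := (LinearMap.range (dq L j)).mkQ.baseChange K
    have hπ : Function.Surjective π :=
      LinearMap.baseChange_surjective (R := A) K (Submodule.mkQ_surjective _)
    have hex : LinearMap.range f = LinearMap.ker π := by
      ext y
      exact (lTensor_exact K (LinearMap.exact_map_mkQ_range (dq L j)) (Submodule.mkQ_surjective _) y).symm
    exact ((Submodule.quotEquivOfEq _ _ hex).trans (π.quotKerEquivOfSurjective hπ)).finrank_eq
  have h3 := (LinearMap.range f).finrank_quotient_add_finrank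
  rw [h2] at h3
  change _ + Module.finrank K (K ⊗[A] L.X (j + 1)) = _
  change _ = Module.finrank K (K ⊗[A] Qc L j) + _
  omega

end Field

section Flat

variable [∀ i, Module.Flat A (L.X i)] (j : ℤ)

lemma flat_range_dq (h : Module.Flat A (Qc L (j + 1))) :
    Module.Flat A (LinearMap.range (dq L j)) := by
  have : Module.Flat A (L.X (j + 1) ⧸ LinearMap.range (dq L j)) :=
    Module.Flat.of_linearEquiv (cokerDqEquiv L j)
  rw [← Submodule.ker_mkQ (LinearMap.range (dq L j))]
  have : Module.Flat A (LinearMap.range (LinearMap.range (dq L j)).mkQ) :=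
    Module.Flat.of_linearEquiv ((LinearEquiv.ofEq _ _ (Submodule.range_mkQ _)).trans
      Submodule.topEquiv)
  exact flat_ker_of_flat_range _

lemma flat_Qc_of_next (h : Module.Flat A (Qc L (j + 1))) (hH : Module.Flat A (Hk L j)) :
    Module.Flat A (Qc L j) := by
  have := flat_range_dq L j h
  refine flat_of_exact_flat_right (f := (LinearMap.ker (dq L j)).subtype)
    (g := (dq L j).rangeRestrict) Subtype.val_injective (LinearMap.surjective_rangeRestrict _) ?_
  rw [LinearMap.exact_iff, LinearMap.ker_rangeRestrict, Submodule.range_subtype]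

lemma flat_Hk (h : Module.Flat A (Qc L j)) (h' : Module.Flat A (Qc L (j + 1))) :
    Module.Flat A (Hk L j) := by
  have := flat_range_dq L j h'
  exact flat_ker_of_flat_range (dq L j)

/-- Cokernels of flat degrees of a complex with flat cohomology above a degree are flat. -/
lemma flat_Qc_of_flat_Hk (b : ℤ) (hb : ∀ i, b < i → IsZero (L.X i)) (m : ℤ)
    (hH : ∀ i, m ≤ i → Module.Flat A (Hk L i)) : ∀ i, m ≤ i → Module.Flat A (Qc L i) := by
  suffices ∀ n : ℕ, ∀ i, m ≤ i → b < i + n → Module.Flat A (Qc L i) from
    fun i hi => this (b + 1 - i).toNat i hi (by omega)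
  intro n
  induction n with
  | zero =>
    intro i _ hbi
    have := ModuleCat.subsingleton_of_isZero (hb i (by omega))
    have : Subsingleton (Qc L i) := (Submodule.mkQ_surjective _).subsingleton
    infer_instance
  | succ n ih =>
    intro i hi hbi
    exact flat_Qc_of_next L i (ih (i + 1) (by omega) (by omega)) (hH i hi)

/-- Flatness of the first cokernel when `T_{-1}` vanishes identically. -/
lemma flat_Qc_succ_of_isZero (h : ∀ M : ModuleCat.{u} A, IsZero (CohIII.T L j M)) :
    Module.Flat A (Qc L (j + 1)) := by
  have he : (CohIII.TFun L j).PreservesEpimorphisms :=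
    ⟨fun {M N} _ _ => ⟨fun _ _ _ => (show IsZero ((CohIII.TFun L j).obj N) from h N).eq_of_src _ _⟩⟩
  have := (preservesEpi_iff_flat L (cochain_prev j) (cochain_next j)).1 he
  exact Module.Flat.of_linearEquiv (M := Coker L j (j + 1))
    (Submodule.quotEquivOfEq _ _ (by rw [show j + 1 - 1 = j by ring]))

variable (K : Type u) [Field K] [Algebra A K]

/-- With flat cokernels the cohomology commutes with passage to fibres. -/
noncomputable def hkBaseChange (h' : Module.Flat A (Qc L (j + 1))) :
    K ⊗[A] Hk L j ≃ₗ[K] LinearMap.ker ((dq L j).baseChange K) :=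
  have : Module.Flat A (L.X (j + 1) ⧸ LinearMap.range (dq L j)) :=
    Module.Flat.of_linearEquiv (cokerDqEquiv L j)
  kerBaseChangeEquiv K (dq L j)

end Flat

section Noetherian

variable [IsNoetherianRing A] [∀ i, Module.Finite A (L.X i)] [∀ i, Module.Flat A (L.X i)] (j : ℤ)

omit [∀ i, Module.Flat A (L.X i)] in
lemma finite_Hk : Module.Finite A (Hk L j) := inferInstance

omit [IsNoetherianRing A] in
/-- Flat cokernels from injectivity at all maximal ideals. -/
lemma flat_of_injective_residue
    (h : ∀ (m : Ideal A) [m.IsMaximal], Function.Injective ((dq L j).lTensor (A ⧸ m))) :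
    Module.Flat A (Qc L (j + 1)) := by
  have := flat_coker_of_residue (dq L j) h
  exact Module.Flat.of_linearEquiv (cokerDqEquiv L j).symm

omit [IsNoetherianRing A] in
/-- Where the fibre of the cohomology vanishes, so does the cohomology. -/
lemma notMem_support_of_injective (x : PrimeSpectrum A)
    (h : Function.Injective ((dq L j).lTensor x.asIdeal.ResidueField)) :
    x ∉ Module.support A (Hk L j) := by
  let B := Localization.AtPrime x.asIdeal
  let k := IsLocalRing.ResidueField B
  have : Module.Flat A B := IsLocalization.flat B x.asIdeal.primeCompl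
  let f := dq L j
  let f' := f.baseChange B
  have : Module.Free B (B ⊗[A] L.X (j + 1)) := Module.free_of_flat_of_isLocalRing
  have hinj : Function.Injective (f'.lTensor k) := by
    let cX := TensorProduct.AlgebraTensorModule.cancelBaseChange A B k k (Qc L j)
    let cY := TensorProduct.AlgebraTensorModule.cancelBaseChange A B k k (L.X (j + 1))
    have key : ∀ z, cY (f'.lTensor k z) = f.lTensor k (cX z) := fun z => by
      induction z using TensorProduct.induction_on with
      | zero => simp
      | add a b ha hb => simp only [map_add, ha, hb]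
      | tmul a w =>
        induction w using TensorProduct.induction_on with
        | zero => simp
        | add u v hu hv => simp only [TensorProduct.tmul_add, map_add, hu, hv]
        | tmul b x => simp [cX, cY, f', f]
    intro a b hab
    exact cX.injective (h (by rw [← key, ← key, hab]))
  obtain ⟨r, hr⟩ := (IsLocalRing.split_injective_iff_lTensor_residueField_injective f').2 hinj
  have hf' : Function.Injective f' := fun a b e => by
    have := congrArg r e
    rwa [show r (f' a) = a from LinearMap.congr_fun hr a,
      show r (f' b) = b from LinearMap.congr_fun hr b] at this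
  have : Subsingleton (B ⊗[A] LinearMap.ker f) := subsingleton_of_forall_eq 0 fun z => by
    apply Module.Flat.lTensor_preserves_injective_linearMap (M := B) (LinearMap.ker f).subtype
      Subtype.val_injective
    rw [map_zero]
    apply hf'
    rw [map_zero]
    change f.lTensor B _ = 0
    rw [← LinearMap.lTensor_comp_apply,
      (LinearMap.exact_subtype_ker_map f).linearMap_comp_eq_zero, LinearMap.lTensor_zero,
      LinearMap.zero_apply]
  rw [Module.notMem_support_iff]
  exact (LocalizedModule.equivTensorProduct x.asIdeal.primeCompl (LinearMap.ker f)).toEquiv.subsingleton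

/-- Over a reduced ring, locally constant fibre dimensions give flat cokernels. -/
lemma flat_of_isLocallyConstant [IsReduced A]
    (hc : IsLocallyConstant fun x : PrimeSpectrum A =>
      Module.finrank x.asIdeal.ResidueField
        (LinearMap.ker ((dq L j).baseChange x.asIdeal.ResidueField))) :
    Module.Flat A (Qc L j) ∧ Module.Flat A (Qc L (j + 1)) := by
  have key : ∀ x : PrimeSpectrum A, ∀ z ≤ x,
      fdim (Qc L j) z = fdim (Qc L j) x ∧ fdim (Qc L (j + 1)) z = fdim (Qc L (j + 1)) x := by
    intro x z hzx
    have hs := ((PrimeSpectrum.le_iff_specializes z x).1 hzx).pure_le_nhds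
    have h0 := hs (hc.eventually_eq x)
    have : Module.FinitePresentation A (L.X (j + 1)) := Module.finitePresentation_of_finite A _
    have hX := hs ((isLocallyConstant_fdim (A := A) (L.X (j + 1))).eventually_eq x)
    have h1 := fdim_le_of_le (Qc L j) hzx
    have h2 := fdim_le_of_le (Qc L (j + 1)) hzx
    have ex := kdim_ker_add L x.asIdeal.ResidueField j
    have ez := kdim_ker_add L z.asIdeal.ResidueField j
    simp only [kdim] at ex ez
    simp only [fdim] at h1 h2 hX ⊢
    change _ = _ at h0 hX
    omega
  exact ⟨flat_of_fdim_eq _ fun x _ z hz => (key x z hz).1,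
    flat_of_fdim_eq _ fun x _ z hz => (key x z hz).2⟩

/-- With flat cokernels, the rank of the cohomology is the fibre dimension. -/
lemma rankAtStalk_Hk (h : Module.Flat A (Qc L j)) (h' : Module.Flat A (Qc L (j + 1)))
    (x : PrimeSpectrum A) (K : Type u) [Field K] [Algebra A K]
    (hK : RingHom.ker (algebraMap A K) = x.asIdeal) :
    Module.rankAtStalk (Hk L j) x =
      Module.finrank K (LinearMap.ker ((dq L j).baseChange K)) := by
  have := flat_Hk L j h h'
  rw [← fdim_eq_rankAtStalk, ← kdim_eq_fdim K _ x hK]
  exact (hkBaseChange L j K h').finrank_eq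

end Noetherian

end Groth.CohBase.CxRank
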