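import Groth.Agent.CohBase.Push

/-!
# Dimension shifting through an acyclic middle term
-/

universe u

open CategoryTheory Limits TopologicalSpace Opposite
open CategoryTheory.Abelian (Ext)

namespace Groth.CohBase

variable {X : TopCat.{u}} {S : ShortComplex (AbSheaf X)} (hS : S.ShortExact) {W : Opens X}

include hS

lemma deltaSec_surjective_of_hVanish (h₂ : HVanish S.X₂ 1 W) :
    Function.Surjective (deltaSec hS W) := by
  intro y
  obtain ⟨z, hz⟩ := Ext.covariant_sequence_exact₁ (freeOpen W) hS y (h₂.elim _ _) (zero_add 1)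
  refine ⟨homFreeOpen W _ (Ext.addEquiv₀ z), ?_⟩
  rw [deltaSec_apply, AddEquiv.symm_apply_apply, Ext.mk₀_addEquiv₀_apply]
  exact hz

lemma hVanish_one_of_hVanish (h₂ : HVanish S.X₂ 1 W)
    (h : Function.Surjective (S.g.hom.app (op W))) : HVanish S.X₁ 1 W := by
  refine subsingleton_of_forall_eq 0 fun y => ?_
  obtain ⟨q, rfl⟩ := deltaSec_surjective_of_hVanish hS h₂ y
  exact (mem_ker_deltaSec hS W q).mpr (h q)

lemma hVanish_first {n : ℕ} (h₂ : HVanish S.X₂ (n + 1) W) (h₃ : HVanish S.X₃ n W) :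
    HVanish S.X₁ (n + 1) W :=
  subsingleton_of_forall_eq 0 fun x => by
    obtain ⟨y, hy⟩ := Ext.covariant_sequence_exact₁ (freeOpen W) hS x (h₂.elim _ _) rfl
    have hy0 : y = (0 : Ext (freeOpen W) S.X₃ n) := h₃.elim _ _
    rw [← hy, hy0, Ext.zero_comp]
    rfl

lemma hVanish_third {n : ℕ} (h₁ : HVanish S.X₁ (n + 1) W) (h₂ : HVanish S.X₂ n W) :
    HVanish S.X₃ n W :=
  subsingleton_of_forall_eq 0 fun x => by
    obtain ⟨y, hy⟩ := Ext.covariant_sequence_exact₃ (freeOpen W) hS x rfl (h₁.elim _ _)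
    have hy0 : y = (0 : Ext (freeOpen W) S.X₂ n) := h₂.elim _ _
    rw [← hy, hy0, Ext.zero_comp]
    rfl

/-- Shifting along a sequence whose middle term is acyclic. -/
noncomputable def equivHShiftOfVanish {n : ℕ} (h₂ : HVanish S.X₂ (n + 1) W)
    (h₂' : HVanish S.X₂ (n + 2) W) :
    (Sheaf.H' S.X₃ (n + 1) W : Type u) ≃+ (Sheaf.H' S.X₁ (n + 2) W : Type u) :=
  AddEquiv.ofBijective (hS.extClass.postcomp (freeOpen W) (rfl : n + 1 + 1 = n + 2))
    ⟨(injective_iff_map_eq_zero _).mpr fun x hx => by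
      obtain ⟨y, rfl⟩ := Ext.covariant_sequence_exact₃ (freeOpen W) hS x (n₁ := n + 2) rfl hx
      have hy0 : y = (0 : Ext (freeOpen W) S.X₂ (n + 1)) := h₂.elim _ _
      rw [hy0, Ext.zero_comp]
      rfl,
    fun x => Ext.covariant_sequence_exact₁ (freeOpen W) hS x (h₂'.elim _ _) rfl⟩

end Groth.CohBase
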