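import Groth.Agent.CohBase.Push
import Groth.Agent.CohBase.AffineVanishing
import Mathlib.AlgebraicGeometry.Morphisms.Affine

/-!
# Cohomology along affine morphisms
-/

universe u

open CategoryTheory Limits AlgebraicGeometry TopologicalSpace Opposite

namespace Groth.CohBase

variable {X Y : Scheme.{u}} (f : X ⟶ Y) [IsAffineHom f]

/-- A quasi-coherent module is acyclic for an affine morphism. -/
lemma pushAcyclic_of_isAffineHom (M : X.Modules) [M.IsQuasicoherent] :
    PushAcyclic f.base (abSheaf M) := by
  intro V y hy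
  obtain ⟨V', hV', hyV', hle⟩ := Opens.isBasis_iff_nbhd.mp Y.isBasis_affineOpens hy
  exact ⟨V', hle, hyV', fun q =>
    hVanish_of_isAffineOpen M (IsAffineOpen.preimage (hU := hV') f) q⟩

lemma nonempty_equiv_H_push (M : X.Modules) [M.IsQuasicoherent] (n : ℕ) :
    Nonempty ((Sheaf.H (abSheaf ((Scheme.Modules.pushforward f).obj M)) n : Type u) ≃+
      (Sheaf.H (abSheaf M) n : Type u)) :=
  (pushAcyclic_of_isAffineHom f M).nonempty_equiv_H n

end Groth.CohBase
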