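import Groth.Agent.CohBase.DerivedShift
import Mathlib.CategoryTheory.Abelian.Refinements

/-!
# Vanishing of the first derived functor gives surjectivity
-/

universe v u v' u'

open CategoryTheory Limits

namespace Groth.CohBase

variable {C : Type u} [Category.{v} C] [Abelian C] {D : Type u'} [Category.{v'} D] [Abelian D]
  [HasInjectiveResolutions C] (F : C ⥤ D) [F.Additive] [PreservesFiniteLimits F]
  {S : ShortComplex C} (hS : S.ShortExact) [Injective S.X₂]

include hS

/-- If the first derived functor kills the first term, the image of the epimorphism stays epi. -/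
lemma epi_map_of_isZero_rightDerived_one (h : IsZero ((F.rightDerived 1).obj S.X₁)) :
    Epi (F.map S.g) := by
  let R := injectiveResolution S.X₃
  have hx : ((F.mapHomologicalComplex _).obj (spliceComplex R)).ExactAt 1 :=
    (HomologicalComplex.exactAt_iff_isZero_homology _ _).mpr
      (h.of_iso ((splice hS R).isoRightDerivedObj F 1).symm)
  rw [HomologicalComplex.exactAt_iff' _ 0 1 2 (by simp) (by simp),
    ShortComplex.exact_iff_exact_up_to_refinements] at hx
  have hk := KernelFork.mapIsLimit _ R.isLimitKernelFork F
  have : Mono (resι R) := inferInstanceAs (Mono (R.ι.f 0))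
  have : Mono (F.map (resι R)) := inferInstance
  rw [epi_iff_surjective_up_to_refinements]
  intro A y
  obtain ⟨A', π, hπ, x, hx'⟩ := hx (y ≫ F.map (resι R)) (by
    change (y ≫ F.map (resι R)) ≫ F.map (R.cocomplex.d 0 1) = 0
    rw [Category.assoc, map_resι_d, comp_zero])
  refine ⟨A', π, hπ, x, ?_⟩
  rw [← cancel_mono (F.map (resι R)), Category.assoc]
  exact hx'.trans ((congrArg (x ≫ ·) (F.map_comp S.g (resι R))).trans
    (Category.assoc _ _ _).symm)

end Groth.CohBase
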