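import Groth.Agent.CohBase.SerreCriterion
import Groth.Agent.CohBase.DerivedEpi
import Groth.Agent.CohBase.AffinePush

/-!
# A cohomological criterion for affine morphisms
-/

universe u

open CategoryTheory Limits AlgebraicGeometry TopologicalSpace Opposite

namespace Groth.CohBase

variable {X Y : Scheme.{u}}

lemma quasiCompact_opens_ι [QuasiSeparatedSpace X] (T : X.Opens) (hT : IsCompact (T : Set X)) :
    QuasiCompact T.ι := by
  refine ⟨fun U hU hUc => ?_⟩
  rw [T.ι.isOpenEmbedding.isInducing.isCompact_iff, Set.image_preimage_eq_inter_range,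
    Scheme.Opens.range_ι]
  exact QuasiSeparatedSpace.inter_isCompact _ _ hU hUc T.2 hT

lemma isIso_unitPush_app (T : X.Opens) (W : (T : Scheme.{u}).Opens) :
    IsIso ((unitPush T.ι).app (T.ι ''ᵁ W)) := by
  have : IsIso (T.ι.app (T.ι ''ᵁ W)) :=
    Scheme.Hom.isIso_app T.ι _ (Set.image_subset_range _ _)
  rw [ConcreteCategory.isIso_iff_bijective]
  exact ConcreteCategory.bijective_of_isIso (T.ι.app (T.ι ''ᵁ W))

lemma preservesFiniteLimits_restrictFunctor {Z : Scheme.{u}} (g : Z ⟶ X) [IsOpenImmersion g] :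
    PreservesFiniteLimits (Scheme.Modules.restrictFunctor g) := by
  refine ⟨fun J _ _ => ?_⟩
  have := preservesFiniteLimits_restrictAb g.isOpenEmbedding
  have : (toAbF Z).ReflectsIsomorphisms :=
    inferInstanceAs (SheafOfModules.toSheaf.{u} Z.ringCatSheaf).ReflectsIsomorphisms
  have : HasLimitsOfShape J Z.Modules := inferInstance
  have : PreservesLimitsOfShape J (toAbF Z) := inferInstance
  have : ReflectsLimitsOfShape J (toAbF Z) :=
    reflectsLimitsOfShape_of_reflectsIsomorphisms
  have : PreservesLimitsOfShape J (Scheme.Modules.restrictFunctor g ⋙ toAbF Z) :=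
    inferInstanceAs (PreservesLimitsOfShape J (toAbF X ⋙ restrictAb g.isOpenEmbedding))
  exact preservesLimitsOfShape_of_reflects_of_preserves (Scheme.Modules.restrictFunctor g) (toAbF Z)

/-- Ideals of a quasi-compact open extend to ideals of the scheme. -/
theorem exists_extend_ideal [QuasiSeparatedSpace X] (T : X.Opens) (hT : IsCompact (T : Set X))
    (J : (T : Scheme.{u}).Modules) (ι : J ⟶ Coh.structureModule T) [Mono ι]
    (hJ : J.IsQuasicoherent) :
    ∃ (I : X.Modules) (i : I ⟶ Coh.structureModule X), Mono i ∧ I.IsQuasicoherent ∧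
      Nonempty (I.restrict T.ι ≅ J) := by
  have := quasiCompact_opens_ι T hT
  let P := Scheme.Modules.pushforward T.ι
  have : (P.obj J).IsQuasicoherent := QCohMod.isQCoh_pushforward _ _
  have : (P.obj (Coh.structureModule T)).IsQuasicoherent := QCohMod.isQCoh_pushforward _ _
  have : P.IsRightAdjoint := (Scheme.Modules.restrictAdjunction T.ι).isRightAdjoint
  have : Mono (P.map ι) := inferInstance
  refine ⟨pullback (P.map ι) (unitPush T.ι), pullback.snd _ _, inferInstance, inferInstance, ?_⟩
  let R := Scheme.Modules.restrictFunctor T.ι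
  have := preservesFiniteLimits_restrictFunctor T.ι
  have hsnd : IsIso (R.map (unitPush T.ι)) :=
    Scheme.Modules.Hom.isIso_iff_isIso_app.mpr fun W => by
      have := isIso_unitPush_app T W
      exact this
  have : PreservesLimit (cospan (P.map ι) (unitPush T.ι)) R := inferInstance
  have hR := (IsPullback.of_hasPullback (P.map ι) (unitPush T.ι)).map R
  have : IsIso (R.map (pullback.fst (P.map ι) (unitPush T.ι))) := hR.isIso_fst_of_isIso
  exact ⟨asIso (R.map (pullback.fst (P.map ι) (unitPush T.ι))) ≪≫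
    (Scheme.Modules.restrictFunctorAdjCounitIso T.ι).app J⟩

/-- Vanishing of the first higher direct image of ideals makes a morphism affine. -/
theorem isAffineHom_of_R1 (f : X ⟶ Y) [QuasiCompact f]
    [QuasiSeparatedSpace X] [QuasiSeparatedSpace Y]
    (h : ∀ (I : X.Modules) (i : I ⟶ Coh.structureModule X), Mono i → I.IsQuasicoherent →
      IsZero (((pushSheaf f.base).rightDerived 1).obj (abSheaf I))) : IsAffineHom f := by
  refine ⟨fun V hV => ?_⟩
  have : QuasiSeparated f := by
    have : QuasiSeparated (f ≫ Limits.terminal.from Y) := by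
      rw [terminal.comp_from]
      exact (quasiSeparatedSpace_iff_quasiSeparated X).mp inferInstance
    exact QuasiSeparated.of_comp f (Limits.terminal.from Y)
  have hc : IsCompact ((f ⁻¹ᵁ V : X.Opens) : Set X) :=
    QuasiCompact.isCompact_preimage _ V.2 hV.isCompact
  have : CompactSpace ((f ⁻¹ᵁ V : X.Opens) : Scheme.{u}) := isCompact_iff_compactSpace.mp hc
  change IsAffine ((f ⁻¹ᵁ V : X.Opens) : Scheme.{u})
  refine isAffine_of_h1 fun J ι hι hJ => ?_
  obtain ⟨I, i, hi, hI, ⟨e⟩⟩ := exists_extend_ideal (f ⁻¹ᵁ V) hc J ι hJ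
  have hz := h I i hi hI
  -- vanishing of the first cohomology on the preimage
  have hS := injPres_shortExact (abSheaf I)
  have hepi := epi_map_of_isZero_rightDerived_one (pushSheaf f.base) hS hz
  have hS' : ((injPres (abSheaf I)).map (pushSheaf f.base)).ShortExact :=
    { exact := by
        have := hS.mono_f
        exact (((Functor.preservesFiniteLimits_tfae (pushSheaf f.base)).out 3 1 rfl rfl).mp
          inferInstance _ ⟨hS.exact, hS.mono_f⟩).1
      mono_f := by
        have := hS.mono_f
        exact inferInstanceAs (Mono ((pushSheaf f.base).map (injPres (abSheaf I)).f))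
      epi_g := hepi }
  have : ((Scheme.Modules.pushforward f).obj I).IsQuasicoherent := QCohMod.isQCoh_pushforward _ _
  have hsurj : Function.Surjective ((injPres (abSheaf I)).g.hom.app (op (f ⁻¹ᵁ V))) :=
    sections_surjective hS' (hVanish_of_isAffineOpen ((Scheme.Modules.pushforward f).obj I) hV 0)
  have h1 : HVanish (X := X.toTopCat) (abSheaf I) 1 (f ⁻¹ᵁ V) :=
    hVanish_one (S := injPres (abSheaf I)) hS hsurj
  obtain ⟨e'⟩ := nonempty_equiv_HHon I (f ⁻¹ᵁ V) 1
  have hH : Subsingleton (Sheaf.H (abSheaf (I.restrict (f ⁻¹ᵁ V).ι)) 1 : Type u) :=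
    haveI := h1; e'.toEquiv.subsingleton
  have hH' : HVanish (X := ((f ⁻¹ᵁ V : X.Opens) : Scheme.{u}).toTopCat)
      (abSheaf (I.restrict (f ⁻¹ᵁ V).ι)) 1 ⊤ := (subsingleton_H_iff _ 1).mp hH
  have e'' := ((CategoryTheory.Sheaf.cohomologyPresheafFunctor
    (Opens.grothendieckTopology ((f ⁻¹ᵁ V : X.Opens) : Scheme.{u}).toTopCat) 1).mapIso
      ((toAbF _).mapIso e)).app (op ⊤)
  haveI := hH'
  exact e''.addCommGroupIsoToAddEquiv.symm.toEquiv.subsingleton

end Groth.CohBase
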