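import Groth.Agent.CohBase.CechDerived
import Groth.Agent.CohBase.AffineVanishing

/-!
# Čech cohomology of a quasi-coherent module for a covering with affine intersections
-/

universe u

open CategoryTheory Limits AlgebraicGeometry TopologicalSpace

namespace Groth.CohBase

variable {X : Scheme.{u}} {ι : Type u}

lemma inter_eq_finset_inf [DecidableEq ι] (U : ι → X.Opens) {n : ℕ} (x : Fin n → ι) :
    inter (X := X.toTopCat) U x = ⨅ i ∈ Finset.univ.image x, U i :=
  le_antisymm (le_iInf₂ fun i hi => by
      obtain ⟨a, -, rfl⟩ := Finset.mem_image.mp hi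
      exact inter_le (X := X.toTopCat) U x a)
    (le_iInf fun a => iInf₂_le_of_le (x a) (Finset.mem_image_of_mem x (Finset.mem_univ a)) le_rfl)

/-- All intersections of the family are affine, in tuple form. -/
lemma isAffineOpen_inter_of_finset (U : ι → X.Opens)
    (hU : ∀ s : Finset ι, s.Nonempty → IsAffineOpen (⨅ i ∈ s, U i)) {n : ℕ} (x : Fin (n + 1) → ι) :
    IsAffineOpen (inter (X := X.toTopCat) U x) := by
  classical
  rw [inter_eq_finset_inf]
  exact hU _ ⟨x 0, Finset.mem_image_of_mem x (Finset.mem_univ 0)⟩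

/-- Čech cohomology computes cohomology for a quasi-coherent module and a covering with affine
intersections. -/
theorem nonempty_cech_equiv_H (U : ι → X.Opens) (hcov : ⨆ i, U i = ⊤)
    (hU : ∀ {n : ℕ} (x : Fin (n + 1) → ι), IsAffineOpen (inter (X := X.toTopCat) U x))
    (M : X.Modules) [M.IsQuasicoherent] (p : ℕ) :
    Nonempty (((cechCx (X := X.toTopCat) U M.presheaf).homology p : Type u) ≃+
      (Sheaf.H (abSheaf M) p : Type u)) := by
  obtain ⟨e⟩ := nonempty_cech_equiv_H' (X := X.toTopCat) U ⊤ (fun _ => le_top) hcov.ge p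
    (abSheaf M) fun n x q => hVanish_of_isAffineOpen M (hU x) q
  exact ⟨e.trans (equivHTop (X := X.toTopCat) (abSheaf M) p).symm⟩

end Groth.CohBase
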