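import Groth.Agent.CohBase.CxModel
import Groth.Agent.QCohMod.PullbackSections
import Mathlib.AlgebraicGeometry.Morphisms.Flat

/-!
# Čech cohomology of the inverse image along a change of the base ring
-/

universe u

open CategoryTheory Limits AlgebraicGeometry TopologicalSpace Opposite
open scoped TensorProduct
open Groth.QCohMod (resFun resFun_resFun resFun_self res_app)
open Groth.PicAux (pullSec pullSec_smul res_pullSec)

namespace Groth.CohBase

variable {A A' : Type u} [CommRing A] [CommRing A'] [Algebra A A'] {X X' : Scheme.{u}}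
  [X.Over (Spec (CommRingCat.of A))] [X'.Over (Spec (CommRingCat.of A'))] {g : X' ⟶ X}

/-- The square exhibiting `X'` as the base change of `X`. -/
abbrev IsBC (g : X' ⟶ X) : Prop :=
  IsPullback g (X' ↘ Spec (CommRingCat.of A')) (X ↘ Spec (CommRingCat.of A))
    (Spec.map (CommRingCat.ofHom (algebraMap A A')))

variable (hsq : IsBC (A := A) (A' := A') g)
include hsq

lemma isAffineHom_of_bc : IsAffineHom g :=
  MorphismProperty.of_isPullback hsq.flip (inferInstanceAs
    (IsAffineHom (Spec.map (CommRingCat.ofHom (algebraMap A A')))))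

lemma isSeparated_of_bc [X.IsSeparated] : X'.IsSeparated := by
  have := isAffineHom_of_bc hsq
  rw [Scheme.isSeparated_iff, show terminal.from X' = g ≫ terminal.from X from Subsingleton.elim _ _]
  infer_instance

lemma app_toSec (W : X.Opens) (a : A) :
    g.app W (toSec A W a) = toSec A' (g ⁻¹ᵁ W) (algebraMap A A' a) := by
  change g.app W ((X ↘ Spec (CommRingCat.of A)).appLE ⊤ W le_top
      ((Scheme.ΓSpecIso (CommRingCat.of A)).inv a)) =
    (X' ↘ Spec (CommRingCat.of A')).appLE ⊤ (g ⁻¹ᵁ W) le_top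
      ((Scheme.ΓSpecIso (CommRingCat.of A')).inv (algebraMap A A' a))
  rw [Scheme.Hom.app_eq_appLE, ← CommRingCat.comp_apply, Scheme.Hom.appLE_comp_appLE]
  have h : (Scheme.ΓSpecIso (CommRingCat.of A')).inv (algebraMap A A' a) =
      (Spec.map (CommRingCat.ofHom (algebraMap A A'))).appTop
        ((Scheme.ΓSpecIso (CommRingCat.of A)).inv a) :=
    congr($(Scheme.ΓSpecIso_inv_naturality (CommRingCat.ofHom (algebraMap A A'))) a)
  rw [h]
  change _ = ((Spec.map (CommRingCat.ofHom (algebraMap A A'))).app ⊤ ≫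
    (X' ↘ Spec (CommRingCat.of A')).appLE ⊤ (g ⁻¹ᵁ W) le_top) _
  refine Eq.trans ?_ (congr($(Scheme.Hom.comp_appLE (X' ↘ Spec (CommRingCat.of A'))
    (Spec.map (CommRingCat.ofHom (algebraMap A A'))) ⊤ (g ⁻¹ᵁ W) le_top)
      ((Scheme.ΓSpecIso (CommRingCat.of A)).inv a)))
  simp only [hsq.w]

lemma isPushout_toSec {W : X.Opens} (hW : IsAffineOpen W) :
    IsPushout (CommRingCat.ofHom (toSec A W)) (CommRingCat.ofHom (algebraMap A A'))
      (g.app W) (CommRingCat.ofHom (toSec A' (g ⁻¹ᵁ W))) := by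
  let s := Spec.map (CommRingCat.ofHom (algebraMap A A'))
  have hUY : g ⁻¹ᵁ W = g ⁻¹ᵁ W ⊓ (X' ↘ Spec (CommRingCat.of A')) ⁻¹ᵁ ⊤ := by simp
  have e₁ : W ≤ (X ↘ Spec (CommRingCat.of A)) ⁻¹ᵁ ⊤ := le_top
  have e₂ : (⊤ : (Spec (CommRingCat.of A')).Opens) ≤ s ⁻¹ᵁ ⊤ := le_top
  have h := (isIso_pushoutSection_iff hsq e₂ e₁ hUY).1
    (isIso_pushoutSection_of_isAffineOpen hsq e₂ e₁ hUY (isAffineOpen_top _) (isAffineOpen_top _) hW)
  refine IsPushout.of_iso h (Scheme.ΓSpecIso (CommRingCat.of A)) (Iso.refl _)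
    (Scheme.ΓSpecIso (CommRingCat.of A')) (Iso.refl _) ?_ ?_ ?_ ?_
  · rw [Iso.refl_hom, Category.comp_id, ← Iso.inv_comp_eq]
    rfl
  · change s.appLE ⊤ ⊤ e₂ ≫ _ = _
    rw [show s.appLE ⊤ ⊤ e₂ = s.appTop from (Scheme.Hom.app_eq_appLE s).symm]
    exact Scheme.ΓSpecIso_naturality (CommRingCat.ofHom (algebraMap A A'))
  · simp only [Iso.refl_hom, Category.comp_id, Category.id_comp]
    exact (Scheme.Hom.app_eq_appLE g).symm
  · rw [Iso.refl_hom, Category.comp_id, ← Iso.inv_comp_eq]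
    rfl

variable (F : X.Modules)

/-- The comparison map `Γ(F, W) ⊗_A A' → Γ(g^* F, g⁻¹ W)`. -/
noncomputable def bcSec (W : X.Opens) :
    secA A F W ⊗[A] A' →+ Γ((Scheme.Modules.pullback g).obj F, g ⁻¹ᵁ W) :=
  TensorProduct.liftAddHom
    (AddMonoidHom.mk' (fun s => AddMonoidHom.mk'
        (fun b => toSec A' (g ⁻¹ᵁ W) b • pullSecHom g F W (show Γ(F, W) from s))
        fun b b' => by rw [map_add, add_smul])
      fun s s' => AddMonoidHom.ext fun b =>
        (congrArg (toSec A' (g ⁻¹ᵁ W) b • ·) (map_add (pullSecHom g F W) _ _)).trans (smul_add _ _ _))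
    fun a s b => by
      change toSec A' (g ⁻¹ᵁ W) b • pullSec g F (toSec A W a • (show Γ(F, W) from s)) =
        toSec A' (g ⁻¹ᵁ W) (a • b) • pullSec g F (show Γ(F, W) from s)
      rw [pullSec_smul, app_toSec hsq, smul_smul, ← map_mul, mul_comm, Algebra.smul_def]

lemma bcSec_tmul (W : X.Opens) (s : secA A F W) (b : A') :
    bcSec hsq F W (s ⊗ₜ b) = toSec A' (g ⁻¹ᵁ W) b • pullSec g F (show Γ(F, W) from s) := rfl

lemma bcSec_res {V W : X.Opens} (h : V ≤ W) (z : secA A F W ⊗[A] A') :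
    QCohMod.res _ (g.preimage_mono h) (bcSec hsq F W z) =
      bcSec hsq F V ((secRes A F h).rTensor A' z) := by
  induction z using TensorProduct.induction_on with
  | zero => simp
  | tmul s b =>
    rw [bcSec_tmul, LinearMap.rTensor_tmul, bcSec_tmul, QCohMod.res_smul, resFun_toSec]
    exact congrArg _ (res_pullSec g F h _)
  | add p q hp hq => simp [hp, hq]

lemma bcSec_smul (W : X.Opens) (b : A') (z : secA A F W ⊗[A] A') :
    bcSec hsq F W ((LinearMap.mul A A' b).lTensor (secA A F W) z) =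
      resFun X' (le_top : g ⁻¹ᵁ W ≤ ⊤) (Coh.toGlobal (X' ↘ Spec (CommRingCat.of A')) b) •
        bcSec hsq F W z := by
  induction z using TensorProduct.induction_on with
  | zero => simp
  | tmul s c =>
    rw [LinearMap.lTensor_tmul, bcSec_tmul, bcSec_tmul, smul_smul, LinearMap.mul_apply', map_mul]
    rfl
  | add p q hp hq => simp only [map_add, hp, hq, smul_add]

theorem bcSec_bijective [F.IsQuasicoherent] {W : X.Opens} (hW : IsAffineOpen W) :
    Function.Bijective (bcSec hsq F W) := by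
  have := isAffineHom_of_bc hsq
  have hW' : IsAffineOpen (g ⁻¹ᵁ W) := hW.preimage g
  have e : g ⁻¹ᵁ W ≤ g ⁻¹ᵁ W := le_rfl
  let : Algebra A Γ(X, W) := (toSec A W).toAlgebra
  let := QCohMod.sectionsAlg g e
  let h₀ := CommRingCat.isPushout_tensorProduct A Γ(X, W) A'
  let i := IsPushout.isoIsPushout _ _ h₀ (isPushout_toSec hsq hW)
  have hi : ∀ r b, i.hom (r ⊗ₜ[A] b) = g.app W r * toSec A' (g ⁻¹ᵁ W) b := by
    intro r b
    rw [show r ⊗ₜ[A] b = (r ⊗ₜ[A] (1 : A')) * ((1 : Γ(X, W)) ⊗ₜ[A] b) by simp]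
    refine (map_mul i.hom.hom _ _).trans ?_
    congr 1
    · exact congr($(IsPushout.inl_isoIsPushout_hom _ _ h₀ (isPushout_toSec hsq hW)) r)
    · exact congr($(IsPushout.inr_isoIsPushout_hom _ _ h₀ (isPushout_toSec hsq hW)) b)
  let ρ : Γ(X, W) ⊗[A] A' ≃ₗ[Γ(X, W)] Γ(X', g ⁻¹ᵁ W) :=
    i.commRingCatIsoToRingEquiv.toAddEquiv.toLinearEquiv fun r z => by
      induction z using TensorProduct.induction_on with
      | zero => simp
      | tmul r' b =>
        change i.hom (r • (r' ⊗ₜ[A] b)) = g.appLE W (g ⁻¹ᵁ W) e r * i.hom (r' ⊗ₜ[A] b)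
        rw [TensorProduct.smul_tmul', hi, hi, smul_eq_mul, map_mul, mul_assoc,
          ← Scheme.Hom.app_eq_appLE]
      | add p q hp hq => rw [smul_add, map_add, hp, hq, map_add, smul_add]
  let : Module A Γ(F, W) := Module.compHom _ (toSec A W)
  have : IsScalarTower A Γ(X, W) Γ(F, W) := IsScalarTower.of_compHom _ _ _
  let e₁ : secA A F W ⊗[A] A' ≃+ Γ(F, W) ⊗[Γ(X, W)] (Γ(X, W) ⊗[A] A') :=
    (TensorProduct.AlgebraTensorModule.cancelBaseChange A Γ(X, W) Γ(X, W) Γ(F, W) A').symm.toAddEquiv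
  let e₂ : Γ(F, W) ⊗[Γ(X, W)] (Γ(X, W) ⊗[A] A') ≃+ Γ(X', g ⁻¹ᵁ W) ⊗[Γ(X, W)] Γ(F, W) :=
    ((TensorProduct.comm Γ(X, W) Γ(F, W) (Γ(X, W) ⊗[A] A')).trans
      (TensorProduct.congr ρ (LinearEquiv.refl _ _))).toAddEquiv
  have key : ∀ z, bcSec hsq F W z = QCohMod.pullSecTensor g F e (e₂ (e₁ z)) := by
    intro z
    induction z using TensorProduct.induction_on with
    | zero => simp
    | tmul s b =>
      rw [bcSec_tmul]
      change _ = QCohMod.pullSecTensor g F e (i.hom (1 ⊗ₜ[A] b) ⊗ₜ (show Γ(F, W) from s))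
      rw [QCohMod.pullSecTensor_tmul, hi, map_one, one_mul, QCohMod.res_self]
    | add p q hp hq => simp [hp, hq]
  rw [show (bcSec hsq F W : _ → _) = QCohMod.pullSecTensor g F e ∘ e₂ ∘ e₁ from funext key]
  exact (QCohMod.pullSecTensor_bijective g F e hW hW').comp (e₂.bijective.comp e₁.bijective)

/-- The comparison for `g^* F`. -/
noncomputable def bcModel (G : GoodCover X) [F.IsQuasicoherent] :
    SecModel A G.U F A' g ((Scheme.Modules.pullback g).obj F) where
  Φ W := bcSec hsq F W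
  nat h z := bcSec_res hsq F h z
  bij x := bcSec_bijective hsq F (G.affine x)

variable (G : GoodCover X)

lemma bc_affine {n : ℕ} (x : Fin (n + 1) → G.ι) :
    IsAffineOpen (tupOpen (fun i => g ⁻¹ᵁ G.U i) x) := by
  have := isAffineHom_of_bc hsq
  rw [tupOpen_preimage]
  exact (G.affine x).preimage g

lemma bc_affine_inf [X.IsSeparated] (W : X'.Opens) (hW : IsAffineOpen W) {n : ℕ}
    (x : Fin (n + 1) → G.ι) : IsAffineOpen (W ⊓ tupOpen (fun i => g ⁻¹ᵁ G.U i) x) := by
  have := isSeparated_of_bc hsq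
  exact hW.inf (bc_affine hsq G x)

/-- Cohomology of the base change is that of the tensored Čech complex, `A'`-equivariantly. -/
theorem exists_bcEquiv [F.IsQuasicoherent] [X.IsSeparated] (p : ℕ) :
    ∃ e : (CohIII.TFun (cxA A G.U F) (p : ℤ)).obj (ModuleCat.of A A') ≃+
        Coh.HH X' ((Scheme.Modules.pullback g).obj F) p,
      ∀ (b : A') c, e ((CohIII.TFun (cxA A G.U F) (p : ℤ)).map
        (ModuleCat.ofHom (LinearMap.mul A A' b)) c) = b • e c := by
  have := QCohMod.isQCoh_pullback_obj g F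
  obtain ⟨e, he⟩ := (bcModel hsq F G).exists_hhEquiv G.hcov (bc_affine hsq G)
    (bc_affine_inf hsq G) p
  refine ⟨e, fun b c => ?_⟩
  obtain ⟨z, rfl⟩ := FlatCxBase.clsT_surjective (cxA A G.U F)
    (FlatCxBase.cochain_next (p : ℤ)) (ModuleCat.of A A') c
  rw [FlatCxBase.TFun_map_clsT, he, he]
  exact SecModel.cycToHH_smul (bcModel hsq F G) G.hcov (LinearMap.mul A A' b)
    (Coh.toGlobal (X' ↘ Spec (CommRingCat.of A')) b)
    (fun W z => bcSec_smul hsq F W b z) p z _ rfl

end Groth.CohBase
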