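import Groth.Agent.CohBase.RpushAffineLin
import Groth.Agent.CohBase.BaseChangeModel
import Groth.Agent.CohFin.Linear
import Groth.Agent.Flatmor4.FlatModAffine

/-!
# Fibres over the points of an affine open of the base
-/

universe u

open CategoryTheory Limits AlgebraicGeometry TopologicalSpace Opposite
open Groth.QCohMod (resFun resFun_resFun resFun_self res_app)

namespace Groth.CohBase

variable {X S : Scheme.{u}} (f : X ⟶ S) {V : S.Opens} (hV : IsAffineOpen V)

lemma preimageToSpec_eq : preimageToSpec f (V := V) = (f ∣_ V) ≫ V.toSpecΓ := by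
  unfold preimageToSpec Scheme.Opens.toSpecΓ
  rw [Category.assoc, ← Spec.map_comp, Scheme.toSpecΓ_naturality_assoc, ← Spec.map_comp]
  congr 2
  simp [Scheme.Opens.topIso, Scheme.Hom.app_eq_appLE]
  exact (Scheme.Hom.appLE_map _ _ _).trans (Scheme.Hom.map_appLE _ _ _).symm

include hV in
lemma isPullback_preimageToSpec :
    IsPullback (f ⁻¹ᵁ V).ι (preimageToSpec f (V := V)) f hV.fromSpec := by
  refine (isPullback_morphismRestrict f V).flip.of_iso (Iso.refl _) (Iso.refl _) hV.isoSpec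
    (Iso.refl _) (by simp) ?_ (by simp) (by simp [IsAffineOpen.isoSpec_hom_fromSpec])
  simp [preimageToSpec_eq, IsAffineOpen.isoSpec_hom]

lemma SpecMap_evaluation_fromSpec (y : S) (hy : y ∈ V) :
    Spec.map (S.evaluation V y hy) ≫ hV.fromSpec = S.fromSpecResidueField y := by
  rw [← Scheme.germ_residue, Spec.map_comp, Category.assoc]
  exact congrArg (_ ≫ ·) (hV.fromSpecStalk_eq_fromSpecStalk hy)

/-- The fibre over a point of `V` maps into the preimage of `V`. -/
noncomputable def fibreToPreimage (y : S) (hy : y ∈ V) :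
    f.fiber y ⟶ ((f ⁻¹ᵁ V : X.Opens) : Scheme.{u}) :=
  IsOpenImmersion.lift (f ⁻¹ᵁ V).ι (f.fiberι y) (by
    rw [Scheme.Opens.range_ι]
    rintro _ ⟨x, rfl⟩
    change f (f.fiberι y x) ∈ V
    rw [← Scheme.Hom.comp_apply, f.fiber_fac, Scheme.Hom.comp_apply,
      Scheme.fromSpecResidueField_apply]
    exact hy)

lemma fibreToPreimage_ι (y : S) (hy : y ∈ V) :
    fibreToPreimage f y hy ≫ (f ⁻¹ᵁ V).ι = f.fiberι y :=
  IsOpenImmersion.lift_fac _ _ _

include hV in
/-- The fibre is the base change of the preimage along the evaluation. -/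
lemma isPullback_fibreToPreimage (y : S) (hy : y ∈ V) :
    IsPullback (fibreToPreimage f y hy) (f.fiberToSpecResidueField y) (preimageToSpec f (V := V))
      (Spec.map (S.evaluation V y hy)) := by
  have h : IsPullback (fibreToPreimage f y hy ≫ (f ⁻¹ᵁ V).ι) (f.fiberToSpecResidueField y) f
      (Spec.map (S.evaluation V y hy) ≫ hV.fromSpec) := by
    rw [fibreToPreimage_ι, SpecMap_evaluation_fromSpec hV y hy]
    exact IsPullback.of_hasPullback f (S.fromSpecResidueField y)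
  refine h.of_right ?_ (isPullback_preimageToSpec f hV)
  rw [← cancel_mono hV.fromSpec, Category.assoc, Category.assoc,
    ← (isPullback_preimageToSpec f hV).w, ← Category.assoc]
  exact h.w

section Iso

variable {A : Type u} [CommRing A] (q : X ⟶ Spec (CommRingCat.of A))

/-- An isomorphism of modules on cohomology, linearly over the base ring. -/
noncomputable def haIsoEquiv {M N : X.Modules} (e : M ≅ N) (n : ℕ) :
    CohFin.HA q M n ≃ₗ[A] CohFin.HA q N n :=
  LinearEquiv.ofLinearMap (CohFin.mapL q e.hom n) (CohFin.mapL q e.inv n)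
    (LinearMap.ext fun x => by
      rw [LinearMap.comp_apply, ← CohFin.mapL_comp, e.inv_hom_id, CohFin.mapL_id]; rfl)
    (LinearMap.ext fun x => by
      rw [LinearMap.comp_apply, ← CohFin.mapL_comp, e.hom_inv_id, CohFin.mapL_id]; rfl)

end Iso

/-- The fibre module as a pullback from the preimage of `V`. -/
noncomputable def fibreModIso (M : X.Modules) (y : S) (hy : y ∈ V) :
    (Scheme.Modules.pullback (fibreToPreimage f y hy)).obj (M.restrict (f ⁻¹ᵁ V).ι) ≅
      CohIII.fiberMod f M y :=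
  (Scheme.Modules.pullback (fibreToPreimage f y hy)).mapIso
      ((Scheme.Modules.restrictFunctorIsoPullback (f ⁻¹ᵁ V).ι).app M) ≪≫
    (Scheme.Modules.pullbackComp (fibreToPreimage f y hy) (f ⁻¹ᵁ V).ι).app M ≪≫
    eqToIso (congrArg (fun g => (Scheme.Modules.pullback g).obj M) (fibreToPreimage_ι f y hy))

lemma appIso_inv_toGlobal (W : ((f ⁻¹ᵁ V : X.Opens) : Scheme.{u}).Opens) (a : Γ(S, V))
    (e : (f ⁻¹ᵁ V).ι ''ᵁ W ≤ f ⁻¹ᵁ V) :
    ((f ⁻¹ᵁ V).ι.appIso W).inv
        (resFun _ (le_top : W ≤ ⊤) (Coh.toGlobal (preimageToSpec f (V := V)) a)) =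
      f.appLE V ((f ⁻¹ᵁ V).ι ''ᵁ W) e a := by
  have h := congrArg (resFun X e) (appIso_preimageToSpec f a)
  rw [resFun_resFun] at h
  refine Eq.trans ?_ h
  exact congr($(Scheme.Hom.appIso_inv_naturality (f ⁻¹ᵁ V).ι
    (homOfLE (le_top : W ≤ ⊤)).op) (Coh.toGlobal (preimageToSpec f (V := V)) a))

include hV in
/-- Flatness over the base restricts to the preimage of an affine open. -/
theorem isFlatOver_restrict_preimage (M : X.Modules) [M.IsQuasicoherent]
    (hfl : FlatMod.IsFlatOver f M) :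
    FlatMod.IsFlatOver (preimageToSpec f (V := V)) (M.restrict (f ⁻¹ᵁ V).ι) := by
  let q := preimageToSpec f (V := V)
  let G := M.restrict (f ⁻¹ᵁ V).ι
  intro x
  obtain ⟨_, ⟨W, hW, rfl⟩, hxW, -⟩ :=
    ((f ⁻¹ᵁ V : X.Opens) : Scheme.{u}).isBasis_affineOpens.exists_subset_of_mem_open
      (Set.mem_univ x) isOpen_univ
  have e : W ≤ q ⁻¹ᵁ ⊤ := le_top
  refine (Flatmor4.flat_sections_iff q G hW (isAffineOpen_top _) e).1 ?_ x hxW
  let R₀ := Γ(Spec (CommRingCat.of Γ(S, V)), ⊤)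
  have e' : (f ⁻¹ᵁ V).ι ''ᵁ W ≤ f ⁻¹ᵁ V := by
    rintro _ ⟨w, -, rfl⟩
    exact w.2
  let : Module Γ(S, V) Γ(M, (f ⁻¹ᵁ V).ι ''ᵁ W) := Flatmor4.sectionModule f M e'
  have : Module.Flat Γ(S, V) Γ(M, (f ⁻¹ᵁ V).ι ''ᵁ W) :=
    (Flatmor4.isFlatOver_iff_affine f M).1 hfl _ V e' (hW.image_of_isOpenImmersion _) hV
  let : Algebra R₀ Γ(S, V) := (Scheme.ΓSpecIso (CommRingCat.of Γ(S, V))).hom.hom.toAlgebra
  have hb : Function.Bijective (algebraMap R₀ Γ(S, V)) :=
    ConcreteCategory.bijective_of_isIso (Scheme.ΓSpecIso (CommRingCat.of Γ(S, V))).hom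
  have : Module.Flat R₀ Γ(S, V) :=
    Module.Flat.of_linearEquiv (LinearEquiv.ofBijective (Algebra.linearMap R₀ Γ(S, V)) hb).symm
  let : Module R₀ Γ(M, (f ⁻¹ᵁ V).ι ''ᵁ W) := Flatmor4.sectionModule q G e
  have : IsScalarTower R₀ Γ(S, V) Γ(M, (f ⁻¹ᵁ V).ι ''ᵁ W) := .of_algebraMap_smul fun r m => by
    change f.appLE V _ e' ((Scheme.ΓSpecIso (CommRingCat.of Γ(S, V))).hom r) • m =
      ((f ⁻¹ᵁ V).ι.appIso W).inv (q.appLE ⊤ W e r) • m
    rw [← appIso_inv_toGlobal]
    congr 2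
    change (q.app ⊤ ≫ _) ((Scheme.ΓSpecIso _).hom ≫ (Scheme.ΓSpecIso _).inv |>.hom r) = _
    rw [Iso.hom_inv_id]
    rfl
  exact Module.Flat.trans R₀ Γ(S, V) Γ(M, (f ⁻¹ᵁ V).ι ''ᵁ W)

end Groth.CohBase
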