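import Groth.Agent.CohBase.RankTheory
import Mathlib.RingTheory.Flat.Equalizer
import Mathlib.RingTheory.LocalRing.Module

/-!
# Lifting cocycles from the fibre at a point where the next cohomology vanishes
-/

universe u

open CategoryTheory CategoryTheory.Limits
open scoped TensorProduct

namespace Groth.CohBase.FibreLiftAlg

open Groth.FlatCxBase CxRank

/-- Kernel elements lift along a surjection when the cokernel is flat. -/
theorem exists_lift_ker {B K : Type u} [CommRing B] [CommRing K] [Algebra B K]
    (hK : Function.Surjective (algebraMap B K)) {N P : Type u} [AddCommGroup N] [Module B N]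
    [AddCommGroup P] [Module B P] (f : N →ₗ[B] P) [Module.Flat B (P ⧸ LinearMap.range f)]
    (z : K ⊗[B] N) (hz : f.lTensor K z = 0) :
    ∃ w : N, f w = 0 ∧ (1 : K) ⊗ₜ[B] w = z := by
  have hι : Function.Injective ((LinearMap.range f).subtype.lTensor K) := by
    rw [LinearMap.lTensor_inj_iff_rTensor_inj]
    exact rTensor_injective_of_flat (g := (LinearMap.range f).mkQ) Subtype.val_injective
      (Submodule.mkQ_surjective _) (LinearMap.exact_subtype_mkQ _) K
  have hg : f.rangeRestrict.lTensor K z = 0 := by
    apply hι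
    rw [map_zero, ← LinearMap.lTensor_comp_apply]
    exact (congrArg (fun l : N →ₗ[B] P => l.lTensor K z) (LinearMap.ext fun _ => rfl)).trans hz
  obtain ⟨y, rfl⟩ := (lTensor_exact K (f := (LinearMap.ker f).subtype) (g := f.rangeRestrict)
    (by rw [LinearMap.exact_iff, LinearMap.ker_rangeRestrict, Submodule.range_subtype])
    (LinearMap.surjective_rangeRestrict _) z).1 hg
  obtain ⟨m, rfl⟩ : ∃ m : LinearMap.ker f, (1 : K) ⊗ₜ[B] m = y := by
    clear hg hz
    induction y using TensorProduct.induction_on with
    | zero => exact ⟨0, TensorProduct.tmul_zero _ _⟩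
    | tmul k m =>
      obtain ⟨b, rfl⟩ := hK k
      exact ⟨b • m, by rw [← TensorProduct.smul_tmul, Algebra.smul_def, mul_one]⟩
    | add p q hp hq =>
      obtain ⟨a, rfl⟩ := hp
      obtain ⟨b, rfl⟩ := hq
      exact ⟨a + b, TensorProduct.tmul_add _ _ _⟩
  exact ⟨m.1, m.2, rfl⟩

variable {A : Type u} [CommRing A] (L : CochainComplex (ModuleCat.{u} A) ℤ)
  [∀ i, Module.Finite A (L.X i)] [∀ i, Module.Free A (L.X i)]

/-- Cocycles lift from the fibre, up to a factor invertible at the point. -/
theorem exists_lift_Qc (j : ℤ) (p : Ideal A) [p.IsPrime] (K : Type u) [Field K] [Algebra A K]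
    (hker : ∀ a, algebraMap A K a = 0 ↔ a ∈ p)
    (hgen : ∀ x : K, ∃ g ∉ p, ∃ a, algebraMap A K g * x = algebraMap A K a)
    (hinj : Function.Injective ((dq L (j + 1)).lTensor K)) (z : K ⊗[A] Qc L j)
    (hz : (dq L j).lTensor K z = 0) :
    ∃ g ∉ p, ∃ w : Qc L j, dq L j w = 0 ∧ (1 : K) ⊗ₜ[A] w = g • z := by
  let B := Localization.AtPrime p
  have hunit : ∀ s : p.primeCompl, IsUnit (algebraMap A K s.1) := fun s =>
    (isUnit_iff_ne_zero).2 fun h => s.2 ((hker _).1 h)
  let := (IsLocalization.lift (S := B) hunit).toAlgebra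
  have : IsScalarTower A B K :=
    .of_algebraMap_eq fun a => (IsLocalization.lift_eq hunit a).symm
  have hsurj : Function.Surjective (algebraMap B K) := fun x => by
    obtain ⟨g, hg, a, ha⟩ := hgen x
    refine ⟨IsLocalization.mk' B a (⟨g, hg⟩ : p.primeCompl), ?_⟩
    change IsLocalization.lift hunit _ = x
    rw [IsLocalization.lift_mk'_spec]
    exact ha.symm
  have : Module.Flat A B := IsLocalization.flat B p.primeCompl
  let fB := (dq L (j + 1)).baseChange B
  have : Module.Free B (B ⊗[A] L.X (j + 1 + 1)) := inferInstance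
  let eK : IsLocalRing.ResidueField B ≃ₗ[B] K :=
    (Submodule.quotEquivOfEq _ _ (IsLocalRing.eq_maximalIdeal
        (RingHom.ker_isMaximal_of_surjective _ hsurj)).symm).trans
      ((Algebra.linearMap B K).quotKerEquivOfSurjective hsurj)
  have hinjB : Function.Injective (fB.lTensor (IsLocalRing.ResidueField B)) := by
    let cX := TensorProduct.AlgebraTensorModule.cancelBaseChange A B B K (Qc L (j + 1))
    let cY := TensorProduct.AlgebraTensorModule.cancelBaseChange A B B K (L.X (j + 1 + 1))
    have key : ∀ z, cY (fB.lTensor K z) = (dq L (j + 1)).lTensor K (cX z) := fun z => by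
      induction z using TensorProduct.induction_on with
      | zero => simp
      | add a b ha hb => simp only [map_add, ha, hb]
      | tmul a w =>
        induction w using TensorProduct.induction_on with
        | zero => simp
        | add u v hu hv => simp only [TensorProduct.tmul_add, map_add, hu, hv]
        | tmul b x => simp [cX, cY, fB]
    have hK' : Function.Injective (fB.lTensor K) := fun a b hab =>
      cX.injective (hinj (by rw [← key, ← key, hab]))
    intro a b hab
    refine (eK.rTensor (B ⊗[A] Qc L (j + 1))).injective (hK' ?_)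
    have key' : ∀ z, fB.lTensor K (eK.rTensor (B ⊗[A] Qc L (j + 1)) z) =
        eK.rTensor (B ⊗[A] L.X (j + 1 + 1)) (fB.lTensor (IsLocalRing.ResidueField B) z) := fun z => by
      induction z using TensorProduct.induction_on with
      | zero => simp
      | tmul r s => rfl
      | add p q hp hq => simp only [map_add, hp, hq]
    rw [key', key', hab]
  obtain ⟨r, hr⟩ := (IsLocalRing.split_injective_iff_lTensor_residueField_injective fB).2 hinjB
  have : Module.Projective B (B ⊗[A] Qc L (j + 1)) := Module.Projective.of_split fB r hr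
  let f₀ := (dq L j).baseChange B
  let π := (LinearMap.range (dq L j)).mkQ.baseChange B
  have hπ : Function.Surjective π := LinearMap.baseChange_surjective B (Submodule.mkQ_surjective _)
  have hrange : LinearMap.range f₀ = LinearMap.ker π := by
    ext y
    exact (lTensor_exact B (LinearMap.exact_map_mkQ_range (dq L j)) (Submodule.mkQ_surjective _) y).symm
  have : Module.Flat B ((B ⊗[A] L.X (j + 1)) ⧸ LinearMap.range f₀) :=
    Module.Flat.of_linearEquiv (((Submodule.quotEquivOfEq _ _ hrange).trans
      (π.quotKerEquivOfSurjective hπ)).trans ((cokerDqEquiv L j).baseChange A B _ _))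
  let cN := TensorProduct.AlgebraTensorModule.cancelBaseChange A B B K (Qc L j)
  let cP := TensorProduct.AlgebraTensorModule.cancelBaseChange A B B K (L.X (j + 1))
  have key₀ : ∀ z, cP (f₀.lTensor K z) = (dq L j).lTensor K (cN z) := fun z => by
    induction z using TensorProduct.induction_on with
    | zero => simp
    | add a b ha hb => simp only [map_add, ha, hb]
    | tmul a w =>
      induction w using TensorProduct.induction_on with
      | zero => simp
      | add u v hu hv => simp only [TensorProduct.tmul_add, map_add, hu, hv]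
      | tmul b x => simp [cN, cP, f₀]
  obtain ⟨w₀, hw₀, hw₀'⟩ := exists_lift_ker hsurj f₀ (cN.symm z) (cP.injective (by
    rw [key₀, LinearEquiv.apply_symm_apply, hz, map_zero]))
  obtain ⟨y, rfl⟩ := ((Module.Flat.lTensor_exact B
    (LinearMap.exact_subtype_ker_map (dq L j))) w₀).1 hw₀
  let hloc := (TensorProduct.mk A B (LinearMap.ker (dq L j)) 1)
  have : IsLocalizedModule p.primeCompl hloc :=
    (isLocalizedModule_iff_isBaseChange p.primeCompl B _).2 (TensorProduct.isBaseChange A _ B)
  obtain ⟨⟨m, s⟩, hs⟩ := IsLocalizedModule.surj p.primeCompl hloc y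
  refine ⟨s.1, s.2, m.1, m.2, ?_⟩
  have h1 : cN ((1 : K) ⊗ₜ[B] ((LinearMap.ker (dq L j)).subtype.lTensor B y)) = z := by
    rw [hw₀', LinearEquiv.apply_symm_apply]
  rw [← h1]
  refine Eq.trans ?_ (map_smul (cN.restrictScalars A) (s.1 : A) _)
  rw [← TensorProduct.tmul_smul, ← LinearMap.map_smul]
  refine Eq.trans ?_ (congrArg (fun t => cN ((1 : K) ⊗ₜ[B]
    (LinearMap.ker (dq L j)).subtype.lTensor B t)) hs.symm)
  change (1 : K) ⊗ₜ[A] m.1 = cN ((1 : K) ⊗ₜ[B] ((1 : B) ⊗ₜ[A] m.1))
  rw [TensorProduct.AlgebraTensorModule.cancelBaseChange_tmul, one_smul]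

/-- Classes lift from the fibre, up to a factor invertible at the point. -/
theorem exists_map_eq_smul (j : ℤ) (p : Ideal A) [p.IsPrime] (K : Type u) [Field K] [Algebra A K]
    (hker : ∀ a, algebraMap A K a = 0 ↔ a ∈ p)
    (hgen : ∀ x : K, ∃ g ∉ p, ∃ a, algebraMap A K g * x = algebraMap A K a)
    (h : Subsingleton ((CohIII.TFun L (j + 1)).obj (ModuleCat.of A K)))
    (a : (CohIII.TFun L j).obj (ModuleCat.of A K)) :
    ∃ g ∉ p, ∃ a₀, (CohIII.TFun L j).map (ModuleCat.ofHom (Algebra.linearMap A K) :
      ModuleCat.of A A ⟶ ModuleCat.of A K) a₀ = g • a := by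
  let k : ModuleCat.{u} A := ModuleCat.of A K
  have : Subsingleton (LinearMap.ker ((dq L (j + 1)).rTensor k)) :=
    (tKerEquiv L k (j + 1)).symm.toEquiv.subsingleton
  have hinj : Function.Injective ((dq L (j + 1)).lTensor K) := by
    rw [LinearMap.lTensor_inj_iff_rTensor_inj]
    exact LinearMap.ker_eq_bot.1 Submodule.eq_bot_of_subsingleton
  let z := (tKerEquiv L k j a).1
  let c := TensorProduct.comm A (Qc L j) K
  have hz : (dq L j).lTensor K (c z) = 0 := by
    rw [LinearMap.lTensor_def, TensorProduct.map_comm, ← LinearMap.rTensor_def,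
      show (dq L j).rTensor K z = 0 from (tKerEquiv L k j a).2, map_zero]
  obtain ⟨g, hg, w, hw, hwz⟩ := exists_lift_Qc L j p K hker hgen hinj (c z) hz
  refine ⟨g, hg, (tKerEquiv L (ModuleCat.of A A) j).symm ⟨w ⊗ₜ[A] (1 : A), by
    rw [LinearMap.mem_ker, LinearMap.rTensor_tmul, hw, TensorProduct.zero_tmul]⟩,
    (tKerEquiv L k j).injective (Subtype.ext ?_)⟩
  rw [map_smul, Submodule.coe_smul, tKerEquiv_map, LinearEquiv.apply_symm_apply]
  apply c.injective
  rw [map_smul, ← hwz]
  change c (w ⊗ₜ[A] algebraMap A K 1) = (1 : K) ⊗ₜ[A] w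
  rw [map_one]
  rfl

end Groth.CohBase.FibreLiftAlg
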