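import Groth.Agent.CohBase.ExchangeGeom
import Groth.Agent.CohBase.FibreLiftAlg
import Groth.Agent.CohBase.BaseChangeModel
import Groth.Agent.CohFin.Proper
import Groth.Agent.CohFin.ProjFinite

/-!
# Lifting sections from the closed fibre
-/

universe u

open CategoryTheory Limits AlgebraicGeometry TopologicalSpace Opposite HomologicalComplex
open scoped TensorProduct
open Groth.QCohMod (resFun res_app)
open Groth.PicAux (pullSec pullSec_smul res_pullSec)

namespace Groth.CohBase

open Groth.FlatCxBase CxRank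

variable {A : Type u} [CommRing A] {A' : Type u} [CommRing A'] [Algebra A A'] {X X' : Scheme.{u}}
  [X.Over (Spec (CommRingCat.of A))] [X'.Over (Spec (CommRingCat.of A'))] {g : X' ⟶ X}
  (hsq : IsBC (A := A) (A' := A') g) (F : X.Modules)

lemma bcSec_lTensor_linearMap (W : X.Opens) (w : secA A F W ⊗[A] A) :
    bcSec hsq F W ((Algebra.linearMap A A').lTensor (secA A F W) w) =
      pullSec g F (show Γ(F, W) from TensorProduct.rid A (secA A F W) w) := by
  induction w using TensorProduct.induction_on with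
  | zero =>
    simp only [map_zero]
    exact (map_zero (pullSecHom g F W)).symm
  | tmul s a =>
    rw [LinearMap.lTensor_tmul, bcSec_tmul, Algebra.linearMap_apply, ← app_toSec hsq, ← pullSec_smul]
    rfl
  | add p q hp hq =>
    simp only [map_add, hp, hq]
    exact (map_add (pullSecHom g F W) _ _).symm

include hsq in
/-- A section whose cocycle comes from the base is the inverse image of a section. -/
theorem exists_pullSec_of_cocycle [F.IsQuasicoherent] (G : GoodCover X)
    (t : Γ((Scheme.Modules.pullback g).obj F, ⊤)) (z : cxC A G.U F 0 ⊗[A] A')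
    (hz : (bcModel hsq F G).toTop 0 z =
      (SecModel.res' (g := g) G.hcov ((Scheme.Modules.pullback g).obj F)).ι.app ⊤ t)
    (z₀ : cyc₀ A G F (ModuleCat.of A A))
    (hz₀ : (Algebra.linearMap A A').lTensor (cxC A G.U F 0) z₀.1 = z) :
    ∃ s : Γ(F, ⊤), QCohMod.res _ (le_top : ⊤ ≤ g ⁻¹ᵁ ⊤) (pullSec g F s) = t := by
  let Ψ₁ := selfModel A G.U F
  let R := SecModel.res' (g := g) G.hcov ((Scheme.Modules.pullback g).obj F)
  obtain ⟨s, hs⟩ := Res.mem_cyc_zero_iff.1 (Ψ₁.toTop_mem_cyc (g := 𝟙 X) G.hcov z₀)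
  refine ⟨s, Res.ι_app_injective (R := R) ⊤ ?_⟩
  refine Eq.trans ?_ hz
  funext x
  have hx : QCohMod.res F (inf_le_left : ⊤ ⊓ tupOpen (fun i => (𝟙 X) ⁻¹ᵁ G.U i) x ≤ ⊤) s =
      QCohMod.res F (inf_le_right.trans (tupOpen_preimage (𝟙 X) x).le)
        (show Γ(F, tupOpen G.U x) from TensorProduct.rid A (secA A F _)
          ((LinearMap.proj (R := A) (φ := fun x => secA A F (tupOpen G.U x)) x).rTensor A z₀.1)) :=
    congrFun hs x
  have hx' : QCohMod.res F (le_top : tupOpen G.U x ≤ ⊤) s =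
      (show Γ(F, tupOpen G.U x) from TensorProduct.rid A (secA A F _)
        ((LinearMap.proj (R := A) (φ := fun x => secA A F (tupOpen G.U x)) x).rTensor A z₀.1)) := by
    have h := congrArg (QCohMod.res F (le_inf le_top (tupOpen_preimage (𝟙 X) x).ge :
      tupOpen G.U x ≤ ⊤ ⊓ tupOpen (fun i => (𝟙 X) ⁻¹ᵁ G.U i) x)) hx
    exact ((QCohMod.res_res F _ _ _).symm.trans h).trans
      ((QCohMod.res_res F _ _ _).trans (QCohMod.res_self F _))
  change QCohMod.res _ inf_le_left (QCohMod.res _ le_top (pullSec g F s)) = _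
  rw [SecModel.toTop_apply, ← hz₀]
  change _ = QCohMod.res ((Scheme.Modules.pullback g).obj F) _ (bcSec hsq F (tupOpen G.U x)
    ((LinearMap.proj (R := A) (φ := fun x => secA A F (tupOpen G.U x)) x).rTensor A'
      ((Algebra.linearMap A A').lTensor (cxC A G.U F 0) z₀.1)))
  rw [← LinearMap.comp_apply, LinearMap.rTensor_comp_lTensor,
    ← LinearMap.lTensor_comp_rTensor, LinearMap.comp_apply]
  refine Eq.trans ?_ (congrArg (QCohMod.res _ _) (bcSec_lTensor_linearMap hsq F _ _)).symm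
  rw [← hx', QCohMod.res_res]
  refine Eq.trans ?_ (congrArg (QCohMod.res _ _) (res_pullSec g F le_top s))
  exact (QCohMod.res_res _ _ _ _).symm

/-- The cocycle of a global section of the base change. -/
theorem exists_cocycle [F.IsQuasicoherent] (G : GoodCover X)
    (t : Γ((Scheme.Modules.pullback g).obj F, ⊤)) :
    ∃ z : cyc₀ A G F (ModuleCat.of A A'), (bcModel hsq F G).toTop 0 z.1 =
      (SecModel.res' (g := g) G.hcov ((Scheme.Modules.pullback g).obj F)).ι.app ⊤ t := by
  let Ψ := bcModel hsq F G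
  let R := SecModel.res' (g := g) G.hcov ((Scheme.Modules.pullback g).obj F)
  obtain ⟨z, hz⟩ := (Ψ.toTop_bijective 0).2 (R.ι.app ⊤ t)
  refine ⟨⟨z, ?_⟩, hz⟩
  refine (SecModel.cxA_d_rTensor 0 z).trans ((Ψ.toTop_bijective 1).1 ?_)
  refine ((SecModel.toTop_d _ 0 z).trans ?_).trans (map_zero (Ψ.toTop 1)).symm
  rw [hz]
  exact (Res.mem_cyc_zero_iff (R := R)).2 ⟨t, rfl⟩

lemma toTop_bcModel_smul [F.IsQuasicoherent] (G : GoodCover X) (c : A)
    (z : cxC A G.U F 0 ⊗[A] A') (x : Fin (0 + 1) → G.ι) :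
    (bcModel hsq F G).toTop 0 (c • z) x =
      resFun X' (le_top : ⊤ ⊓ tupOpen (fun i => g ⁻¹ᵁ G.U i) x ≤ ⊤)
        (Coh.toGlobal (X' ↘ Spec (CommRingCat.of A')) (algebraMap A A' c)) •
        (bcModel hsq F G).toTop 0 z x := by
  have h : ∀ w : secA A F (tupOpen G.U x) ⊗[A] A', c • w =
      (LinearMap.mul A A' (algebraMap A A' c)).lTensor (secA A F (tupOpen G.U x)) w := fun w => by
    induction w using TensorProduct.induction_on with
    | zero => simp
    | tmul s b =>
      rw [LinearMap.lTensor_tmul, LinearMap.mul_apply', ← Algebra.smul_def, TensorProduct.tmul_smul]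
    | add p q hp hq => simp only [smul_add, map_add, hp, hq]
  rw [SecModel.toTop_apply, SecModel.toTop_apply, map_smul, h]
  refine (congrArg (QCohMod.res _ _) (bcSec_smul hsq F (tupOpen G.U x) _ _)).trans ?_
  refine (QCohMod.res_smul _ _ _ _).trans ?_
  rw [QCohMod.resFun_resFun]
  rfl

include hsq in
/-- Lifting sections from the fibre at a prime of the base, up to a unit at the prime. -/
theorem exists_pullSec_eq_smul [IsNoetherianRing A] [IsProper (X ↘ Spec (CommRingCat.of A))]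
    (hF : Coh.IsCoh F) (hfl : FlatMod.IsFlatOver (X ↘ Spec (CommRingCat.of A)) F)
    (p : Ideal A) [p.IsPrime] (hA' : IsField A')
    (hker : ∀ a, algebraMap A A' a = 0 ↔ a ∈ p)
    (hgen : ∀ x : A', ∃ g ∉ p, ∃ a, algebraMap A A' g * x = algebraMap A A' a)
    (h1 : Subsingleton (Coh.HH X' ((Scheme.Modules.pullback g).obj F) 1))
    (t : Γ((Scheme.Modules.pullback g).obj F, ⊤)) :
    ∃ c ∉ p, ∃ s : Γ(F, ⊤), QCohMod.res _ (le_top : ⊤ ≤ g ⁻¹ᵁ ⊤) (pullSec g F s) =
      (show Γ(X', ⊤) from Coh.toGlobal (X' ↘ Spec (CommRingCat.of A')) (algebraMap A A' c)) • t := by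
  have := CohFin.compactSpace_of_proper (X ↘ Spec (CommRingCat.of A))
  have := CohFin.isSeparated_of_proper (X ↘ Spec (CommRingCat.of A))
  have := hF.1
  have := QCohMod.isQCoh_pullback_obj g F
  let := hA'.toField
  obtain ⟨G⟩ := exists_goodCover X
  obtain ⟨L, φ, hL, -, hq⟩ := exists_finiteFree_qis A G F hfl fun n =>
    CohFin.hFin_of_proper CohFin.projFinite n X (X ↘ Spec (CommRingCat.of A)) F hF
  have : ∀ i, Module.Finite A (L.X i) := fun i => (hL i).1
  have : ∀ i, Module.Free A (L.X i) := fun i => (hL i).2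
  obtain ⟨ε, -⟩ := exists_bcEquiv hsq F G 1
  have hT : Subsingleton ((CohIII.TFun L (((0 : ℕ) : ℤ) + 1)).obj (ModuleCat.of A A')) := by
    have : Subsingleton ((CohIII.TFun (cxA A G.U F) ((1 : ℕ) : ℤ)).obj (ModuleCat.of A A')) :=
      ε.toEquiv.subsingleton
    exact (((tFunIso φ ((1 : ℕ) : ℤ) hq).app (ModuleCat.of A A')).toLinearEquiv).toEquiv.subsingleton
  obtain ⟨z, hz⟩ := exists_cocycle hsq F G t
  let η := tFunIso φ ((0 : ℕ) : ℤ) hq
  let ρ : ModuleCat.of A A ⟶ ModuleCat.of A A' := ModuleCat.ofHom (Algebra.linearMap A A')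
  let cls := clsT (cxA A G.U F) (cochain_next ((0 : ℕ) : ℤ))
  obtain ⟨c, hc, a₀, ha₀⟩ := FibreLiftAlg.exists_map_eq_smul L ((0 : ℕ) : ℤ) p A' hker hgen hT
    ((η.app (ModuleCat.of A A')).toLinearEquiv.symm (cls (ModuleCat.of A A') z))
  obtain ⟨z₀, hz₀⟩ := clsT_surjective (cxA A G.U F) (cochain_next ((0 : ℕ) : ℤ)) (ModuleCat.of A A)
    ((η.app (ModuleCat.of A A)).toLinearEquiv a₀)
  have h2 : (CohIII.TFun (cxA A G.U F) ((0 : ℕ) : ℤ)).map ρ (cls _ z₀) =
      c • cls (ModuleCat.of A A') z := by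
    rw [show cls _ z₀ = _ from hz₀]
    refine (congr($(η.hom.naturality ρ) a₀)).symm.trans ?_
    refine (congrArg (η.app (ModuleCat.of A A')).toLinearEquiv ha₀).trans ?_
    rw [map_smul, LinearEquiv.apply_symm_apply]
  rw [TFun_map_clsT, ← map_smul] at h2
  have h3 := congrArg Subtype.val ((clsT_zero_bijective A G F (ModuleCat.of A A')).1 h2)
  have hz' : (bcModel hsq F G).toTop 0 (c • z.1) =
      (SecModel.res' (g := g) G.hcov ((Scheme.Modules.pullback g).obj F)).ι.app ⊤
        ((show Γ(X', ⊤) from Coh.toGlobal (X' ↘ Spec (CommRingCat.of A')) (algebraMap A A' c)) • t) := by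
    funext x
    refine (toTop_bcModel_smul hsq F G c z.1 x).trans ?_
    rw [hz]
    exact (QCohMod.res_smul _ _ _ _).symm
  obtain ⟨s, hs⟩ := exists_pullSec_of_cocycle hsq F G _ (c • z.1) hz' z₀ h3
  exact ⟨c, hc, s, hs⟩

end Groth.CohBase
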