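import Groth.Agent.CohBase.FibreBC
import Groth.Agent.CohBase.FibreLift
import Groth.Agent.CohFin.Linear
import Groth.Agent.PicAux.Pullback

/-!
# Sections of a flat coherent module from sections on a fibre without first cohomology
-/

universe u

open CategoryTheory Limits AlgebraicGeometry TopologicalSpace Opposite
open Groth.QCohMod (resFun res_app)
open Groth.PicAux (pullSec pullSec_smul res_pullSec pullSec_comp restrictIso_pullSec pullSec_map)

namespace Groth.CohBase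

variable {X S : Scheme.{u}} (f : X ⟶ S) {V : S.Opens}

lemma res_pullSec' {W X : Scheme.{u}} (g : W ⟶ X) (M : X.Modules) {U U' : X.Opens} (h : U' ≤ U)
    (m : Γ(M, U)) : QCohMod.res _ (g.preimage_mono h) (pullSec g M m) =
      pullSec g M (QCohMod.res M h m) :=
  res_pullSec g M h m

lemma eqToIso_pullback_pullSec {W X : Scheme.{u}} {g₁ g₂ : W ⟶ X} (h : g₁ = g₂) (M : X.Modules)
    {U : X.Opens} {O : W.Opens} (e₁ : O ≤ g₁ ⁻¹ᵁ U) (e₂ : O ≤ g₂ ⁻¹ᵁ U) (m : Γ(M, U)) :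
    (eqToIso (congrArg (fun g => (Scheme.Modules.pullback g).obj M) h)).hom.app O
        (QCohMod.res _ e₁ (pullSec g₁ M m)) = QCohMod.res _ e₂ (pullSec g₂ M m) := by
  subst h
  rfl

/-- The fibre module iso on restricted sections. -/
lemma fibreModIso_pullSec (M : X.Modules) (y : S) (hy : y ∈ V) (m : Γ(M, f ⁻¹ᵁ V))
    (e₀ : (⊤ : (f.fiber y).Opens) ≤ fibreToPreimage f y hy ⁻¹ᵁ ⊤)
    (e₂ : (⊤ : (f.fiber y).Opens) ≤ f.fiberι y ⁻¹ᵁ f ⁻¹ᵁ V) :
    (fibreModIso f M y hy).hom.app ⊤ (QCohMod.res _ e₀ (pullSec (fibreToPreimage f y hy)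
      (M.restrict (f ⁻¹ᵁ V).ι)
      (QCohMod.res M (Scheme.Opens.ι_image_le (f ⁻¹ᵁ V) ⊤) m))) =
      QCohMod.res _ e₂ (pullSec (f.fiberι y) M m) := by
  let g := fibreToPreimage f y hy
  let ι := (f ⁻¹ᵁ V).ι
  have hι : (⊤ : ((f ⁻¹ᵁ V : X.Opens) : Scheme.{u}).Opens) ≤ ι ⁻¹ᵁ (f ⁻¹ᵁ V) :=
    (Scheme.Opens.ι_preimage_self _).ge
  have h1 : ((Scheme.Modules.restrictFunctorIsoPullback ι).hom.app M).app ⊤
      (QCohMod.res M (Scheme.Opens.ι_image_le (f ⁻¹ᵁ V) ⊤) m) =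
      QCohMod.res _ hι (pullSec ι M m) := by
    rw [← restrictIso_pullSec ι M m]
    refine Eq.trans ?_ (res_app _ hι _).symm
    exact congrArg _ (QCohMod.res_res M (ι.image_preimage_le _) (ι.image_mono hι) m).symm
  rw [fibreModIso, Iso.trans_hom, Iso.trans_hom, Scheme.Modules.Hom.comp_app,
    Scheme.Modules.Hom.comp_app, ConcreteCategory.comp_apply, ConcreteCategory.comp_apply,
    ← res_app, Functor.mapIso_hom, pullSec_map]
  change (eqToIso (congrArg (fun g => (Scheme.Modules.pullback g).obj M)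
    (fibreToPreimage_ι f y hy))).hom.app ⊤ (((Scheme.Modules.pullbackComp g ι).app M).hom.app ⊤
    (QCohMod.res _ e₀ (pullSec g _ (((Scheme.Modules.restrictFunctorIsoPullback ι).hom.app M).app ⊤
      (QCohMod.res M (Scheme.Opens.ι_image_le (f ⁻¹ᵁ V) ⊤) m))))) = _
  rw [h1, ← res_pullSec']
  let E := (eqToIso (congrArg (fun g => (Scheme.Modules.pullback g).obj M)
    (fibreToPreimage_ι f y hy))).hom.app ⊤
  let C := ((Scheme.Modules.pullbackComp g ι).hom.app M)
  refine (congrArg (fun z => E (C.app ⊤ z)) (QCohMod.res_res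
    ((Scheme.Modules.pullback g).obj ((Scheme.Modules.pullback ι).obj M)) _ _ _)).trans ?_
  have e₁ : (⊤ : (f.fiber y).Opens) ≤ (g ≫ ι) ⁻¹ᵁ (f ⁻¹ᵁ V) := e₀.trans (g.preimage_mono hι)
  refine (congrArg E (Eq.trans (res_app C (U := g ⁻¹ᵁ ι ⁻¹ᵁ (f ⁻¹ᵁ V)) (e₀.trans (g.preimage_mono hι))
      (pullSec g _ (pullSec ι M m))).symm
    (congrArg (QCohMod.res ((Scheme.Modules.pullback (g ≫ ι)).obj M) e₁)
      (pullSec_comp g ι M m)))).trans ?_
  exact eqToIso_pullback_pullSec (fibreToPreimage_ι f y hy) M _ _ m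

variable [IsProper f] [IsLocallyNoetherian S]

/-- A section on a fibre without first cohomology extends to a neighbourhood of the fibre. -/
theorem exists_section_lift (M : X.Modules) (hM : Coh.IsCoh M) (hfl : FlatMod.IsFlatOver f M)
    (y : S) (h1 : Subsingleton (Coh.HH (f.fiber y) (CohIII.fiberMod f M y) 1))
    (t : Γ(CohIII.fiberMod f M y, ⊤)) :
    ∃ (U : S.Opens) (_ : y ∈ U) (e : (⊤ : (f.fiber y).Opens) ≤ f.fiberι y ⁻¹ᵁ f ⁻¹ᵁ U)
      (s : Γ(M, f ⁻¹ᵁ U)), QCohMod.res _ e (pullSec (f.fiberι y) M s) = t := by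
  obtain ⟨V, hV, hy, -⟩ := exists_isAffineOpen_mem_and_subset (X := S) (x := y) (U := ⊤) trivial
  have : IsNoetherianRing Γ(S, V) := IsLocallyNoetherian.component_noetherian ⟨V, hV⟩
  have := hM.1
  have : IsLocallyNoetherian X := LocallyOfFiniteType.isLocallyNoetherian f
  let q : ((f ⁻¹ᵁ V : X.Opens) : Scheme.{u}) ⟶ Spec (CommRingCat.of Γ(S, V)) := preimageToSpec f
  let : ((f ⁻¹ᵁ V : X.Opens) : Scheme.{u}).Over (Spec (CommRingCat.of Γ(S, V))) := ⟨q⟩
  have : IsProper (((f ⁻¹ᵁ V : X.Opens) : Scheme.{u}) ↘ Spec (CommRingCat.of Γ(S, V))) :=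
    MorphismProperty.of_isPullback (isPullback_preimageToSpec f hV) ‹IsProper f›
  let G := M.restrict (f ⁻¹ᵁ V).ι
  have hG : Coh.IsCoh G := CohFin.isCoh_restrict hM _
  have := hG.1
  let : Algebra Γ(S, V) (S.residueField y) := (S.evaluation V y hy).hom.toAlgebra
  let : (f.fiber y).Over (Spec (CommRingCat.of (S.residueField y))) :=
    ⟨f.fiberToSpecResidueField y⟩
  let g := fibreToPreimage f y hy
  have hsq : IsBC (A := Γ(S, V)) (A' := S.residueField y) g := isPullback_fibreToPreimage f hV y hy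
  let θ := fibreModIso f M y hy
  have h1' : Subsingleton (Coh.HH (f.fiber y) ((Scheme.Modules.pullback g).obj G) 1) :=
    @Equiv.subsingleton _ _ (haIsoEquiv (f.fiberToSpecResidueField y) θ 1).toEquiv h1
  let p := (hV.primeIdealOf ⟨y, hy⟩).asIdeal
  have hmem : ∀ a : Γ(S, V), a ∉ p ↔ y ∈ S.basicOpen a := fun a =>
    (Groth.QCohMod.mem_basicOpen_iff_notMem_primeIdealOf hV a y hy).symm
  have hker : ∀ a, algebraMap Γ(S, V) (S.residueField y) a = 0 ↔ a ∈ p := fun a => by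
    rw [← not_iff_not, hmem]
    exact S.evaluation_ne_zero_iff_mem_basicOpen y hy a
  have hgen : ∀ x : S.residueField y, ∃ c ∉ p, ∃ a,
      algebraMap Γ(S, V) (S.residueField y) c * x = algebraMap Γ(S, V) (S.residueField y) a := by
    intro x
    obtain ⟨x, rfl⟩ := S.residue_surjective y x
    let := TopCat.Presheaf.algebra_section_stalk S.presheaf ⟨y, hy⟩
    have := hV.isLocalization_stalk ⟨y, hy⟩
    obtain ⟨⟨a, c⟩, hc⟩ := IsLocalization.surj p.primeCompl x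
    refine ⟨c.1, c.2, a, ?_⟩
    change S.evaluation V y hy c.1 * S.residue y x = S.evaluation V y hy a
    rw [← Scheme.germ_residue, CommRingCat.comp_apply, CommRingCat.comp_apply, ← map_mul]
    exact congrArg _ ((mul_comm _ _).trans hc)
  obtain ⟨c, hc, s, hs⟩ := exists_pullSec_eq_smul hsq G hG (isFlatOver_restrict_preimage f hV M hfl)
    p (Field.toIsField _) hker hgen h1' (θ.inv.app ⊤ t)
  obtain ⟨m, rfl⟩ : ∃ m : Γ(M, f ⁻¹ᵁ V),
      QCohMod.res M (Scheme.Opens.ι_image_le (f ⁻¹ᵁ V) ⊤) m = s :=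
    ⟨QCohMod.res M (show f ⁻¹ᵁ V ≤ (f ⁻¹ᵁ V).ι ''ᵁ ⊤ by rw [Scheme.Opens.ι_image_top]) s,
      (QCohMod.res_res M _ _ _).trans (QCohMod.res_self M _)⟩
  let U := S.basicOpen c
  have hyU : y ∈ U := (hmem c).1 hc
  have eV : (⊤ : (f.fiber y).Opens) ≤ f.fiberι y ⁻¹ᵁ f ⁻¹ᵁ V := fun x _ => by
    change f (f.fiberι y x) ∈ V
    rw [← Scheme.Hom.comp_apply, f.fiber_fac, Scheme.Hom.comp_apply,
      Scheme.fromSpecResidueField_apply]
    exact hy
  have eU : (⊤ : (f.fiber y).Opens) ≤ f.fiberι y ⁻¹ᵁ f ⁻¹ᵁ U := fun x _ => by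
    change f (f.fiberι y x) ∈ U
    rw [← Scheme.Hom.comp_apply, f.fiber_fac, Scheme.Hom.comp_apply,
      Scheme.fromSpecResidueField_apply]
    exact hyU
  have hu : IsUnit (resFun S (S.basicOpen_le c) c) := S.toRingedSpace.isUnit_res_basicOpen c
  obtain ⟨d, hd⟩ := hu.exists_left_inv
  refine ⟨U, hyU, eU, f.app U d • QCohMod.res M (f.preimage_mono (S.basicOpen_le c)) m, ?_⟩
  have h2 := ((fibreModIso_pullSec f M y hy m le_top eV).symm.trans
    (congrArg (θ.hom.app ⊤) hs)).trans (θ.hom.app_smul _ _)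
  rw [show θ.hom.app ⊤ (θ.inv.app ⊤ t) = t from congr($(θ.inv_hom_id).app ⊤ t)] at h2
  rw [pullSec_smul, ← res_pullSec', QCohMod.res_smul]
  refine Eq.trans (congrArg (HSMul.hSMul (α := Γ(f.fiber y, ⊤))
    (β := Γ(CohIII.fiberMod f M y, ⊤)) (γ := Γ(CohIII.fiberMod f M y, ⊤)) _)
    ((QCohMod.res_res _ _ _ _).trans h2)) ?_
  refine (smul_smul _ _ _).trans ?_
  refine Eq.trans ?_ (one_smul Γ(f.fiber y, ⊤) t)
  congr 1
  have key : (show Γ(f.fiber y, ⊤) from Coh.toGlobal (f.fiberToSpecResidueField y)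
      (S.evaluation V y hy c)) = resFun _ eV ((f.fiberι y).app _ (f.app V c)) := by
    have w := app_toSec hsq ⊤ c
    have hA : toSec Γ(S, V) (⊤ : ((f ⁻¹ᵁ V : X.Opens) : Scheme.{u}).Opens) c =
        ((f ⁻¹ᵁ V).ι.appLE (f ⁻¹ᵁ V) ⊤ (Scheme.Opens.ι_preimage_self _).ge) (f.app V c) := by
      refine Eq.trans ?_ (congrArg _ (appIso_preimageToSpec f c))
      change (preimageToSpec f).appLE ⊤ ⊤ le_top ((Scheme.ΓSpecIso Γ(S, V)).inv c) = _
      simp [Scheme.Hom.appLE, Coh.toGlobal, Scheme.Opens.ι_appIso]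
      change _ = resFun X _ (resFun X _ (resFun X _ _))
      rw [QCohMod.resFun_resFun, QCohMod.resFun_resFun]
      exact (QCohMod.resFun_self _).symm
    rw [hA] at w
    refine Eq.trans ?_ (w.symm.trans ?_)
    · change (f.fiberToSpecResidueField y).appTop ((Scheme.ΓSpecIso (S.residueField y)).inv _) =
        (f.fiberToSpecResidueField y).appLE ⊤ (g ⁻¹ᵁ ⊤) le_top
          ((Scheme.ΓSpecIso (S.residueField y)).inv _)
      simp [Scheme.Hom.appLE]
      rfl
    · have e₁ : (⊤ : (f.fiber y).Opens) ≤ (g ≫ (f ⁻¹ᵁ V).ι) ⁻¹ᵁ (f ⁻¹ᵁ V) := by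
        simpa only [g, fibreToPreimage_ι] using eV
      refine Eq.trans ?_ (show (g ≫ (f ⁻¹ᵁ V).ι).appLE (f ⁻¹ᵁ V) ⊤ e₁ (f.app V c) =
        (f.fiberι y).appLE (f ⁻¹ᵁ V) ⊤ eV (f.app V c) by simp only [g, fibreToPreimage_ι])
      rw [← Scheme.Hom.appLE_comp_appLE g (f ⁻¹ᵁ V).ι (f ⁻¹ᵁ V) ⊤ ⊤
        (Scheme.Opens.ι_preimage_self _).ge le_top, CommRingCat.comp_apply]
      simp [Scheme.Hom.appLE]
      rfl
  refine (congrArg (_ * ·) key).trans ?_
  have hcd : f.app U d * resFun X (f.preimage_mono (S.basicOpen_le c)) (f.app V c) = 1 := by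
    rw [show resFun X (f.preimage_mono (S.basicOpen_le c)) (f.app V c) =
      f.app U (resFun S (S.basicOpen_le c) c) from
        (ConcreteCategory.congr_hom (f.naturality (homOfLE (S.basicOpen_le c)).op) c).symm,
      ← map_mul, hd, map_one]
  have h5 : resFun _ eV ((f.fiberι y).app _ (f.app V c)) = resFun _ eU ((f.fiberι y).app _
      (resFun X (f.preimage_mono (S.basicOpen_le c)) (f.app V c))) := by
    rw [show (f.fiberι y).app _ (resFun X (f.preimage_mono (S.basicOpen_le c)) (f.app V c)) =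
      resFun _ ((f.fiberι y).preimage_mono (f.preimage_mono (S.basicOpen_le c)))
        ((f.fiberι y).app _ (f.app V c)) from
          ConcreteCategory.congr_hom ((f.fiberι y).naturality
            (homOfLE (f.preimage_mono (S.basicOpen_le c))).op) _, QCohMod.resFun_resFun]
  rw [h5, ← map_mul, ← map_mul, hcd, map_one, map_one]

end Groth.CohBase
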