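import Groth.Agent.FlatMorOne.FlatnessCriteria
import Mathlib.Data.Matrix.Mul
import Mathlib.RingTheory.Nakayama

/-!
# Matrices which are injective or surjective modulo the maximal ideal of the base
-/

set_option autoImplicit false

universe u

open Matrix IsLocalRing TensorProduct

namespace Groth.CohBase

variable {A S S' : Type u} [CommRing A] [CommRing S] [CommRing S'] [IsLocalRing A] [IsLocalRing S]
  [IsNoetherianRing S] [Algebra A S] [IsLocalHom (algebraMap A S)]
  (σ : S →+* S') (hσ : RingHom.ker σ = (maximalIdeal A).map (algebraMap A S))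
  {n m : ℕ} (M : Matrix (Fin n) (Fin m) S)

include hσ

/-- A matrix which is injective over the fibre is injective when the target is flat over the base. -/
theorem vecMul_injective_of_map [Module.Flat A S]
    (h : Function.Injective fun a : Fin n → S' => a ᵥ* M.map σ) :
    Function.Injective fun a : Fin n → S => a ᵥ* M := by
  classical
  let u : (Fin n → S) →ₗ[A] (Fin m → S) := (Matrix.vecMulLinear M).restrictScalars A
  have : Module.Flat A (Fin m → S) :=
    Module.Flat.of_linearEquiv (DFinsupp.linearEquivFunOnFintype (R := A) (M := fun _ : Fin m => S)).symm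
  refine (Groth.FlatMorOne.injective_and_flat_coker S u ?_).1
  have hmk : ∀ (k : ℕ) (z : TensorProduct A (ResidueField A) (Fin k → S)),
      ∃ v, z = TensorProduct.mk A (ResidueField A) (Fin k → S) 1 v := by
    intro k z
    induction z using TensorProduct.induction_on with
    | zero => exact ⟨0, (map_zero _).symm⟩
    | tmul a v =>
      obtain ⟨a, rfl⟩ := IsLocalRing.residue_surjective a
      refine ⟨a • v, ?_⟩
      rw [TensorProduct.mk_apply, ← TensorProduct.smul_tmul]
      congr 1
      rw [Algebra.smul_def, mul_one]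
      rfl
    | add x y hx hy =>
      obtain ⟨v, rfl⟩ := hx
      obtain ⟨w, rfl⟩ := hy
      exact ⟨v + w, (map_add _ _ _).symm⟩
  rw [injective_iff_map_eq_zero]
  intro z hz
  obtain ⟨v, rfl⟩ := hmk n z
  rw [TensorProduct.mk_apply, LinearMap.lTensor_tmul] at hz
  have hv : u v ∈ maximalIdeal A • (⊤ : Submodule A (Fin m → S)) := by
    rw [← LinearMap.ker_tensorProductMk]; exact hz
  have hker : ∀ l, σ (u v l) = 0 := by
    intro l
    rw [← RingHom.mem_ker, hσ]
    refine Submodule.smul_induction_on hv (fun a ha w _ => ?_) fun a b ha hb => ?_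
    · rw [Pi.smul_apply, Algebra.smul_def]
      exact Ideal.mul_mem_right _ _ (Ideal.mem_map_of_mem _ ha)
    · exact add_mem ha hb
  have h0 : σ ∘ v = 0 := by
    refine h ?_
    funext l
    simp only [Matrix.zero_vecMul, Pi.zero_apply]
    rw [← RingHom.map_vecMul]
    exact hker l
  refine LinearMap.mem_ker.1 (?_ : v ∈ LinearMap.ker (TensorProduct.mk A (A ⧸ maximalIdeal A) (Fin n → S) 1))
  rw [LinearMap.ker_tensorProductMk]
  have hvi : ∀ i, v i ∈ maximalIdeal A • (⊤ : Submodule A S) := by
    intro i
    rw [Ideal.smul_top_eq_map, Submodule.restrictScalars_mem, ← hσ, RingHom.mem_ker]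
    exact congrFun h0 i
  rw [show v = ∑ i, LinearMap.single A (fun _ : Fin n => S) i (v i) from
    (Finset.univ_sum_single v).symm]
  refine sum_mem fun i _ => ?_
  have := Submodule.mem_map_of_mem (f := LinearMap.single A (fun _ : Fin n => S) i) (hvi i)
  rw [Submodule.map_smul''] at this
  exact Submodule.smul_mono le_rfl le_top this

omit [CommRing A] [IsLocalRing A] [Algebra A S] [IsLocalHom (algebraMap A S)] [IsNoetherianRing S] hσ in
/-- A matrix which is surjective over the fibre is surjective. -/
theorem vecMul_surjective_of_map [Nontrivial S'] (hsurj : Function.Surjective σ)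
    (h : Function.Surjective fun a : Fin n → S' => a ᵥ* M.map σ) :
    Function.Surjective fun a : Fin n → S => a ᵥ* M := by
  classical
  suffices ⊤ ≤ LinearMap.range (Matrix.vecMulLinear M) from fun b => this trivial
  refine Submodule.le_of_le_smul_of_le_jacobson_bot (I := RingHom.ker σ) Module.Finite.fg_top ?_ ?_
  · rw [IsLocalRing.jacobson_eq_maximalIdeal ⊥ bot_ne_top]
    exact IsLocalRing.le_maximalIdeal (RingHom.ker_ne_top σ)
  · intro b _
    obtain ⟨a', ha'⟩ := h (σ ∘ b)
    choose a ha using fun i => hsurj (a' i)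
    have hd : ∀ l, b l - (a ᵥ* M) l ∈ RingHom.ker σ := by
      intro l
      rw [RingHom.mem_ker, map_sub, RingHom.map_vecMul, sub_eq_zero,
        show σ ∘ a = a' from funext ha]
      exact (congrFun ha' l).symm
    refine Submodule.mem_sup.2 ⟨a ᵥ* M, ⟨a, rfl⟩, b - a ᵥ* M, ?_, add_sub_cancel _ _⟩
    rw [show b - a ᵥ* M = ∑ l, (b l - (a ᵥ* M) l) • Pi.single l (1 : S) by
      funext k; simp [Pi.single_apply]]
    exact sum_mem fun l _ => Submodule.smul_mem_smul (hd l) trivial

end Groth.CohBase
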