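import Groth.Agent.CohBase.HomPull
import Groth.Agent.CohBase.MatrixModJ
import Groth.Agent.CohBase.FibreSections
import Groth.Agent.CohTwo.SupportLocal
import Groth.Agent.S9501

/-!
# Homomorphisms of finite locally free modules near a fibre
-/

set_option autoImplicit false

universe u

open CategoryTheory Limits AlgebraicGeometry TopologicalSpace Opposite Matrix
open Groth.PicAux (pullSec pullSec_smul res_pullSec pullSec_map Basis' exists_basis_of_isFinLocFree)
open Groth.RefRank (applySec germ_applySec res_applySec secToLin germ_secToLin mod_section_ext)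
open Groth.QCohMod (germ germ_res germ_smul)

namespace Groth.CohBase

variable {X Y : Scheme.{u}}

section Stalk

variable {M : X.Modules} {U : X.Opens} {n : ℕ} {s : Fin n → Γ(M, U)} {x : X}

/-- The germs of a basis form a basis of the stalk. -/
theorem germ_basis_bijective (hxU : x ∈ U) (hs : Basis' M U s) :
    Function.Bijective fun r : Fin n → X.presheaf.stalk x => ∑ i, r i • germ M x hxU (s i) := by
  open Groth.PicAux Groth.KTheory.LocFree in
  constructor
  · intro r₁ r₂ e
    have hr : ∑ i, (r₁ - r₂) i • germ M x hxU (s i) = 0 := by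
      simp only [Pi.sub_apply, sub_smul, Finset.sum_sub_distrib, sub_eq_zero]
      exact e
    rw [← sub_eq_zero]
    generalize r₁ - r₂ = r at hr
    have hq : ∀ i, ∃ (V : X.Opens) (hxV : x ∈ V) (q : Γ(X, V)), X.presheaf.germ V x hxV q = r i :=
      fun i => TopCat.Presheaf.exists_germ_eq X.presheaf (r i)
    choose V hxV q hq using hq
    have hx' : x ∈ U ⊓ (Finset.univ : Finset (Fin n)).inf V := by
      have : ∀ S : Finset (Fin n), x ∈ S.inf V := by
        intro S
        induction S using Finset.cons_induction with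
        | empty => exact trivial
        | cons a S ha ih => rw [Finset.inf_cons]; exact ⟨hxV a, ih⟩
      exact ⟨hxU, this _⟩
    have hle : ∀ i, U ⊓ (Finset.univ : Finset (Fin n)).inf V ≤ V i := fun i =>
      inf_le_right.trans (Finset.inf_le (Finset.mem_univ i))
    have h0 : germ M x hx' (∑ i, resX X (hle i) (q i) • PicAux.res M inf_le_left (s i)) = 0 := by
      rw [map_sum, ← hr]
      refine Finset.sum_congr rfl fun i _ => ?_
      rw [germ_smul, ← qres_eq, germ_res, ← hq i]
      congr 1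
      exact TopCat.Presheaf.germ_res_apply X.presheaf (homOfLE (hle i)) x _ (q i)
    obtain ⟨W, hW, hW', hxW, e⟩ := exists_res_eq hx' hx' _ 0 (h0.trans (map_zero _).symm)
    simp only [res_sum, res_smul, PicAux.res_res, res_zero, resX_resX] at e
    have hz := (hs W (hW.trans inf_le_left)).1 (a₂ := 0) (e.trans (by simp))
    funext i
    have e3 := congrArg (X.presheaf.germ W x hxW) (congrFun hz i)
    rw [← hq i]
    refine (TopCat.Presheaf.germ_res_apply X.presheaf (homOfLE (hW.trans (hle i))) x hxW (q i)).symm.trans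
      (e3.trans (map_zero _))
  · intro t
    obtain ⟨V, hxV, m, rfl⟩ := Groth.QCohMod.exists_germ M x t
    obtain ⟨r, hr⟩ := (hs (U ⊓ V) inf_le_left).2 (PicAux.res M inf_le_right m)
    refine ⟨fun i => X.presheaf.germ _ x (⟨hxU, hxV⟩ : x ∈ U ⊓ V) (r i), ?_⟩
    have := congrArg (germ M x (⟨hxU, hxV⟩ : x ∈ U ⊓ V)) hr
    simp only at this
    refine (Finset.sum_congr rfl fun i _ => ?_).trans
      (((map_sum _ _ _).symm.trans this).trans (germ_res M inf_le_right x ⟨hxU, hxV⟩ m))
    have := (germ_smul_res M (le_refl (U ⊓ V)) inf_le_left x ⟨hxU, hxV⟩ (r i) (s i)).symm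
    simp only [resX_self] at this
    exact this

/-- A morphism on stalks in terms of bases. -/
theorem stalkMap_vecMul {N : X.Modules} {m : ℕ} {t : Fin m → Γ(N, U)} (φ : M ⟶ N) (hxU : x ∈ U)
    (A : Matrix (Fin n) (Fin m) Γ(X, U)) (h : ∀ k, φ.app U (s k) = ∑ l, A k l • t l)
    (a : Fin n → X.presheaf.stalk x) :
    RefHull.stalkMapₗ φ x (∑ i, a i • germ M x hxU (s i)) =
      ∑ l, (a ᵥ* A.map (X.presheaf.germ U x hxU)) l • germ N x hxU (t l) := by
  rw [map_sum]
  simp only [map_smul]
  refine Eq.trans (Finset.sum_congr rfl fun i _ => congrArg (a i • ·)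
    ((RefHull.stalkMapₗ_germ φ x hxU (s i)).trans (congrArg (germ N x hxU) (h i)))) ?_
  simp only [map_sum, germ_smul, Finset.smul_sum, smul_smul]
  rw [Finset.sum_comm]
  simp only [Matrix.vecMul, dotProduct, Finset.sum_smul, Matrix.map_apply]

/-- Injectivity on the stalk is injectivity of the matrix. -/
theorem stalkMap_injective_iff {N : X.Modules} {m : ℕ} {t : Fin m → Γ(N, U)} (φ : M ⟶ N)
    (hxU : x ∈ U) (hs : Basis' M U s) (ht : Basis' N U t)
    (A : Matrix (Fin n) (Fin m) Γ(X, U)) (h : ∀ k, φ.app U (s k) = ∑ l, A k l • t l) :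
    (Function.Injective (RefHull.stalkMapₗ φ x) ↔
      Function.Injective fun a : Fin n → X.presheaf.stalk x =>
        a ᵥ* A.map (X.presheaf.germ U x hxU)) ∧
    (Function.Surjective (RefHull.stalkMapₗ φ x) ↔
      Function.Surjective fun a : Fin n → X.presheaf.stalk x =>
        a ᵥ* A.map (X.presheaf.germ U x hxU)) := by
  have hL := germ_basis_bijective hxU hs
  have hL' := germ_basis_bijective hxU ht
  have e : RefHull.stalkMapₗ φ x ∘ (fun r : Fin n → X.presheaf.stalk x =>
      ∑ i, r i • germ M x hxU (s i)) = (fun r : Fin m → X.presheaf.stalk x =>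
      ∑ i, r i • germ N x hxU (t i)) ∘ fun a : Fin n → X.presheaf.stalk x =>
        a ᵥ* A.map (X.presheaf.germ U x hxU) :=
    funext fun a => stalkMap_vecMul φ hxU A h a
  refine ⟨?_, ?_⟩
  · rw [← Function.Injective.of_comp_iff' (RefHull.stalkMapₗ φ x) hL, e,
      Function.Injective.of_comp_iff hL'.1]
  · rw [← Function.Surjective.of_comp_iff (RefHull.stalkMapₗ φ x) hL.2, e,
      Function.Surjective.of_comp_iff' hL']

end Stalk

/-- A finite locally free module is flat over the base of a flat morphism. -/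
theorem isFlatOver_of_isFinLocFree (f : X ⟶ Y) [Flat f] {M : X.Modules}
    (hM : FlatMod.IsFinLocFree M) : FlatMod.IsFlatOver f M := by
  intro x
  let := (f.stalkMap x).hom.toAlgebra
  let := FlatMod.moduleStalkOver f M x
  have : IsScalarTower (Y.presheaf.stalk (f x)) (X.presheaf.stalk x) (M.presheaf.stalk x) :=
    .of_algebraMap_smul fun _ _ => rfl
  have : Module.Flat (Y.presheaf.stalk (f x)) (X.presheaf.stalk x) := Flat.stalkMap f x
  have := KTheory.LocFree.free_stalk hM x
  exact Module.Flat.trans (Y.presheaf.stalk (f x)) (X.presheaf.stalk x) (M.presheaf.stalk x)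

section Comp

variable {W : Scheme.{u}} (g : W ⟶ X) (F G : X.Modules)

/-- The comparison on global sections, evaluated on pulled back sections. -/
theorem applySec_comp {U : X.Opens} (e : (⊤ : W.Opens) ≤ g ⁻¹ᵁ U)
    (h : Γ(RefHull.homSh F G, U)) {O : X.Opens} (hO : O ≤ U) (a : Γ(F, O)) :
    applySec ((HomPull.comp g F G).app ⊤ (QCohMod.res _ e (pullSec g (RefHull.homSh F G) h)))
      le_top (pullSec g F a) = pullSec g G (applySec h hO a) := by
  have h1 : secToLin (QCohMod.res (RefHull.homSh F G) hO h) a = applySec h hO a :=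
    mod_section_ext G fun x hx => by rw [germ_secToLin, germ_applySec]; rfl
  have h2 := HomPull.secToLin_comp g F G (le_refl (g ⁻¹ᵁ O)) (QCohMod.res (RefHull.homSh F G) hO h) a
  rw [h1, QCohMod.res_self, QCohMod.res_self, QCohMod.res_self] at h2
  refine Eq.trans ?_ h2
  refine mod_section_ext _ fun z hz => ?_
  rw [germ_applySec, germ_secToLin]
  have h3 : QCohMod.res _ (le_top : g ⁻¹ᵁ O ≤ ⊤) (QCohMod.res _ e (pullSec g (RefHull.homSh F G) h)) =
      pullSec g (RefHull.homSh F G) (QCohMod.res (RefHull.homSh F G) hO h) :=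
    (QCohMod.res_res _ _ _ _).trans (res_pullSec g (RefHull.homSh F G) hO h)
  rw [← h3, ← QCohMod.res_app, ← QCohMod.res_app, ← QCohMod.res_app]
  rfl

end Comp

section Lift

variable (f : X ⟶ Y) [IsProper f] [Flat f] [IsLocallyNoetherian Y]

/-- Homomorphisms on a fibre extend to a neighbourhood when the first cohomology of the sheaf Hom
on the fibre vanishes. -/
theorem exists_homSec_lift (y : Y) {F G : X.Modules} (hF : FlatMod.IsFinLocFree F)
    (hG : FlatMod.IsFinLocFree G) [DCoh.HasSheafHom (CohIII.fiberMod f F y)]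
    (h1 : Subsingleton (Coh.HH (f.fiber y) ((DCoh.sheafHom (CohIII.fiberMod f F y)).obj
      (CohIII.fiberMod f G y)) 1))
    (u₀ : CohIII.fiberMod f F y ⟶ CohIII.fiberMod f G y) :
    ∃ (U : Y.Opens) (_ : y ∈ U) (h : Γ(RefHull.homSh F G, f ⁻¹ᵁ U)),
      ∀ (O : X.Opens) (hO : O ≤ f ⁻¹ᵁ U) (a : Γ(F, O)),
        u₀.app (f.fiberι y ⁻¹ᵁ O) (pullSec (f.fiberι y) F a) =
          pullSec (f.fiberι y) G (applySec h hO a) := by
  have hE := LocFree.isFinLocFree_homSh hF hG
  have := HomPull.isIso_comp (f.fiberι y) hF hG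
  let κ := asIso (HomPull.comp (f.fiberι y) F G)
  have h1' : Subsingleton (Coh.HH (f.fiber y) (CohIII.fiberMod f (RefHull.homSh F G) y) 1) :=
    @Equiv.subsingleton _ _ (haIsoEquiv (f.fiberToSpecResidueField y)
      (κ ≪≫ (CohTwo.SheafHomIso.iso _ _).symm) 1).toEquiv h1
  obtain ⟨U, hy, eU, h, hh⟩ := exists_section_lift f (RefHull.homSh F G)
    (KTheory.LocFree.isCoh hE) (isFlatOver_of_isFinLocFree f hE) y h1'
    (κ.inv.app ⊤ (HomPull.secOfHom u₀))
  refine ⟨U, hy, h, fun O hO a => ?_⟩
  rw [← applySec_comp (f.fiberι y) F G eU h hO a, hh,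
    show (HomPull.comp (f.fiberι y) F G).app ⊤ (κ.inv.app ⊤ (HomPull.secOfHom u₀)) =
      HomPull.secOfHom u₀ from congr(($(κ.inv_hom_id)).app ⊤ (HomPull.secOfHom u₀))]
  exact (HomPull.applySec_secOfHom u₀ _).symm

end Lift

section Fibre

variable (f : X ⟶ Y) (y : Y) {F G : X.Modules} (hF : FlatMod.IsFinLocFree F)
  (hG : FlatMod.IsFinLocFree G) (u : F ⟶ G) (z : f.fiber y)

include hF hG

/-- Injectivity and surjectivity on a stalk follow from those on the fibre. -/
theorem stalkMap_of_fibre [IsLocallyNoetherian X] :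
    ([Flat f] → Function.Injective (RefHull.stalkMapₗ ((Scheme.Modules.pullback (f.fiberι y)).map u) z) →
      Function.Injective (RefHull.stalkMapₗ u (f.fiberι y z))) ∧
    (Function.Surjective (RefHull.stalkMapₗ ((Scheme.Modules.pullback (f.fiberι y)).map u) z) →
      Function.Surjective (RefHull.stalkMapₗ u (f.fiberι y z))) := by
  set g := f.fiberι y with hg
  set x := g z with hx
  obtain ⟨U₀, n, s₀, hx₀, hs₀⟩ := exists_basis_of_isFinLocFree hF x
  obtain ⟨U₁, m, t₁, hx₁, ht₁⟩ := exists_basis_of_isFinLocFree hG x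
  let U := U₀ ⊓ U₁
  have hxU : x ∈ U := ⟨hx₀, hx₁⟩
  have hs := hs₀.res' (inf_le_left : U ≤ U₀)
  have ht := ht₁.res' (inf_le_right : U ≤ U₁)
  set s := fun i => Groth.PicAux.res F (inf_le_left : U ≤ U₀) (s₀ i)
  set t := fun i => Groth.PicAux.res G (inf_le_right : U ≤ U₁) (t₁ i)
  have hA : ∀ k, ∃ r : Fin m → Γ(X, U), ∑ l, r l • t l = u.app U (s k) := fun k => by
    obtain ⟨r, hr⟩ := (ht U le_rfl).2 (u.app U (s k))
    simp only [Groth.PicAux.res_self] at hr
    exact ⟨r, hr⟩
  choose A hA using hA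
  have hA' : ∀ k, ((Scheme.Modules.pullback g).map u).app (g ⁻¹ᵁ U) (pullSec g F (s k)) =
      ∑ l, (Matrix.of A).map (g.app U) k l • pullSec g G (t l) := by
    intro k
    rw [pullSec_map, ← hA k]
    refine (map_sum (((Scheme.Modules.pullbackPushforwardAdjunction g).unit.app G).app U).hom _ _).trans ?_
    exact Finset.sum_congr rfl fun l _ => pullSec_smul g G (A k l) (t l)
  have hzU : z ∈ g ⁻¹ᵁ U := hxU
  obtain ⟨hi, hsu⟩ := stalkMap_injective_iff u hxU hs ht (Matrix.of A) fun k => (hA k).symm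
  obtain ⟨hi', hsu'⟩ := stalkMap_injective_iff ((Scheme.Modules.pullback g).map u) hzU
    (hs.pull g) (ht.pull g) ((Matrix.of A).map (g.app U)) hA'
  have hmap : ((Matrix.of A).map (g.app U)).map ((f.fiber y).presheaf.germ (g ⁻¹ᵁ U) z hzU) =
      ((Matrix.of A).map (X.presheaf.germ U x hxU)).map (g.stalkMap z).hom := by
    ext k l
    exact (Scheme.Hom.germ_stalkMap_apply g U z hxU _).symm
  rw [hmap] at hi' hsu'
  obtain ⟨hσs, hσk⟩ := Groth.Agent.S9501.result f y z
  refine ⟨fun {_} h => hi.2 ?_, fun h => hsu.2 ?_⟩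
  · let := (f.stalkMap x).hom.toAlgebra
    have : IsLocalHom (algebraMap (Y.presheaf.stalk (f x)) (X.presheaf.stalk x)) :=
      inferInstanceAs (IsLocalHom (f.stalkMap x).hom)
    have : Module.Flat (Y.presheaf.stalk (f x)) (X.presheaf.stalk x) := Flat.stalkMap f x
    exact vecMul_injective_of_map (g.stalkMap z).hom hσk _ (hi'.1 h)
  · exact vecMul_surjective_of_map (g.stalkMap z).hom _ hσs (hsu'.1 h)

end Fibre

end Groth.CohBase
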