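import Groth.Agent.CohBase.HomNearFibre

/-!
# Isomorphisms of finite locally free modules near a fibre
-/

set_option autoImplicit false

universe u

open CategoryTheory Limits AlgebraicGeometry TopologicalSpace Opposite Matrix
open Groth.PicAux (pullSec pullSec_smul res_pullSec pullSec_map Basis' exists_basis_of_isFinLocFree)
open Groth.RefRank (applySec germ_applySec res_applySec mod_section_ext)

namespace Groth.CohBase

variable {X Y : Scheme.{u}}

theorem rank_eq_of_basis' {M : X.Modules} {U : X.Opens} {x : X} (hx : x ∈ U) {n m : ℕ}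
    {s : Fin n → Γ(M, U)} {t : Fin m → Γ(M, U)} (hs : Basis' M U s) (ht : Basis' M U t) :
    n = m := by
  have : Nonempty (U : Scheme.{u}) := ⟨⟨x, hx⟩⟩
  have hs1 := hs U le_rfl
  have ht1 := ht U le_rfl
  simp only [Groth.PicAux.res_self] at hs1 ht1
  let e₁ : (Fin n → Γ(X, U)) ≃ₗ[Γ(X, U)] Γ(M, U) :=
    LinearEquiv.ofBijective (Fintype.linearCombination Γ(X, U) s)
      (by convert hs1 using 1; funext r; exact Fintype.linearCombination_apply _ _ _)
  let e₂ : (Fin m → Γ(X, U)) ≃ₗ[Γ(X, U)] Γ(M, U) :=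
    LinearEquiv.ofBijective (Fintype.linearCombination Γ(X, U) t)
      (by convert ht1 using 1; funext r; exact Fintype.linearCombination_apply _ _ _)
  have hnt : Nontrivial Γ(X, U) :=
    RingHom.domain_nontrivial (X.presheaf.germ U x hx).hom
  exact card_eq_of_linearEquiv Γ(X, U) (e₁.trans e₂.symm) |> (by simpa using ·)

variable (f : X ⟶ Y) {F G : X.Modules}

/-- A homomorphism over a neighbourhood which restricts to an isomorphism on the fibre is an
isomorphism near every point of the fibre. -/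
theorem exists_basis_image_nhd (hF : FlatMod.IsFinLocFree F) (hG : FlatMod.IsFinLocFree G) (y : Y)
    {W₀ : X.Opens} (h : Γ(RefHull.homSh F G, W₀))
    (θ : CohIII.fiberMod f F y ≅ CohIII.fiberMod f G y)
    (hθ : ∀ (O : X.Opens) (hO : O ≤ W₀) (a : Γ(F, O)),
      θ.hom.app (f.fiberι y ⁻¹ᵁ O) (pullSec (f.fiberι y) F a) =
        pullSec (f.fiberι y) G (applySec h hO a))
    (z : f.fiber y) (hz : f.fiberι y z ∈ W₀) :
    ∃ (B : X.Opens) (hB : B ≤ W₀) (n : ℕ) (s : Fin n → Γ(F, B)), f.fiberι y z ∈ B ∧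
      Basis' F B s ∧ Basis' G B (fun k => applySec h hB (s k)) := by
  set g := f.fiberι y
  obtain ⟨U₀, n, s₀, hx₀, hs₀⟩ := exists_basis_of_isFinLocFree hF (g z)
  obtain ⟨U₁, m, t₁, hx₁, ht₁⟩ := exists_basis_of_isFinLocFree hG (g z)
  let U := U₀ ⊓ U₁ ⊓ W₀
  have hxU : g z ∈ U := ⟨⟨hx₀, hx₁⟩, hz⟩
  have hU : U ≤ W₀ := inf_le_right
  have hs := hs₀.res' (inf_le_left.trans inf_le_left : U ≤ U₀)
  have ht := ht₁.res' (inf_le_left.trans inf_le_right : U ≤ U₁)
  set s := fun i => Groth.PicAux.res F (inf_le_left.trans inf_le_left : U ≤ U₀) (s₀ i)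
  set t := fun i => Groth.PicAux.res G (inf_le_left.trans inf_le_right : U ≤ U₁) (t₁ i)
  have hθ' : ∀ k, θ.hom.app (g ⁻¹ᵁ U) (pullSec g F (s k)) = pullSec g G (applySec h hU (s k)) :=
    fun k => hθ U hU (s k)
  have hb₁ : Basis' (CohIII.fiberMod f G y) (g ⁻¹ᵁ U) fun k => pullSec g G (applySec h hU (s k)) := by
    rw [show (fun k => pullSec g G (applySec h hU (s k))) = _ from funext fun k => (hθ' k).symm]
    exact (hs.pull g).map θ.hom
  have hb₂ : Basis' (CohIII.fiberMod f G y) (g ⁻¹ᵁ U) fun k => pullSec g G (t k) := ht.pull g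
  obtain rfl : n = m := rank_eq_of_basis' (x := z) hxU hb₁ hb₂
  have hA : ∀ k, ∃ r : Fin n → Γ(X, U), ∑ l, r l • t l = applySec h hU (s k) := fun k => by
    obtain ⟨r, hr⟩ := (ht U le_rfl).2 (applySec h hU (s k))
    simp only [Groth.PicAux.res_self] at hr
    exact ⟨r, hr⟩
  choose A hA using hA
  have hA' : ∀ k, pullSec g G (applySec h hU (s k)) =
      ∑ l, ((Matrix.of A).map (g.app U)) k l • pullSec g G (t l) := by
    intro k
    rw [← hA k]
    refine (map_sum (((Scheme.Modules.pullbackPushforwardAdjunction g).unit.app G).app U).hom _ _).trans ?_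
    exact Finset.sum_congr rfl fun l _ => pullSec_smul g G (A k l) (t l)
  have b₁ := hb₁ (g ⁻¹ᵁ U) le_rfl
  have b₂ := hb₂ (g ⁻¹ᵁ U) le_rfl
  simp only [Groth.PicAux.res_self] at b₁ b₂
  have hdet : IsUnit ((Matrix.of A).map (g.app U)).det :=
    SpecFerrand.det_isUnit_of_bases _ hA' b₂ b₁
  have hgerm : IsUnit (X.presheaf.germ U (g z) hxU (Matrix.of A).det) := by
    refine isUnit_of_map_unit (g.stalkMap z).hom _ ?_
    rw [Scheme.Hom.germ_stalkMap_apply]
    have := hdet.map ((f.fiber y).presheaf.germ (g ⁻¹ᵁ U) z hxU).hom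
    rwa [← RingHom.mapMatrix_apply, ← RingHom.map_det] at this
  let B := X.basicOpen (Matrix.of A).det
  have hBU : B ≤ U := X.basicOpen_le _
  refine ⟨B, hBU.trans hU, n, fun k => Groth.PicAux.res F hBU (s k),
    (X.mem_basicOpen _ _ hxU).2 hgerm, hs.res' hBU, ?_⟩
  have hd := SpecFerrand.basis_det (t := fun k => applySec h hU (s k)) ht (Matrix.of A)
    fun k => (hA k).symm
  intro V hV
  have := hd V hV
  convert this using 6 with r i
  exact (res_applySec h hU hBU (s i)).symm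

variable [IsProper f] [Flat f] [IsLocallyNoetherian Y]

/-- Finite locally free modules isomorphic on a fibre with `H¹(Hom) = 0` are isomorphic near it. -/
theorem exists_iso_near_fibre (y : Y) (hF : FlatMod.IsFinLocFree F) (hG : FlatMod.IsFinLocFree G)
    [DCoh.HasSheafHom (CohIII.fiberMod f F y)]
    (h1 : Subsingleton (Coh.HH (f.fiber y) ((DCoh.sheafHom (CohIII.fiberMod f F y)).obj
      (CohIII.fiberMod f F y)) 1))
    (θ : CohIII.fiberMod f F y ≅ CohIII.fiberMod f G y) :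
    ∃ U : Y.Opens, y ∈ U ∧ Nonempty (F.restrict (f ⁻¹ᵁ U).ι ≅ G.restrict (f ⁻¹ᵁ U).ι) := by
  have h1' : Subsingleton (Coh.HH (f.fiber y) ((DCoh.sheafHom (CohIII.fiberMod f F y)).obj
      (CohIII.fiberMod f G y)) 1) :=
    @Equiv.subsingleton _ _ (haIsoEquiv (f.fiberToSpecResidueField y)
      ((DCoh.sheafHom (CohIII.fiberMod f F y)).mapIso θ.symm) 1).toEquiv h1
  obtain ⟨U, hy, h, hh⟩ := exists_homSec_lift f y hF hG h1' θ.hom
  let P : X → Prop := fun x => ∃ (B : X.Opens) (hB : B ≤ f ⁻¹ᵁ U) (n : ℕ) (s : Fin n → Γ(F, B)),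
    x ∈ B ∧ Basis' F B s ∧ Basis' G B (fun k => applySec h hB (s k))
  have hP : ∀ x, f x = y → P x := by
    intro x hx
    obtain ⟨z, rfl⟩ : ∃ z, f.fiberι y z = x := by
      change x ∈ Set.range (f.fiberι y)
      rw [f.range_fiberι]
      exact hx
    exact exists_basis_image_nhd f hF hG y h θ hh z (show f _ ∈ U from hx.symm ▸ hy)
  have hC : IsOpen {x | P x} := isOpen_iff_forall_mem_open.2 fun x ⟨B, hB, n, s, hxB, hs, ht⟩ =>
    ⟨B, fun x' hx' => ⟨B, hB, n, s, hx', hs, ht⟩, B.2, hxB⟩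
  let U' : Y.Opens := U ⊓ ⟨(f '' {x | P x}ᶜ)ᶜ,
    (f.isClosedMap _ hC.isClosed_compl).isOpen_compl⟩
  refine ⟨U', ⟨hy, fun ⟨x, hx, hxy⟩ => hx (hP x hxy)⟩, ?_⟩
  let W := f ⁻¹ᵁ U'
  have e : (⊤ : (W : Scheme.{u}).Opens) ≤ W.ι ⁻¹ᵁ (f ⁻¹ᵁ U) := fun w _ => w.2.1
  obtain ⟨φ, hφ⟩ := HomPull.exists_hom_of_global ((HomPull.comp W.ι F G).app ⊤
    (QCohMod.res _ e (pullSec W.ι (RefHull.homSh F G) h)))
  have : IsIso φ := by
    refine SpecFerrand.isIso_of_bases φ fun w => ?_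
    obtain ⟨B, hB, n, s, hxB, hs, ht⟩ : P (W.ι w) :=
      not_not.1 fun hx => w.2.2 ⟨W.ι w, hx, rfl⟩
    refine ⟨W.ι ⁻¹ᵁ B, n, _, hxB, hs.pull W.ι, ?_⟩
    have := ht.pull W.ι
    convert this using 1
    funext k
    exact (hφ _ _).trans (applySec_comp W.ι F G e h hB (s k))
  let R := Scheme.Modules.restrictFunctorIsoPullback W.ι
  exact ⟨R.app F ≪≫ asIso φ ≪≫ (R.app G).symm⟩

end Groth.CohBase
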