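import Groth.Agent.CohBase.FibreSections
import Groth.Agent.PicAux.PicLaw
import Groth.Agent.PicAux.GenLocal
import Groth.Agent.Misc13.FlatBC
import Groth.Agent.FlatTwist.Relative
import Groth.Agent.VarietyBC.CurveGG
import Groth.Agent.RefRank.RefPowLoc

/-!
# Invertible modules near a fibre without first cohomology
-/

set_option autoImplicit false

universe u

open CategoryTheory Limits AlgebraicGeometry TopologicalSpace Opposite
open Groth.PicAux

namespace Groth.CohBase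

variable {X Y : Scheme.{u}}

lemma isFlatOver_of_iso (f : X ⟶ Y) {M N : X.Modules} (e : M ≅ N)
    (h : FlatMod.IsFlatOver f M) : FlatMod.IsFlatOver f N := by
  intro x
  let := FlatMod.moduleStalkOver f M x
  let := FlatMod.moduleStalkOver f N x
  have hl : ∀ (a : Y.presheaf.stalk (f x)) (v : M.presheaf.stalk x),
      RefHull.stalkMapₗ e.hom x (a • v) = a • RefHull.stalkMapₗ e.hom x v := fun a v =>
    (RefHull.stalkMapₗ e.hom x).map_smul _ _
  have hb : Function.Bijective (RefHull.stalkMapₗ e.hom x) := by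
    refine Function.bijective_iff_has_inverse.2 ⟨RefHull.stalkMapₗ e.inv x, fun v => ?_, fun v => ?_⟩
    · rw [← Groth.RefRank.stalkMapₗ_comp, e.hom_inv_id, Groth.RefRank.stalkMapₗ_id]
    · rw [← Groth.RefRank.stalkMapₗ_comp, e.inv_hom_id, Groth.RefRank.stalkMapₗ_id]
  let φ : M.presheaf.stalk x →ₗ[Y.presheaf.stalk (f x)] N.presheaf.stalk x :=
    { toFun := RefHull.stalkMapₗ e.hom x
      map_add' := map_add _
      map_smul' := hl }
  have : Module.Flat (Y.presheaf.stalk (f x)) (M.presheaf.stalk x) := h x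
  exact Module.Flat.of_linearEquiv (LinearEquiv.ofBijective φ hb).symm

lemma isFlatOver_of_isInvertible (f : X ⟶ Y) [Flat f] {E : X.Modules}
    (hE : PicF.IsInvertible E) : FlatMod.IsFlatOver f E := by
  have : (Coh.structureModule X).IsQuasicoherent := Groth.QCohMod.isQCoh_unit X
  have hO : FlatMod.IsFlatOver f (Coh.structureModule X) := fun x =>
    (Groth.Misc13.FlatBC.flat_stalkMap_iff_structure f x).2 (Flat.stalkMap f x)
  exact isFlatOver_of_iso f (tensorMod_one hE).some (FlatTwist.isFlatOver_tensorMod hE hO)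

variable (f : X ⟶ Y) [IsProper f] [IsLocallyNoetherian Y]

/-- An invertible module trivial on a fibre without first cohomology is trivial near it. -/
theorem exists_gen_near_fibre (E : X.Modules) (hE : PicF.IsInvertible E)
    (hfl : FlatMod.IsFlatOver f E) (y : Y)
    (h1 : Subsingleton (Coh.HH (f.fiber y) (Coh.structureModule (f.fiber y)) 1))
    (e : CohIII.fiberMod f E y ≅ Coh.structureModule (f.fiber y)) :
    ∃ U : Y.Opens, y ∈ U ∧ ∃ s : Γ(E, f ⁻¹ᵁ U), Gen E (f ⁻¹ᵁ U) s := by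
  obtain ⟨t, ht⟩ := nonempty_iso_structure_iff.1 ⟨e⟩
  have h1' : Subsingleton (Coh.HH (f.fiber y) (CohIII.fiberMod f E y) 1) :=
    @Equiv.subsingleton _ _ (haIsoEquiv (f.fiberToSpecResidueField y) e 1).toEquiv h1
  obtain ⟨U, hy, eU, s, hs⟩ := exists_section_lift f E
    (Groth.VarietyBC.CurveGG.isCoh_of_isInvertible hE) hfl y h1' t
  have hloc : ∀ x : X, f x = y → ∃ W : X.Opens, ∃ hW : W ≤ f ⁻¹ᵁ U, x ∈ W ∧
      Gen E W (Groth.PicAux.res E hW s) := by
    intro x hx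
    obtain ⟨W₀, g₀, hxW₀, hg₀⟩ := (isInvertible_iff_exists_gen E).1 hE x
    let W := W₀ ⊓ f ⁻¹ᵁ U
    have hxW : x ∈ W := ⟨hxW₀, show f x ∈ U from hx.symm ▸ hy⟩
    have hg := hg₀.res (inf_le_left : W ≤ W₀)
    obtain ⟨r, hr⟩ := hg.exists_coeff le_rfl (Groth.PicAux.res E inf_le_right s)
    rw [Groth.PicAux.res_self] at hr
    obtain ⟨z, rfl⟩ : ∃ z, f.fiberι y z = x := by
      change x ∈ Set.range (f.fiberι y)
      rw [f.range_fiberι]
      exact hx
    have hp := hg.pull (f.fiberι y)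
    have h2 : Groth.PicAux.res (CohIII.fiberMod f E y)
        (le_top : f.fiberι y ⁻¹ᵁ W ≤ ⊤) t =
        (f.fiberι y).app W r • pullSec (f.fiberι y) E
          (Groth.PicAux.res E (inf_le_left : W ≤ W₀) g₀) := by
      refine Eq.trans ?_ ((congrArg (pullSec (f.fiberι y) E) hr).trans (pullSec_smul _ _ _ _))
      refine Eq.trans ?_ (res_pullSec (f.fiberι y) E (inf_le_right : W ≤ f ⁻¹ᵁ U) s)
      rw [← hs]
      exact QCohMod.res_res _ _ _ _
    have h3 : IsUnit ((f.fiberι y).app W r) :=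
      Gen.isUnit_of_smul hp (h2 ▸ ht.res le_top)
    have h4 : IsUnit (X.presheaf.germ W _ hxW r) := by
      refine isUnit_of_map_unit ((f.fiberι y).stalkMap z).hom _ ?_
      exact (Scheme.Hom.germ_stalkMap_apply (f.fiberι y) W z hxW r).symm ▸
        h3.map ((f.fiber y).presheaf.germ _ z hxW).hom
    let B := X.basicOpen r
    have hB : B ≤ W := X.basicOpen_le r
    refine ⟨B, hB.trans inf_le_right, (X.mem_basicOpen r _ hxW).2 h4, ?_⟩
    have h5 := congrArg (Groth.PicAux.res E hB) hr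
    rw [res_smul, Groth.PicAux.res_res] at h5
    exact h5 ▸ (hg.res hB).smul_unit (X.toRingedSpace.isUnit_res_basicOpen r)
  let C : Set X := {x | ∃ W : X.Opens, ∃ hW : W ≤ f ⁻¹ᵁ U, x ∈ W ∧
    Gen E W (Groth.PicAux.res E hW s)}
  have hC : IsOpen C := isOpen_iff_forall_mem_open.2 fun x ⟨W, hW, hxW, hg⟩ =>
    ⟨W, fun x' hx' => ⟨W, hW, hx', hg⟩, W.2, hxW⟩
  let U' : Y.Opens := U ⊓ ⟨(f '' Cᶜ)ᶜ, (f.isClosedMap _ hC.isClosed_compl).isOpen_compl⟩
  have hyU' : y ∈ U' := ⟨hy, fun ⟨x, hx, hxy⟩ => hx (hloc x hxy)⟩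
  have hle : f ⁻¹ᵁ U' ≤ f ⁻¹ᵁ U := f.preimage_mono inf_le_left
  refine ⟨U', hyU', Groth.PicAux.res E hle s, ?_⟩
  have hc : ∀ x : {x // x ∈ f ⁻¹ᵁ U'}, x.1 ∈ C := fun x =>
    not_not.1 fun hx => x.2.2 ⟨x.1, hx, rfl⟩
  choose W hW hxW hg using hc
  refine Gen.of_cover (fun a => W a ⊓ f ⁻¹ᵁ U') (fun a => inf_le_right)
    (fun x hx => Opens.mem_iSup.2 ⟨⟨x, hx⟩, hxW ⟨x, hx⟩, hx⟩) fun a => ?_
  rw [Groth.PicAux.res_res]
  have := (hg a).res (inf_le_left : W a ⊓ f ⁻¹ᵁ U' ≤ W a)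
  rwa [Groth.PicAux.res_res] at this

end Groth.CohBase
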