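import Groth.Agent.CohBase.QCohSections
import Groth.Agent.QCohMod.Tensor
import Groth.Agent.QCohMod.PullbackSections
import Groth.Prelude.Def_ega3

/-!
# Sections over affine opens of `F ⊗_A M`
-/

universe u

open CategoryTheory Limits AlgebraicGeometry TopologicalSpace Opposite TensorProduct
open Groth.QCohMod (resFun resFun_resFun resFun_self res_app)
open Groth.PicAux (pullSec pullSec_map res_pullSec tmulSec res_tmulSec tmulSec_smul_left
  tmulSec_smul_right ptenUnit PTen)

namespace Groth.CohBase

variable (A : Type u) [CommRing A] {X : Scheme.{u}} [X.Over (Spec (CommRingCat.of A))]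

/-- The structure ring map to functions on an open. -/
noncomputable def toSec (W : X.Opens) : A →+* Γ(X, W) :=
  (resFun X (le_top : W ≤ ⊤)).comp (Coh.toGlobal (X ↘ Spec (CommRingCat.of A)))

lemma resFun_toSec {V W : X.Opens} (h : V ≤ W) (a : A) :
    resFun X h (toSec A W a) = toSec A V a := resFun_resFun _ _ _

variable (F : X.Modules)

/-- Sections over an open, as an `A`-module. -/
noncomputable def secA (W : X.Opens) : ModuleCat.{u} A :=
  (ModuleCat.restrictScalars (toSec A W)).obj (ModuleCat.of Γ(X, W) Γ(F, W))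

/-- Restriction of sections, `A`-linearly. -/
noncomputable def secRes {V W : X.Opens} (h : V ≤ W) : secA A F W →ₗ[A] secA A F V where
  toFun := QCohMod.res F h
  map_add' := map_add (QCohMod.res F h)
  map_smul' a s := by
    change QCohMod.res F h (toSec A W a • (show Γ(F, W) from s)) =
      toSec A V a • QCohMod.res F h s
    rw [QCohMod.res_smul, resFun_toSec]

lemma secRes_apply {V W : X.Opens} (h : V ≤ W) (s : secA A F W) :
    secRes A F h s = QCohMod.res F h s := rfl

variable {A F}

/-- Sections of a module over `Spec A` form an `A`-module. -/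
noncomputable local instance specSecModule (N : (Spec (CommRingCat.of A)).Modules)
    (U : (Spec (CommRingCat.of A)).Opens) : Module A Γ(N, U) :=
  Module.compHom _ ((resFun (Spec (CommRingCat.of A)) (le_top : U ≤ ⊤)).comp
    (Scheme.ΓSpecIso (CommRingCat.of A)).inv.hom)

lemma specSec_smul (N : (Spec (CommRingCat.of A)).Modules) {U : (Spec (CommRingCat.of A)).Opens}
    (a : A) (x : Γ(N, U)) :
    a • x = resFun (Spec (CommRingCat.of A)) (le_top : U ≤ ⊤)
      ((Scheme.ΓSpecIso (CommRingCat.of A)).inv a) • x := rfl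

/-- Inverse image of sections, as a homomorphism. -/
noncomputable def pullSecHom {Y : Scheme.{u}} (f : X ⟶ Y) (N : Y.Modules) (U : Y.Opens) :
    Γ(N, U) →+ Γ((Scheme.Modules.pullback f).obj N, f ⁻¹ᵁ U) :=
  (((Scheme.Modules.pullbackPushforwardAdjunction f).unit.app N).app U).hom

section Tilde

variable (M : ModuleCat.{u} A)

/-- The inverse image of the module sheaf of `M`. -/
noncomputable abbrev pullTilde : X.Modules :=
  (Scheme.Modules.pullback (X ↘ Spec (CommRingCat.of A))).obj (tilde M)

/-- An element of `M` as a global section of its module sheaf. -/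
noncomputable def topSec :
    M →ₗ[A] Γ(tilde (R := CommRingCat.of A) M, (⊤ : (Spec (CommRingCat.of A)).Opens)) where
  toFun := (tilde.toOpen (R := CommRingCat.of A) M ⊤).hom
  map_add' := map_add _
  map_smul' a m := (tilde.toOpen (R := CommRingCat.of A) M ⊤).hom.map_smul a m

lemma topSec_bijective : Function.Bijective (topSec M) :=
  ConcreteCategory.bijective_of_isIso (tilde.isoTop (R := CommRingCat.of A) M).hom

/-- An element of `M` as a section of the inverse image of its module sheaf. -/
noncomputable def tildeSec (W : X.Opens) : M →+ Γ(pullTilde (X := X) M, W) where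
  toFun m := QCohMod.res _ (le_top : W ≤ (X ↘ Spec (CommRingCat.of A)) ⁻¹ᵁ ⊤)
    (pullSec (X ↘ Spec (CommRingCat.of A)) (tilde M) (topSec M m))
  map_zero' := by
    rw [map_zero]
    exact (congrArg _ (map_zero (pullSecHom _ _ _))).trans (map_zero _)
  map_add' m m' := by
    rw [map_add]
    exact (congrArg _ (map_add (pullSecHom _ _ _) _ _)).trans (map_add _ _ _)

lemma appLE_topScalar (W : X.Opens) (a : A) :
    (X ↘ Spec (CommRingCat.of A)).appLE ⊤ W le_top
      ((Scheme.ΓSpecIso (CommRingCat.of A)).inv a) = toSec A W a := rfl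

lemma tildeSec_smul (W : X.Opens) (a : A) (m : M) :
    tildeSec M W (a • m) = toSec A W a • tildeSec M W m := by
  refine Eq.trans ?_ (congrArg (· • tildeSec M W m) (appLE_topScalar W a))
  refine Eq.trans ?_ (QCohMod.res_pullSec_smul (X ↘ Spec (CommRingCat.of A)) (tilde M)
    (le_top : W ≤ (X ↘ Spec (CommRingCat.of A)) ⁻¹ᵁ ⊤) _ (topSec M m))
  change QCohMod.res _ _ (pullSec _ _ (topSec M (a • m))) = _
  rw [map_smul, specSec_smul, resFun_self]

lemma res_tildeSec {V W : X.Opens} (h : V ≤ W) (m : M) :
    QCohMod.res (pullTilde (X := X) M) h (tildeSec M W m) = tildeSec M V m :=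
  QCohMod.res_res _ _ _ _

lemma tildeSec_map {N : ModuleCat.{u} A} (φ : M ⟶ N) (W : X.Opens) (m : M) :
    ((Scheme.Modules.pullback (X ↘ Spec (CommRingCat.of A))).map (tilde.map φ)).app W
      (tildeSec M W m) = tildeSec N W (φ m) := by
  refine (res_app _ _ _).symm.trans ?_
  refine congrArg _ ((pullSec_map (X ↘ Spec (CommRingCat.of A)) (tilde.map φ) (U := ⊤)
    (topSec M m)).trans (congrArg _ ?_))
  exact congr($(tilde.toOpen_map_app (R := CommRingCat.of A) φ ⊤).hom m)

/-- Sections of the inverse image of the module sheaf over an affine open. -/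
theorem tildeSec_lift_bijective {W : X.Opens} (hW : IsAffineOpen W) :
    letI := (toSec A W).toAlgebra
    ∃ ψ : Γ(X, W) ⊗[A] M ≃+ Γ(pullTilde (X := X) M, W),
      ∀ b m, ψ (b ⊗ₜ m) = b • tildeSec M W m := by
  letI := (toSec A W).toAlgebra
  let f := X ↘ Spec (CommRingCat.of A)
  let R₀ := Γ(Spec (CommRingCat.of A), (⊤ : (Spec (CommRingCat.of A)).Opens))
  have e : W ≤ f ⁻¹ᵁ ⊤ := le_top
  letI := QCohMod.sectionsAlg f e
  have := QCohMod.pullSecTensor_bijective f (tilde M) e (isAffineOpen_top _) hW
  let eM := LinearEquiv.ofBijective (topSec M) (topSec_bijective M)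
  let e₀ := (Scheme.ΓSpecIso (CommRingCat.of A)).commRingCatIsoToRingEquiv
  have he₀ : ∀ r : R₀, (Scheme.ΓSpecIso (CommRingCat.of A)).inv (e₀ r) = r :=
    e₀.symm_apply_apply
  let φ : Γ(X, W) ⊗[A] M →+ Γ(X, W) ⊗[R₀] Γ(tilde M, (⊤ : (Spec (CommRingCat.of A)).Opens)) :=
    TensorProduct.liftAddHom
      (AddMonoidHom.mk' (fun b => AddMonoidHom.mk' (fun m => b ⊗ₜ eM m)
        fun m m' => by rw [map_add, tmul_add]) fun b b' => AddMonoidHom.ext fun m => add_tmul _ _ _)
      fun a b m => by
        change (a • b) ⊗ₜ[R₀] eM m = b ⊗ₜ[R₀] eM (a • m)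
        rw [map_smul, specSec_smul, resFun_self, ← smul_tmul]
        refine congrArg (· ⊗ₜ[R₀] eM m) ?_
        rw [Algebra.smul_def, Algebra.smul_def]
        simp only [RingHom.algebraMap_toAlgebra]
        congr 1
  let χ : Γ(X, W) ⊗[R₀] Γ(tilde M, (⊤ : (Spec (CommRingCat.of A)).Opens)) →+ Γ(X, W) ⊗[A] M :=
    TensorProduct.liftAddHom
      (AddMonoidHom.mk' (fun b => AddMonoidHom.mk' (fun t => b ⊗ₜ eM.symm t)
        fun m m' => by rw [map_add, tmul_add]) fun b b' => AddMonoidHom.ext fun m => add_tmul _ _ _)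
      fun r b t => by
        change (r • b) ⊗ₜ[A] eM.symm t = b ⊗ₜ[A] eM.symm (r • t)
        have hrt : r • t = e₀ r • t := by
          rw [specSec_smul, resFun_self]
          simp [he₀]
        rw [hrt, map_smul, ← smul_tmul]
        refine congrArg (· ⊗ₜ[A] eM.symm t) ?_
        rw [Algebra.smul_def, Algebra.smul_def]
        simp only [RingHom.algebraMap_toAlgebra]
        congr 1
        refine Eq.trans ?_ (appLE_topScalar W (e₀ r))
        rw [he₀]
  have hφ : Function.Bijective φ := by
    refine ⟨Function.LeftInverse.injective (g := χ) fun z => ?_,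
      Function.RightInverse.surjective (g := χ) fun z => ?_⟩
    · induction z using TensorProduct.induction_on with
      | zero => simp
      | tmul b m => simp [φ, χ]
      | add p q hp hq => simp [hp, hq]
    · induction z using TensorProduct.induction_on with
      | zero => simp
      | tmul b m => simp [φ, χ]
      | add p q hp hq => simp [hp, hq]
  exact ⟨AddEquiv.ofBijective
    ((QCohMod.pullSecTensor f (tilde M) e).toAddMonoidHom.comp φ) (this.comp hφ), fun b m => rfl⟩

end Tilde

section Model

variable (F) (M : ModuleCat.{u} A)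

/-- The natural map to the sections of `(f^* M~) ⊗ F`. -/
noncomputable def tensorSec (W : X.Opens) :
    secA A F W ⊗[A] M →+ Γ(CohB1.tensorMod (pullTilde (X := X) M) F, W) :=
  TensorProduct.liftAddHom
    (AddMonoidHom.mk' (fun s => AddMonoidHom.mk' (fun m => tmulSec (tildeSec M W m) (show Γ(F, W) from s))
      fun m m' => by simp [tmulSec, add_tmul]) fun s s' => AddMonoidHom.ext fun m =>
        (congrArg (ptenUnit _ _ W) (tmul_add _ _ _)).trans (map_add _ _ _))
    fun a s m => by
      change tmulSec (tildeSec M W m) (toSec A W a • (show Γ(F, W) from s)) =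
        tmulSec (tildeSec M W (a • m)) (show Γ(F, W) from s)
      rw [tildeSec_smul, tmulSec_smul_left, tmulSec_smul_right]

lemma tensorSec_tmul (W : X.Opens) (s : secA A F W) (m : M) :
    tensorSec F M W (s ⊗ₜ m) = tmulSec (tildeSec M W m) (show Γ(F, W) from s) := rfl

lemma tensorSec_res {V W : X.Opens} (h : V ≤ W) (z : secA A F W ⊗[A] M) :
    QCohMod.res _ h (tensorSec F M W z) = tensorSec F M V ((secRes A F h).rTensor M z) := by
  induction z using TensorProduct.induction_on with
  | zero => simp
  | tmul s m =>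
    rw [tensorSec_tmul, LinearMap.rTensor_tmul, tensorSec_tmul]
    refine (res_tmulSec h _ _).trans ?_
    congr 1
    exact res_tildeSec M h m
  | add p q hp hq => simp [hp, hq]

lemma tensorSec_map {N : ModuleCat.{u} A} (φ : M ⟶ N) (W : X.Opens) (z : secA A F W ⊗[A] M) :
    ((CohIII.tensorAFunctor A F).map φ).app W (tensorSec F M W z) =
      tensorSec F N W (φ.hom.lTensor (secA A F W) z) := by
  let h : Γ(CohB1.tensorMod (pullTilde (X := X) M) F, W) →+
      Γ(CohB1.tensorMod (pullTilde (X := X) N) F, W) :=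
    (((CohIII.tensorAFunctor A F).map φ).app W).hom
  change h (tensorSec F M W z) = _
  induction z using TensorProduct.induction_on with
  | zero => simp
  | add p q hp hq => simp [hp, hq]
  | tmul s m =>
    change ((CohIII.tensorAFunctor A F).map φ).app W (tensorSec F M W (s ⊗ₜ m)) = _
    rw [tensorSec_tmul, LinearMap.lTensor_tmul, tensorSec_tmul, ← tildeSec_map]
    exact congr($(((PresheafOfModules.sheafificationAdjunction (𝟙 X.ringCatSheaf.obj)).unit.naturality
      (MonoidalCategory.whiskerRight (C := CohB1.PMod X) (DCoh.toP.map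
        ((Scheme.Modules.pullback (X ↘ Spec (CommRingCat.of A))).map (tilde.map φ)))
        (CohB1.toPMod F))).symm).app (op W) (tildeSec M W m ⊗ₜ s))

theorem tensorSec_bijective [F.IsQuasicoherent] {W : X.Opens} (hW : IsAffineOpen W) :
    Function.Bijective (tensorSec F M W) := by
  letI := (toSec A W).toAlgebra
  obtain ⟨ψ, hψ⟩ := tildeSec_lift_bijective (X := X) M hW
  let ψ' : Γ(X, W) ⊗[A] M ≃ₗ[Γ(X, W)] Γ(pullTilde (X := X) M, W) :=
    AddEquiv.toLinearEquiv ψ fun r z => by
      induction z using TensorProduct.induction_on with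
      | zero => simp
      | tmul b m => rw [smul_tmul', hψ, hψ, smul_eq_mul, mul_smul]
      | add p q hp hq => rw [smul_add, map_add, hp, hq, map_add, smul_add]
  letI : Module A Γ(F, W) := Module.compHom _ (toSec A W)
  haveI : IsScalarTower A Γ(X, W) Γ(F, W) := IsScalarTower.of_compHom _ _ _
  let e₁ : secA A F W ⊗[A] M ≃+ Γ(F, W) ⊗[Γ(X, W)] (Γ(X, W) ⊗[A] M) :=
    ((AlgebraTensorModule.cancelBaseChange A Γ(X, W) Γ(X, W) Γ(F, W) M).symm.toAddEquiv)
  let e₂ : Γ(F, W) ⊗[Γ(X, W)] (Γ(X, W) ⊗[A] M) ≃+ PTen (pullTilde (X := X) M) F W :=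
    ((TensorProduct.comm Γ(X, W) Γ(F, W) (Γ(X, W) ⊗[A] M)).trans
      (TensorProduct.congr ψ' (LinearEquiv.refl _ _))).toAddEquiv
  have := QCohMod.isQCoh_pullback_obj (X ↘ Spec (CommRingCat.of A)) (tilde M)
  have hb := QCohMod.ptenUnit_bijective (M := pullTilde (X := X) M) (N := F) hW
  have key : ∀ z, tensorSec F M W z = ptenUnit _ _ W (e₂ (e₁ z)) := by
    intro z
    induction z using TensorProduct.induction_on with
    | zero => simp
    | tmul s m =>
      rw [tensorSec_tmul]
      refine congrArg (ptenUnit _ _ W) ?_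
      change tildeSec M W m ⊗ₜ[Γ(X, W)] (show Γ(F, W) from s) = ψ (1 ⊗ₜ m) ⊗ₜ _
      rw [hψ, one_smul]
      rfl
    | add p q hp hq => simp [hp, hq]
  rw [show (tensorSec F M W : _ → _) = (ptenUnit _ _ W) ∘ e₂ ∘ e₁ from funext key]
  exact hb.comp (e₂.bijective.comp e₁.bijective)

end Model

end Groth.CohBase
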