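import Groth.Agent.CohBase.CechClass
import Groth.Agent.CohBase.TensorSec
import Groth.Agent.FlatCxBase.Core
import Mathlib.RingTheory.Flat.Basic

/-!
# The Čech complex of modules over the base ring, and cohomology after tensoring
-/

universe u

open CategoryTheory Limits AlgebraicGeometry TopologicalSpace Opposite
open scoped TensorProduct
open Groth.QCohMod (resFun resFun_resFun res_app)

namespace Groth.CohBase

theorem flat_pi {R : Type u} [CommRing R] {κ : Type u} [Finite κ] (M : κ → Type u)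
    [∀ i, AddCommGroup (M i)] [∀ i, Module R (M i)] [∀ i, Module.Flat R (M i)] :
    Module.Flat R (∀ i, M i) := by
  classical
  have := Fintype.ofFinite κ
  exact Module.Flat.of_linearEquiv (DirectSum.linearEquivFunOnFintype R κ M).symm

theorem rTensor_sum_apply {R : Type u} [CommRing R] {N P Q : Type u} [AddCommGroup N] [Module R N]
    [AddCommGroup P] [Module R P] [AddCommGroup Q] [Module R Q] {κ : Type*} (s : Finset κ)
    (f : κ → N →ₗ[R] P) (z : N ⊗[R] Q) :
    (∑ a ∈ s, f a).rTensor Q z = ∑ a ∈ s, (f a).rTensor Q z := by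
  rw [← LinearMap.coe_rTensorHom, map_sum, LinearMap.sum_apply]

theorem rTensor_zsmul_apply {R : Type u} [CommRing R] {N P Q : Type u} [AddCommGroup N] [Module R N]
    [AddCommGroup P] [Module R P] [AddCommGroup Q] [Module R Q] (k : ℤ)
    (f : N →ₗ[R] P) (z : N ⊗[R] Q) : (k • f).rTensor Q z = k • f.rTensor Q z := by
  rw [← LinearMap.coe_rTensorHom, map_zsmul, LinearMap.smul_apply]

theorem qres_bijective_of_eq {X : Scheme.{u}} (G : X.Modules) {V W : X.Opens} (h : V ≤ W)
    (h' : W ≤ V) : Function.Bijective (QCohMod.res G h) :=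
  res_bijective_of_eq (X := X.toTopCat) G.presheaf h h'

variable (A : Type u) [CommRing A] {X : Scheme.{u}} [X.Over (Spec (CommRingCat.of A))]
  {ι : Type u} (U : ι → X.Opens) (F : X.Modules)

/-- Čech cochains as an `A`-module. -/
noncomputable abbrev cxC (n : ℕ) : ModuleCat.{u} A :=
  ModuleCat.of A (∀ x : Fin (n + 1) → ι, secA A F (tupOpen U x))

/-- The Čech differential, `A`-linearly. -/
noncomputable def cxD (n : ℕ) : cxC A U F n →ₗ[A] cxC A U F (n + 1) :=
  LinearMap.pi fun x => ∑ a : Fin (n + 2), ((-1 : ℤ) ^ (a : ℕ)) •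
    (secRes A F (inter_comp (X := X.toTopCat) U x a.succAbove)).comp
      (LinearMap.proj (x ∘ a.succAbove))

lemma cxD_eq_dCoch {n : ℕ} (s : cxC A U F n) :
    cxD A U F n s = dCoch (X := X.toTopCat) U F.presheaf n s := by
  funext x
  rw [cxD, LinearMap.pi_apply, LinearMap.sum_apply, dCoch_apply]
  rfl

lemma cxD_cxD (n : ℕ) : (cxD A U F (n + 1)).comp (cxD A U F n) = 0 :=
  LinearMap.ext fun s => by
    rw [LinearMap.comp_apply, cxD_eq_dCoch, cxD_eq_dCoch]
    exact dCoch_dCoch (X := X.toTopCat) U F.presheaf s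

/-- The terms of the Čech complex. -/
noncomputable def cxX : ℤ → ModuleCat.{u} A
  | .ofNat n => cxC A U F n
  | .negSucc _ => ModuleCat.of A PUnit

/-- The differentials of the Čech complex. -/
noncomputable def cxd : ∀ i : ℤ, cxX A U F i ⟶ cxX A U F (i + 1)
  | .ofNat n => ModuleCat.ofHom (cxD A U F n)
  | .negSucc _ => 0

/-- The Čech complex over the base ring. -/
noncomputable def cxA : CochainComplex (ModuleCat.{u} A) ℤ :=
  CochainComplex.of (cxX A U F) (cxd A U F) fun i => by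
    cases i with
    | ofNat n => exact ModuleCat.hom_ext (cxD_cxD A U F n)
    | negSucc n => exact zero_comp

lemma cxA_d (n : ℕ) :
    (cxA A U F).d (n : ℤ) ((n : ℤ) + 1) = ModuleCat.ofHom (cxD A U F n) :=
  CochainComplex.of_d _ _ (n : ℤ)

lemma isZero_cxA_of_neg {i : ℤ} (hi : i < 0) : IsZero ((cxA A U F).X i) := by
  cases i with
  | ofNat n => exact absurd hi (not_lt.2 (Int.natCast_nonneg n))
  | negSucc n => exact ModuleCat.isZero_of_subsingleton (ModuleCat.of A PUnit)

lemma flat_cxA [Finite ι]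
    (h : ∀ {n : ℕ} (x : Fin (n + 1) → ι), Module.Flat A (secA A F (tupOpen U x))) (i : ℤ) :
    Module.Flat A ((cxA A U F).X i) := by
  cases i with
  | ofNat n =>
    have := fun x : Fin (n + 1) → ι => h x
    exact flat_pi (fun x : Fin (n + 1) → ι => secA A F (tupOpen U x))
  | negSucc n => exact inferInstanceAs (Module.Flat A PUnit.{u+1})

variable {A U F}

lemma preimage_iSup_eq_top {X' : Scheme.{u}} (g : X' ⟶ X) (hcov : ⨆ i, U i = ⊤) :
    ⨆ i, g ⁻¹ᵁ U i = ⊤ := by
  refine eq_top_iff.2 fun y _ => ?_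
  obtain ⟨i, hi⟩ := Opens.mem_iSup.1 (hcov.ge (Opens.mem_top (g y)))
  exact Opens.mem_iSup.2 ⟨i, hi⟩

lemma tupOpen_preimage {X' : Scheme.{u}} (g : X' ⟶ X) {n : ℕ} (x : Fin (n + 1) → ι) :
    tupOpen (fun i => g ⁻¹ᵁ U i) x = g ⁻¹ᵁ tupOpen U x := by
  refine le_antisymm (fun y hy => ?_) (le_iInf fun a => g.preimage_mono (inter_le _ x a))
  show g y ∈ tupOpen U x
  rw [tupOpen, inter, ← SetLike.mem_coe, Opens.coe_iInf, Set.mem_iInter]
  exact fun a => inter_le (X := X'.toTopCat) (fun i => g ⁻¹ᵁ U i) x a hy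

variable (A U F)

/-- A description of the sections of a module `G` over the preimages of the intersections of a cover
as `Γ(F, -) ⊗_A M`. -/
structure SecModel (M : Type u) [AddCommGroup M] [Module A M] {X' : Scheme.{u}} (g : X' ⟶ X)
    (G : X'.Modules) where
  /-- the comparison map -/
  Φ : ∀ W : X.Opens, secA A F W ⊗[A] M →+ Γ(G, g ⁻¹ᵁ W)
  nat : ∀ {V W : X.Opens} (h : V ≤ W) (z : secA A F W ⊗[A] M),
    QCohMod.res G (g.preimage_mono h) (Φ W z) = Φ V ((secRes A F h).rTensor M z)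
  bij : ∀ {n : ℕ} (x : Fin (n + 1) → ι), Function.Bijective (Φ (tupOpen U x))

namespace SecModel

variable {A U F} {M : Type u} [AddCommGroup M] [Module A M] {X' : Scheme.{u}} {g : X' ⟶ X}
  {G : X'.Modules} (Ψ : SecModel A U F M g G)

/-- The comparison of cochains. -/
noncomputable def toTop (n : ℕ) :
    cxC A U F n ⊗[A] M →+ CsSec (fun i => g ⁻¹ᵁ U i) G n ⊤ :=
  AddMonoidHom.mk' (fun z x => QCohMod.res G (inf_le_right.trans (tupOpen_preimage g x).le)
      (Ψ.Φ (tupOpen U x)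
        ((LinearMap.proj (R := A) (φ := fun x => secA A F (tupOpen U x)) x).rTensor M z)))
    fun z w => funext fun x => by simp

lemma toTop_apply {n : ℕ} (z : cxC A U F n ⊗[A] M) (x : Fin (n + 1) → ι) :
    Ψ.toTop n z x = QCohMod.res G (inf_le_right.trans (tupOpen_preimage g x).le)
      (Ψ.Φ (tupOpen U x)
        ((LinearMap.proj (R := A) (φ := fun x => secA A F (tupOpen U x)) x).rTensor M z)) := rfl

lemma toTop_bijective [Finite ι] (n : ℕ) : Function.Bijective (Ψ.toTop n) := by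
  classical
  have := Fintype.ofFinite ι
  let φ := fun x : Fin (n + 1) → ι => (secA A F (tupOpen U x) : Type u)
  have hb : ∀ x : Fin (n + 1) → ι, Function.Bijective ((QCohMod.res G
      (inf_le_right.trans (tupOpen_preimage g x).le :
        ⊤ ⊓ tupOpen (fun i => g ⁻¹ᵁ U i) x ≤ g ⁻¹ᵁ tupOpen U x)) ∘ (Ψ.Φ (tupOpen U x))) := fun x =>
    (qres_bijective_of_eq G _ (le_inf le_top (tupOpen_preimage g x).ge)).comp (Ψ.bij x)
  have hid : ∑ x, (LinearMap.single A φ x).comp (LinearMap.proj x) = LinearMap.id := by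
    refine LinearMap.ext fun s => funext fun y => ?_
    simp [LinearMap.sum_apply, Finset.sum_apply]
  refine ⟨fun z w e => ?_, fun t => ?_⟩
  · have h : ∀ x, (LinearMap.proj (R := A) (φ := φ) x).rTensor M z =
        (LinearMap.proj (R := A) (φ := φ) x).rTensor M w := fun x => (hb x).1 (congrFun e x)
    have hr : ∀ z : cxC A U F n ⊗[A] M, z = ∑ x, (LinearMap.single A φ x).rTensor M
        ((LinearMap.proj (R := A) (φ := φ) x).rTensor M z) := by
      intro z
      conv_lhs => rw [← LinearMap.id_apply (R := A) z, ← LinearMap.rTensor_id M, ← hid]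
      rw [rTensor_sum_apply]
      simp only [LinearMap.rTensor_comp_apply]
    rw [hr z, hr w]
    simp only [h]
  · choose c hc using fun x => (hb x).2 (t x)
    refine ⟨∑ x, (LinearMap.single A φ x).rTensor M (c x), funext fun y => ?_⟩
    rw [toTop_apply, ← hc y]
    refine congrArg (QCohMod.res G _) (congrArg (Ψ.Φ _) ?_)
    rw [map_sum, Finset.sum_eq_single y]
    · rw [← LinearMap.rTensor_comp_apply, LinearMap.proj_comp_single_same, LinearMap.rTensor_id]
      rfl
    · intro x _ hx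
      rw [← LinearMap.rTensor_comp_apply]
      simp [φ, LinearMap.proj_comp_single_ne A φ y x (Ne.symm hx)]
    · simp

lemma toTop_d (n : ℕ) (z : cxC A U F n ⊗[A] M) :
    Ψ.toTop (n + 1) ((cxD A U F n).rTensor M z) =
      csd (fun i => g ⁻¹ᵁ U i) G n ⊤ (Ψ.toTop n z) := by
  funext x
  rw [toTop_apply, csd_apply, ← LinearMap.rTensor_comp_apply, cxD, LinearMap.proj_pi]
  rw [rTensor_sum_apply, map_sum, map_sum]
  simp only [rTensor_zsmul_apply, map_zsmul]
  refine Finset.sum_congr rfl fun a _ => congrArg (((-1 : ℤ) ^ (a : ℕ)) • ·) ?_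
  rw [toTop_apply, LinearMap.rTensor_comp_apply, ← Ψ.nat,
    QCohMod.res_res, QCohMod.res_res]

variable [Finite ι] [G.IsQuasicoherent] (hcov : ⨆ i, U i = ⊤)
  (hUa : ∀ {n : ℕ} (x : Fin (n + 1) → ι), IsAffineOpen (tupOpen (fun i => g ⁻¹ᵁ U i) x))
  (hU : ∀ (W : X'.Opens), IsAffineOpen W → ∀ {n : ℕ} (x : Fin (n + 1) → ι),
      IsAffineOpen (W ⊓ tupOpen (fun i => g ⁻¹ᵁ U i) x))

/-- The Čech resolution of `G` attached to the model. -/
noncomputable abbrev res' (G : X'.Modules) : Res X'.Modules :=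
  cechRes (fun i => g ⁻¹ᵁ U i) G (preimage_iSup_eq_top g hcov)

omit [Finite ι] [G.IsQuasicoherent] in
lemma cxA_d_rTensor (p : ℕ) (z : cxC A U F p ⊗[A] M) :
    ((cxA A U F).d (p : ℤ) ((p : ℤ) + 1)).hom.rTensor M z = (cxD A U F p).rTensor M z := by
  conv_lhs => arg 1; arg 2; arg 1; rw [cxA_d]
  rfl

omit [Finite ι] [G.IsQuasicoherent] in
lemma toTop_mem_cyc {p : ℕ} (z : LinearMap.ker (((cxA A U F).d (p : ℤ) ((p : ℤ) + 1)).hom.rTensor M)) :
    Ψ.toTop p z.1 ∈ (res' (g := g) hcov G).Cyc ⊤ p := by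
  have h : (cxD A U F p).rTensor M z.1 = 0 :=
    (cxA_d_rTensor p z.1).symm.trans z.2
  change csd (fun i => g ⁻¹ᵁ U i) G p ⊤ (Ψ.toTop p z.1) = 0
  rw [← toTop_d, h, map_zero]

/-- The cohomology class of a cocycle of the tensored Čech complex. -/
noncomputable def cycToHH (p : ℕ) :
    LinearMap.ker (((cxA A U F).d (p : ℤ) ((p : ℤ) + 1)).hom.rTensor M) →+ Coh.HH X' G p :=
  (Res.clsTop (res' (g := g) hcov G) p).comp
    (AddMonoidHom.mk' (fun z => ⟨Ψ.toTop p z.1, Ψ.toTop_mem_cyc hcov z⟩)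
      fun a b => Subtype.ext (map_add (Ψ.toTop p) a.1 b.1))

lemma cycToHH_apply (p : ℕ)
    (z : LinearMap.ker (((cxA A U F).d (p : ℤ) ((p : ℤ) + 1)).hom.rTensor M)) :
    Ψ.cycToHH hcov p z =
      Res.clsTop (res' (g := g) hcov G) p ⟨Ψ.toTop p z.1, Ψ.toTop_mem_cyc hcov z⟩ := rfl

include hUa hU in
lemma cycToHH_surjective (p : ℕ) : Function.Surjective (Ψ.cycToHH hcov p) := by
  intro e
  obtain ⟨q, rfl⟩ := (Res.hcEquivHHOfAcyclic (acyclicOn_cechRes (fun i => g ⁻¹ᵁ U i) G
    (preimage_iSup_eq_top g hcov) hUa hU) p).surjective e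
  obtain ⟨c, rfl⟩ := Submodule.Quotient.mk_surjective _ q
  obtain ⟨z, hz⟩ := (Ψ.toTop_bijective p).2 c.1
  have hz0 : ((cxA A U F).d (p : ℤ) ((p : ℤ) + 1)).hom.rTensor M z = 0 := by
    refine (cxA_d_rTensor p z).trans ((Ψ.toTop_bijective (p + 1)).1 ?_)
    refine ((toTop_d Ψ p z).trans ?_).trans (map_zero (Ψ.toTop (p + 1))).symm
    rw [hz]
    exact c.2
  exact ⟨⟨z, hz0⟩, congrArg (Res.clsTop _ p) (Subtype.ext hz)⟩

include hUa hU in
lemma cycToHH_eq_zero_iff (p : ℕ)
    (z : LinearMap.ker (((cxA A U F).d (p : ℤ) ((p : ℤ) + 1)).hom.rTensor M)) :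
    Ψ.cycToHH hcov p z = 0 ↔ ∃ w, ((cxA A U F).d ((p : ℤ) - 1) p).hom.rTensor M w = z.1 := by
  have hR := acyclicOn_cechRes (fun i => g ⁻¹ᵁ U i) G (preimage_iSup_eq_top g hcov) hUa hU
  rw [cycToHH_apply, ← Res.hcEquivHHOfAcyclic_mk hR]
  refine ((LinearEquiv.map_eq_zero_iff _).trans
    ((Submodule.Quotient.mk_eq_zero _).trans Submodule.mem_comap)).trans ?_
  simp only [Submodule.subtype_apply]
  cases p with
  | zero =>
    rw [Res.mem_bd_zero]
    have hs : Subsingleton ((cxA A U F).X (((0 : ℕ) : ℤ) - 1) ⊗[A] M) :=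
      have := ModuleCat.subsingleton_of_isZero (isZero_cxA_of_neg A U F (i := ((0 : ℕ) : ℤ) - 1)
        (by simp))
      inferInstance
    constructor
    · intro h
      exact ⟨0, by rw [map_zero]; exact ((Ψ.toTop_bijective 0).1 (h.trans (map_zero _).symm)).symm⟩
    · rintro ⟨w, hw⟩
      change Ψ.toTop 0 z.1 = 0
      rw [← hw, Subsingleton.elim w 0, map_zero]
      exact map_zero _
  | succ q =>
    rw [Res.mem_bd_succ]
    have hd : ∀ (i : ℤ) (_ : i = (q : ℤ)),
        (∃ w, ((cxA A U F).d i ((q + 1 : ℕ) : ℤ)).hom.rTensor M w = z.1) ↔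
          ∃ w, (cxD A U F q).rTensor M w = z.1 := by
      rintro i rfl
      exact exists_congr fun w => Eq.congr_left (cxA_d_rTensor q w)
    rw [hd _ (by simp)]
    constructor
    · rintro ⟨w, hw⟩
      obtain ⟨v, rfl⟩ := (Ψ.toTop_bijective q).2 w
      exact ⟨v, (Ψ.toTop_bijective (q + 1)).1 ((toTop_d Ψ q v).trans hw)⟩
    · rintro ⟨v, hv⟩
      exact ⟨Ψ.toTop q v, (toTop_d Ψ q v).symm.trans (congrArg _ hv)⟩

include hUa hU in
/-- Cohomology from the tensored Čech complex. -/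
theorem exists_hhEquiv (p : ℕ) :
    ∃ e : (CohIII.TFun (cxA A U F) (p : ℤ)).obj (ModuleCat.of A M) ≃+ Coh.HH X' G p,
      ∀ z, e (FlatCxBase.clsT (cxA A U F) (FlatCxBase.cochain_next (p : ℤ)) (ModuleCat.of A M) z) =
        Ψ.cycToHH hcov p z := by
  let f := (FlatCxBase.clsT (cxA A U F) (FlatCxBase.cochain_next (p : ℤ))
    (ModuleCat.of A M)).toAddMonoidHom
  let h := Ψ.cycToHH hcov p
  have hker : f.ker = h.ker := by
    ext z
    exact (FlatCxBase.clsT_eq_zero_iff (cxA A U F) _ (ModuleCat.of A M)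
      (FlatCxBase.cochain_prev (p : ℤ)) z).trans (Ψ.cycToHH_eq_zero_iff hcov hUa hU p z).symm
  have hf : Function.Surjective f :=
    FlatCxBase.clsT_surjective (cxA A U F) _ (ModuleCat.of A M)
  let e₁ := QuotientAddGroup.quotientKerEquivOfSurjective f hf
  let e₂ := QuotientAddGroup.quotientKerEquivOfSurjective h (Ψ.cycToHH_surjective hcov hUa hU p)
  refine ⟨e₁.symm.trans ((QuotientAddGroup.quotientAddEquivOfEq hker).trans e₂), fun z => ?_⟩
  have hz : e₁.symm (f z) = QuotientAddGroup.mk z :=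
    (AddEquiv.symm_apply_eq _).2 rfl
  exact (congrArg (fun t => e₂ (QuotientAddGroup.quotientAddEquivOfEq hker t)) hz).trans rfl

end SecModel

end Groth.CohBase
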