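import Groth.Agent.CohBase.RankTheory
import Groth.Agent.CohBase.BaseChangeModel
import Mathlib.RingTheory.Flat.Equalizer

/-!
# Base change of cohomology when all cohomology modules are flat
-/

universe u

open CategoryTheory Limits AlgebraicGeometry TopologicalSpace Opposite HomologicalComplex
open scoped TensorProduct

namespace Groth.CohBase

open Groth.FlatCxBase CxRank

section Alg

variable {A : Type u} [CommRing A] (L : CochainComplex (ModuleCat.{u} A) ℤ)
  [∀ i, Module.Flat A (L.X i)]

namespace CxRank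

/-- With flat cokernels the tensored cohomology is the tensor product. -/
theorem nonempty_tEquiv_tensor (j : ℤ) (h' : Module.Flat A (Qc L (j + 1))) (M : ModuleCat.{u} A) :
    Nonempty ((CohIII.TFun L j).obj M ≃ₗ[A] Hk L j ⊗[A] M) := by
  have hR := flat_range_dq L j h'
  have : Module.Flat A (L.X (j + 1) ⧸ LinearMap.range (dq L j)) :=
    Module.Flat.of_linearEquiv (cokerDqEquiv L j)
  let incl := (LinearMap.ker (dq L j)).subtype
  let g := (dq L j).rangeRestrict
  let ι := (LinearMap.range (dq L j)).subtype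
  have hι : Function.Injective (ι.rTensor M) :=
    rTensor_injective_of_flat (g := (LinearMap.range (dq L j)).mkQ) Subtype.val_injective
      (Submodule.mkQ_surjective _) (LinearMap.exact_subtype_mkQ _) M
  have hincl : Function.Injective (incl.rTensor M) :=
    rTensor_injective_of_flat (g := g) Subtype.val_injective (LinearMap.surjective_rangeRestrict _)
      (by rw [LinearMap.exact_iff, LinearMap.ker_rangeRestrict, Submodule.range_subtype]) M
  have hexg : Function.Exact (incl.rTensor M) (g.rTensor M) :=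
    rTensor_exact M (by rw [LinearMap.exact_iff, LinearMap.ker_rangeRestrict, Submodule.range_subtype])
      (LinearMap.surjective_rangeRestrict _)
  have hcomp : (dq L j).rTensor M = (ι.rTensor M).comp (g.rTensor M) := by
    rw [← LinearMap.rTensor_comp]
    exact congrArg (LinearMap.rTensor M) (LinearMap.ext fun _ => rfl)
  have hk : LinearMap.range (incl.rTensor M) = LinearMap.ker ((dq L j).rTensor M) := by
    rw [hcomp, LinearMap.ker_comp_of_ker_eq_bot _ (LinearMap.ker_eq_bot.2 hι), LinearMap.exact_iff.1 hexg]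
  exact ⟨(tKerEquiv L M j).trans ((LinearEquiv.ofEq _ _ hk.symm).trans
    (LinearEquiv.ofInjective _ hincl).symm)⟩

/-- All cokernels are flat when all cohomology is and `T` vanishes in high degrees. -/
theorem flat_Qc_of_flat_Hk' (b : ℤ) (hb : ∀ j, b < j → ∀ M : ModuleCat.{u} A, IsZero (CohIII.T L j M))
    (m : ℤ) (hH : ∀ i, m ≤ i → Module.Flat A (Hk L i)) : ∀ i, m ≤ i → Module.Flat A (Qc L i) := by
  suffices ∀ n : ℕ, ∀ i, m ≤ i → b + 1 < i + n → Module.Flat A (Qc L i) from
    fun i hi => this (b + 2 - i).toNat i hi (by omega)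
  intro n
  induction n with
  | zero =>
    intro i _ hbi
    have := flat_Qc_succ_of_isZero L (i - 1) (hb _ (by omega))
    rwa [sub_add_cancel] at this
  | succ n ih =>
    intro i hi hbi
    exact flat_Qc_of_next L i (ih (i + 1) (by omega) (by omega)) (hH i hi)

end CxRank

end Alg

open CxRank

variable {A A' : Type u} [CommRing A] [CommRing A'] [Algebra A A'] {X X' : Scheme.{u}}
  [X.Over (Spec (CommRingCat.of A))] [X'.Over (Spec (CommRingCat.of A'))] {g : X' ⟶ X}

/-- Base change of cohomology when all cohomology modules are flat. -/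
theorem nonempty_HH_bc_of_flat (hsq : IsBC (A := A) (A' := A') g) (F : X.Modules)
    [F.IsQuasicoherent] [X.IsSeparated] [CompactSpace X]
    (hfl : FlatMod.IsFlatOver (X ↘ Spec (CommRingCat.of A)) F)
    (hH : ∀ p : ℕ, Module.Flat A (Coh.HH X F p)) (n : ℕ) :
    Nonempty (Coh.HH X' ((Scheme.Modules.pullback g).obj F) n ≃+
      TensorProduct A (Coh.HH X F n) A') := by
  obtain ⟨G⟩ := exists_goodCover X
  let L := cxA A G.U F
  have : ∀ i, Module.Flat A (L.X i) := flat_cxA A G.U F fun x => flat_secA A F hfl (G.affine x)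
  obtain ⟨b, hb⟩ := exists_isZero_T A G F
  have e : ∀ p : ℕ, Hk L (p : ℤ) ≃ₗ[A] Coh.HH X F p := fun p =>
    (tOneEquiv L (p : ℤ)).symm.trans (selfLinIso A G F p)
  have hQ := flat_Qc_of_flat_Hk' L b hb 0 fun i hi => by
    obtain ⟨p, rfl⟩ : ∃ p : ℕ, i = p := ⟨i.toNat, by omega⟩
    have := hH p
    exact Module.Flat.of_linearEquiv (e p)
  obtain ⟨t⟩ := nonempty_tEquiv_tensor L (n : ℤ) (hQ _ (by omega)) (ModuleCat.of A A')
  obtain ⟨ε, -⟩ := exists_bcEquiv hsq F G n
  exact ⟨ε.symm.trans (t.trans ((e n).rTensor A')).toAddEquiv⟩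

end Groth.CohBase
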