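import Groth.Agent.CohBase.SecHomology
import Groth.Prelude.Def_Formal
import Groth.Prelude.Def_ega3
import Mathlib.Algebra.Module.LocalizedModule.Basic

/-!
# Cohomology as a linear quotient of cocycles of sections
-/

universe u

open CategoryTheory Limits AlgebraicGeometry TopologicalSpace Opposite
open CategoryTheory.Abelian (Ext)
open Groth.QCohMod (resFun resFun_resFun resFun_self res_app appₗ)

namespace Groth.CohBase

variable {X : Scheme.{u}}

namespace Res

variable (R : Res X.Modules)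

/-- Cohomology of sections: cocycles modulo coboundaries. -/
abbrev HC (W : X.Opens) (p : ℕ) : Type u :=
  R.Cyc W p ⧸ (R.Bd W p).comap (R.Cyc W p).subtype

/-- Restriction of cocycles. -/
noncomputable def cycRes {V W : X.Opens} (h : V ≤ W) (p : ℕ) : R.Cyc W p →+ R.Cyc V p where
  toFun z := ⟨QCohMod.res (R.A p) h z.1, res_mem_cyc h z.2⟩
  map_zero' := Subtype.ext (map_zero _)
  map_add' a b := Subtype.ext (map_add _ _ _)

lemma cycRes_smul {V W : X.Opens} (h : V ≤ W) (p : ℕ) (r : Γ(X, W)) (z : R.Cyc W p) :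
    R.cycRes h p (r • z) = resFun X h r • R.cycRes h p z :=
  Subtype.ext (QCohMod.res_smul (R.A p) h r z.1)

/-- Restriction on cohomology of sections. -/
noncomputable def hcRes {V W : X.Opens} (h : V ≤ W) (p : ℕ) : R.HC W p →+ R.HC V p :=
  QuotientAddGroup.map _ _ (R.cycRes h p) fun _ hz => res_mem_bd h hz

lemma hcRes_mk {V W : X.Opens} (h : V ≤ W) (p : ℕ) (z : R.Cyc W p) :
    R.hcRes h p (Submodule.Quotient.mk z) = Submodule.Quotient.mk (R.cycRes h p z) := rfl

lemma hcRes_smul {V W : X.Opens} (h : V ≤ W) (p : ℕ) (r : Γ(X, W)) (x : R.HC W p) :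
    R.hcRes h p (r • x) = resFun X h r • R.hcRes h p x := by
  obtain ⟨z, rfl⟩ := Submodule.Quotient.mk_surjective _ x
  rw [← Submodule.Quotient.mk_smul, hcRes_mk, hcRes_mk, cycRes_smul, Submodule.Quotient.mk_smul]

variable {R}

/-- Cohomology of sections computes sheaf cohomology. -/
noncomputable def hcEquivH (hR : R.Flasque) (W : X.Opens) (p : ℕ) :
    R.HC W p ≃+ (Sheaf.H' (abSheaf R.Y) p W : Type u) :=
  (QuotientAddGroup.quotientAddEquivOfEq (N := (clsH R W p).ker) (by
    ext z; exact (clsH_eq_zero_iff hR W p z).symm)).trans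
    (QuotientAddGroup.quotientKerEquivOfSurjective (clsH R W p) (clsH_surjective hR W p))

lemma hcEquivH_mk (hR : R.Flasque) (W : X.Opens) (p : ℕ) (z : R.Cyc W p) :
    hcEquivH hR W p (Submodule.Quotient.mk z) = clsH R W p z := rfl

/-- Multiplication by a global function, on a resolution. -/
noncomputable def smulHomRes (R : Res X.Modules) (g : Coh.Γtop X) : Hom R R where
  f₀ := Formal.smulModΓ R.Y g
  f n := Formal.smulModΓ (R.A n) g
  comm₀ := by
    refine Scheme.Modules.hom_ext _ _ fun U => ?_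
    ext s
    change (show Γ(X, U) from Coh.resTop X (op U) g) • R.ι.app U s =
      R.ι.app U ((show Γ(X, U) from Coh.resTop X (op U) g) • s)
    rw [Scheme.Modules.Hom.app_smul]
  comm n := by
    refine Scheme.Modules.hom_ext _ _ fun U => ?_
    ext s
    change (show Γ(X, U) from Coh.resTop X (op U) g) • (R.d n).app U s =
      (R.d n).app U ((show Γ(X, U) from Coh.resTop X (op U) g) • s)
    rw [Scheme.Modules.Hom.app_smul]

/-- The class of a global cocycle. -/
noncomputable def clsTop (R : Res X.Modules) (p : ℕ) : R.Cyc ⊤ p →+ Coh.HH X R.Y p :=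
  (equivHTop (X := X.toTopCat) (abSheaf R.Y) p).symm.toAddMonoidHom.comp (clsH R ⊤ p)

lemma clsTop_smul (R : Res X.Modules) (p : ℕ) (g : Γ(X, ⊤)) (z : R.Cyc ⊤ p) :
    clsTop R p (g • z) = g • clsTop R p z := by
  change (equivHTop (X := X.toTopCat) (abSheaf R.Y) p).symm (clsH R ⊤ p (g • z)) =
    Sheaf.H.map (Coh.smulAb R.Y g) p
      ((equivHTop (X := X.toTopCat) (abSheaf R.Y) p).symm (clsH R ⊤ p z))
  apply (equivHTop (X := X.toTopCat) (abSheaf R.Y) p).injective
  rw [AddEquiv.apply_symm_apply]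
  refine Eq.trans ?_ (equivHTop_map (X := X.toTopCat) (Coh.smulAb R.Y g) p _).symm
  rw [AddEquiv.apply_symm_apply]
  refine clsH_map (smulHomRes R g) ⊤ p z (g • z) ?_
  change g • z.1 = (show Γ(X, ⊤) from Coh.resTop X (op ⊤) g) • z.1
  congr 1
  exact (QCohMod.resFun_self g).symm

/-- Cohomology of global sections is the cohomology of the scheme, linearly. -/
noncomputable def hcEquivHH (hR : R.Flasque) (p : ℕ) :
    R.HC ⊤ p ≃ₗ[Γ(X, ⊤)] Coh.HH X R.Y p :=
  AddEquiv.toLinearEquiv
    ((hcEquivH hR ⊤ p).trans (equivHTop (X := X.toTopCat) (abSheaf R.Y) p).symm) fun g x => by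
      obtain ⟨z, rfl⟩ := Submodule.Quotient.mk_surjective _ x
      exact clsTop_smul R p g z

/-- Restriction to a principal open is a localisation. -/
theorem nonempty_localizedModule_equiv_HC {U Ug : X.Opens} (hU : R.LocAt U) (h : Ug ≤ U)
    (g : Γ(X, U)) (e : Ug = X.basicOpen g) (p : ℕ) :
    Nonempty (LocalizedModule (Submonoid.powers g) (R.HC U p) ≃+ R.HC Ug p) := by
  letI : Module Γ(X, U) (R.HC Ug p) := Module.compHom _ (resFun X h)
  let L : R.HC U p →ₗ[Γ(X, U)] R.HC Ug p :=
    { R.hcRes h p with map_smul' := R.hcRes_smul h p }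
  have hu : IsUnit (resFun X h g) := by
    subst e
    exact X.toRingedSpace.isUnit_res_basicOpen g
  have : IsLocalizedModule (Submonoid.powers g) L := by
    constructor
    · rintro ⟨_, n, rfl⟩
      refine (Module.End.isUnit_iff _).2 ?_
      obtain ⟨v, hv⟩ : IsUnit (resFun X h (g ^ n)) := by rw [map_pow]; exact hu.pow n
      have hbij : Function.Bijective fun x : R.HC Ug p => (v : Γ(X, Ug)) • x :=
        ⟨fun a b hab => v.isUnit.smul_left_cancel.1 hab,
          fun b => ⟨(↑v⁻¹ : Γ(X, Ug)) • b, by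
            change (v : Γ(X, Ug)) • (↑v⁻¹ : Γ(X, Ug)) • b = b
            rw [smul_smul, Units.mul_inv, one_smul]⟩⟩
      rw [hv] at hbij
      exact hbij
    · intro y
      obtain ⟨η, rfl⟩ := Submodule.Quotient.mk_surjective _ y
      obtain ⟨n, y, hy, hyb⟩ := (hU g Ug h e p).surj η.1 η.2
      refine ⟨⟨Submodule.Quotient.mk ⟨y, hy⟩, ⟨_, n, rfl⟩⟩, ?_⟩
      change resFun X h (g ^ n) • (Submodule.Quotient.mk η : R.HC Ug p) =
        Submodule.Quotient.mk (R.cycRes h p ⟨y, hy⟩)
      rw [← Submodule.Quotient.mk_smul, Submodule.Quotient.eq]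
      change resFun X h (g ^ n) • η.1 - QCohMod.res (R.A p) h y ∈ R.Bd Ug p
      rw [map_pow, ← neg_sub]
      exact neg_mem hyb
    · intro x₁ x₂ hx
      obtain ⟨z₁, rfl⟩ := Submodule.Quotient.mk_surjective _ x₁
      obtain ⟨z₂, rfl⟩ := Submodule.Quotient.mk_surjective _ x₂
      have hx' : R.hcRes h p (Submodule.Quotient.mk (z₁ - z₂)) = 0 := by
        rw [Submodule.Quotient.mk_sub, map_sub]
        exact sub_eq_zero.2 hx
      rw [hcRes_mk, Submodule.Quotient.mk_eq_zero] at hx'
      obtain ⟨n, hn⟩ := (hU g Ug h e p).inj (z₁ - z₂).1 (z₁ - z₂).2 hx'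
      refine ⟨⟨_, n, rfl⟩, ?_⟩
      change g ^ n • (Submodule.Quotient.mk z₁ : R.HC U p) = g ^ n • Submodule.Quotient.mk z₂
      rw [← sub_eq_zero, ← smul_sub, ← Submodule.Quotient.mk_sub, ← Submodule.Quotient.mk_smul,
        Submodule.Quotient.mk_eq_zero]
      exact hn
  exact ⟨(IsLocalizedModule.iso (Submonoid.powers g) L).toAddEquiv⟩

end Res

end Groth.CohBase
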