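import Groth.Agent.CohBase.RpushAb
import Groth.Agent.CohBase.LinearSec
import Groth.Agent.CohBase.AffineHomCriterion
import Groth.Agent.PicAux.Sections

/-!
# Sections of higher direct images over affine opens, linearly
-/

universe u

open CategoryTheory Limits AlgebraicGeometry TopologicalSpace Opposite
open Groth.QCohMod (resFun resFun_resFun resFun_self res_app appₗ)

namespace Groth.CohBase

variable {X : Scheme.{u}}

namespace Res

/-- The restriction of a resolution to an open subscheme. -/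
noncomputable def restr (R : Res X.Modules) (U : X.Opens) : Res (U : Scheme.{u}).Modules :=
  haveI := preservesFiniteLimits_restrictFunctor U.ι
  haveI : PreservesColimitsOfSize.{0, 0} (Scheme.Modules.restrictFunctor U.ι) :=
    (Scheme.Modules.restrictAdjunction U.ι).leftAdjoint_preservesColimits
  R.mapExact (Scheme.Modules.restrictFunctor U.ι)

variable {R : Res X.Modules}

lemma flasque_restr (hR : R.Flasque) (U : X.Opens) : (R.restr U).Flasque :=
  fun n W W' h => hR n (U.ι ''ᵁ W) (U.ι ''ᵁ W') (U.ι.image_mono h)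

/-- A global cocycle of the restriction, as a cocycle on the open. -/
noncomputable def restrCyc (R : Res X.Modules) (U : X.Opens) (p : ℕ) :
    (R.restr U).Cyc ⊤ p →+ R.Cyc U p where
  toFun z := ⟨QCohMod.res (R.A p) (Scheme.Opens.ι_image_top U).ge z.1,
    Res.res_mem_cyc (Scheme.Opens.ι_image_top U).ge
      (show (show Γ(R.A p, U.ι ''ᵁ ⊤) from z.1) ∈ R.Cyc (U.ι ''ᵁ ⊤) p from z.2)⟩
  map_zero' := Subtype.ext (map_zero (QCohMod.res (R.A p) _))
  map_add' _ _ := Subtype.ext (map_add (QCohMod.res (R.A p) _) _ _)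

lemma restrCyc_surjective (U : X.Opens) (p : ℕ) : Function.Surjective (restrCyc R U p) := by
  intro z
  let y : Γ(R.A p, U.ι ''ᵁ ⊤) := QCohMod.res (R.A p) (Scheme.Opens.ι_image_top U).le z.1
  have hy : y ∈ R.Cyc (U.ι ''ᵁ ⊤) p :=
    Res.res_mem_cyc (R := R) (Scheme.Opens.ι_image_top U).le z.2
  have hy' : (show Γ((R.restr U).A p, ⊤) from y) ∈ (R.restr U).Cyc ⊤ p := hy
  refine ⟨⟨_, hy'⟩, Subtype.ext ?_⟩
  change QCohMod.res (R.A p) (Scheme.Opens.ι_image_top U).ge y = z.1
  exact (QCohMod.res_res (R.A p) _ _ z.1).trans (QCohMod.res_self (R.A p) z.1)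

lemma restrCyc_mem_bd_iff (U : X.Opens) : ∀ (p : ℕ) (z : (R.restr U).Cyc ⊤ p),
    (restrCyc R U p z).1 ∈ R.Bd U p ↔ z.1 ∈ (R.restr U).Bd ⊤ p := by
  intro p z
  constructor
  · intro h
    have h' := Res.res_mem_bd (Scheme.Opens.ι_image_top U).le h
    rw [show QCohMod.res (R.A p) (Scheme.Opens.ι_image_top U).le (restrCyc R U p z).1 =
      (show Γ(R.A p, U.ι ''ᵁ ⊤) from z.1) from
        (QCohMod.res_res _ _ _ _).trans (QCohMod.res_self _ _)] at h'
    cases p with
    | zero => exact h'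
    | succ p => exact h'
  · intro h
    refine Res.res_mem_bd (R := R) (Scheme.Opens.ι_image_top U).ge
      (show (show Γ(R.A p, U.ι ''ᵁ ⊤) from z.1) ∈ R.Bd (U.ι ''ᵁ ⊤) p from ?_)
    cases p with
    | zero => exact h
    | succ p => exact h

lemma restrCyc_smul (U : X.Opens) (p : ℕ) (r : Γ((U : Scheme.{u}), ⊤))
    (z : (R.restr U).Cyc ⊤ p) :
    restrCyc R U p (r • z) =
      resFun X (Scheme.Opens.ι_image_top U).ge ((U.ι.appIso ⊤).inv r) • restrCyc R U p z :=
  Subtype.ext (QCohMod.res_smul (R.A p) (Scheme.Opens.ι_image_top U).ge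
    ((U.ι.appIso ⊤).inv r) (show Γ(R.A p, U.ι ''ᵁ ⊤) from z.1))

end Res

variable {S : Scheme.{u}} (f : X ⟶ S)

/-- The preimage of an affine open over the spectrum of its ring. -/
noncomputable def preimageToSpec {V : S.Opens} :
    ((f ⁻¹ᵁ V : X.Opens) : Scheme.{u}) ⟶ Spec (CommRingCat.of Γ(S, V)) :=
  (f ⁻¹ᵁ V).toSpecΓ ≫ Spec.map (f.app V)

lemma appIso_preimageToSpec {V : S.Opens} (a : Γ(S, V)) :
    resFun X (Scheme.Opens.ι_image_top (f ⁻¹ᵁ V)).ge
      (((f ⁻¹ᵁ V).ι.appIso ⊤).inv (Coh.toGlobal (preimageToSpec f) a)) = (f.app V).hom a := by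
  have h : Coh.toGlobal (preimageToSpec f) a = (f ⁻¹ᵁ V).topIso.inv ((f.app V).hom a) := by
    change (preimageToSpec f).appTop ((Scheme.ΓSpecIso Γ(S, V)).inv a) = _
    rw [preimageToSpec, Scheme.Hom.comp_appTop]
    rw [CommRingCat.comp_apply]
    rw [show (Spec.map (f.app V)).appTop ((Scheme.ΓSpecIso Γ(S, V)).inv a) =
      (Scheme.ΓSpecIso Γ(X, f ⁻¹ᵁ V)).inv ((f.app V).hom a) from
        congr($(Scheme.ΓSpecIso_inv_naturality (f.app V)) a).symm]
    rw [Scheme.Opens.toSpecΓ_appTop, CommRingCat.comp_apply]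
    exact congrArg _ (congr($((Scheme.ΓSpecIso Γ(X, f ⁻¹ᵁ V)).inv_hom_id) ((f.app V).hom a)))
  rw [h]
  simp only [Scheme.Opens.ι_appIso, Iso.refl_inv, Scheme.Opens.topIso_inv]
  exact (resFun_resFun _ _ _).trans (QCohMod.resFun_self _)

variable {M : X.Modules} (I : InjectiveResolution M) (p : ℕ)

lemma addEquivOfSameKer_apply {A B C : Type*} [AddCommGroup A] [AddCommGroup B] [AddCommGroup C]
    (g₁ : A →+ B) (g₂ : A →+ C) (h₁ : Function.Surjective g₁) (h₂ : Function.Surjective g₂)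
    (h : g₁.ker = g₂.ker) (a : A) : addEquivOfSameKer g₁ g₂ h₁ h₂ h (g₁ a) = g₂ a := by
  have : (QuotientAddGroup.quotientKerEquivOfSurjective g₁ h₁).symm (g₁ a) =
      (QuotientAddGroup.mk a : A ⧸ g₁.ker) := (AddEquiv.symm_apply_eq _).2 rfl
  simp only [addEquivOfSameKer, AddEquiv.trans_apply, this]
  rfl

/-- An isomorphism of modules on sections. -/
noncomputable def isoSecEquiv {M N : X.Modules} (e : M ≅ N) (V : X.Opens) :
    Γ(M, V) ≃ₗ[Γ(X, V)] Γ(N, V) :=
  LinearEquiv.ofLinearMap (appₗ e.hom V) (appₗ e.inv V)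
    (LinearMap.ext fun s => congr($(e.inv_hom_id).app V s))
    (LinearMap.ext fun s => congr($(e.hom_inv_id).app V s))

/-- Sections over an affine open of the homology of the direct image are the cohomology of the
preimage, linearly over the functions on the open. -/
theorem exists_sections_linEquiv [QuasiCompact f] [QuasiSeparated f] [M.IsQuasicoherent]
    {V : S.Opens} (hV : IsAffineOpen V) :
    letI : ((f ⁻¹ᵁ V : X.Opens) : Scheme.{u}).Over (Spec (CommRingCat.of Γ(S, V))) :=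
      ⟨preimageToSpec f⟩
    Nonempty (Γ((pushCx f I).homology p, V) ≃ₗ[Γ(S, V)]
      Coh.HH (f ⁻¹ᵁ V : X.Opens) (M.restrict (f ⁻¹ᵁ V).ι) p) := by
  letI : ((f ⁻¹ᵁ V : X.Opens) : Scheme.{u}).Over (Spec (CommRingCat.of Γ(S, V))) :=
    ⟨preimageToSpec f⟩
  let U : X.Opens := f ⁻¹ᵁ V
  let R := (Res.ofInjective I).restr U
  let α : R.Cyc ⊤ p →+ Γ((pushCx f I).homology p, V) :=
    (θH f I p V).comp (Res.restrCyc (Res.ofInjective I) U p)
  have hR : R.Flasque := Res.flasque_restr (flasque_ofInjective I) U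
  let β : R.Cyc ⊤ p →+ R.HC ⊤ p :=
    (Submodule.mkQ ((R.Bd ⊤ p).comap (R.Cyc ⊤ p).subtype)).toAddMonoidHom
  have hker : α.ker = β.ker := by
    ext z
    change θH f I p V (Res.restrCyc (Res.ofInjective I) U p z) = 0 ↔ Submodule.Quotient.mk z = 0
    rw [Submodule.Quotient.mk_eq_zero]
    refine Iff.trans ?_ (Res.restrCyc_mem_bd_iff U p z)
    exact ⟨fun h => θH_ker f I p hV _ h, fun h => θH_eq_zero_of_bd f I p _ h⟩
  let e₀ : Γ((pushCx f I).homology p, V) ≃+ R.HC ⊤ p :=
    addEquivOfSameKer α β ((θH_surjective f I p hV).comp (Res.restrCyc_surjective U p))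
      (Submodule.Quotient.mk_surjective _) hker
  refine ⟨AddEquiv.toLinearEquiv (e₀.trans (Res.hcEquivHH hR p).toAddEquiv) fun a s => ?_⟩
  obtain ⟨z, rfl⟩ := ((θH_surjective f I p hV).comp (Res.restrCyc_surjective U p)) s
  let r : Γ((U : Scheme.{u}), ⊤) := Coh.toGlobal (preimageToSpec f) a
  have hz : α (r • z) = a • α z := by
    change θH f I p V (Res.restrCyc (Res.ofInjective I) U p (r • z)) = _
    rw [Res.restrCyc_smul, appIso_preimageToSpec, θH_smul]
    rfl
  have he : ∀ w, e₀ (α w) = β w := addEquivOfSameKer_apply α β _ _ hker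
  change (Res.hcEquivHH hR p) (e₀ (a • α z)) = r • (Res.hcEquivHH hR p) (e₀ (α z))
  rw [← hz, he, he, ← (Res.hcEquivHH hR p).map_smul]
  rfl

/-- Sections over an affine open of higher direct images, linearly. -/
theorem exists_Rpush_linEquiv [HasInjectiveResolutions X.Modules] [QuasiCompact f]
    [QuasiSeparated f] [M.IsQuasicoherent] {V : S.Opens} (hV : IsAffineOpen V) :
    letI : ((f ⁻¹ᵁ V : X.Opens) : Scheme.{u}).Over (Spec (CommRingCat.of Γ(S, V))) :=
      ⟨preimageToSpec f⟩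
    Nonempty (Γ((Coh.Rpush f p).obj M, V) ≃ₗ[Γ(S, V)]
      Coh.HH (f ⁻¹ᵁ V : X.Opens) (M.restrict (f ⁻¹ᵁ V).ι) p) := by
  obtain ⟨e⟩ := exists_sections_linEquiv f (injectiveResolution M) p hV
  exact ⟨(isoSecEquiv ((injectiveResolution M).isoRightDerivedObj (Coh.push f) p) V).trans e⟩

end Groth.CohBase
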