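import Groth.Agent.Limits.BC0.Consequences
import Groth.Agent.PicAux.Pullback
import Groth.Agent.PicAux.PicLaw
import Groth.Agent.VarietyBC.GlobalField
import Groth.Agent.LocFree.Rank
import Groth.Agent.Limits.BC0.Rank
import Groth.Prelude.Def_ClSub2
import Groth.Agent.CohBase.RpushAffineLin
import Groth.Agent.EulerDeg.LineBundle
import Groth.Agent.PropsBasic.LocFree
import Groth.Agent.FBaseGeom.AssTensor

/-!
# The unit `O_S ⟶ f_*O_X` and base change in degree zero
-/

universe u

open CategoryTheory CategoryTheory.Limits AlgebraicGeometry TopologicalSpace Opposite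
open Groth.PicAux

noncomputable section

set_option backward.isDefEq.respectTransparency.types false

namespace Groth.CohBase

variable {X S : Scheme.{u}} (f : X ⟶ S)

/-- The two spellings of the unit agree. -/
theorem pushUnit_eq_unitToPush : pushUnit f = ClSub.unitToPush f := by
  ext U r
  rfl

/-- A higher direct image has a basis near a point where both cokernels of a model are free. -/
theorem exists_basis_Rpush_of_free [IsProper f] [HasInjectiveResolutions X.Modules] {F : X.Modules}
    [F.IsQuasicoherent] (p : ℕ) {V : S.Opens} (hV : IsAffineOpen V)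
    (M : Groth.CohC3.BC.Model (preimageToSpec f (V := V)) (F.restrict (f ⁻¹ᵁ V).ι))
    {y : S} (hy : y ∈ V)
    (hx : hV.primeIdealOf ⟨y, hy⟩ ∈ Module.freeLocus Γ(S, V) (M.Q p) ∧
      hV.primeIdealOf ⟨y, hy⟩ ∈ Module.freeLocus Γ(S, V) (M.Q (p + 1))) :
    ∃ (W : S.Opens) (n : ℕ) (s : Fin n → Γ((Coh.Rpush f p).obj F, W)), y ∈ W ∧
      Groth.PicAux.Basis' ((Coh.Rpush f p).obj F) W s := by
  let R := (Coh.Rpush f p).obj F
  have : R.IsQuasicoherent := Groth.CohBase.isQCoh_Rpush f p
  have := M.finitePresentation p
  have := M.finitePresentation (p + 1)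
  have := M.free p
  obtain ⟨a, hya, haO, -⟩ := Groth.CohC3.BC.exists_basicOpen hV hy
    (Module.isOpen_freeLocus.inter Module.isOpen_freeLocus) hx
  let : Algebra Γ(S, V) Γ(S, S.basicOpen a) :=
    (S.presheaf.map (homOfLE (S.basicOpen_le a)).op).hom.toAlgebra
  let C := Γ(S, S.basicOpen a)
  have : IsLocalization.Away a C := hV.isLocalization_basicOpen a
  have : Module.Flat Γ(S, V) C := IsLocalization.flat C (Submonoid.powers a)
  have : Module.Projective C (TensorProduct Γ(S, V) C (M.Q p)) :=
    (Groth.CohC3.BC.subset_freeLocus_iff a C).1 fun z hz => (haO hz).1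
  have : Module.Projective C (TensorProduct Γ(S, V) C (M.Q (p + 1))) :=
    (Groth.CohC3.BC.subset_freeLocus_iff a C).1 fun z hz => (haO hz).2
  obtain ⟨h1, h2⟩ := Groth.CohC3.BC.ker_finite_projective (f := (M.d p).baseChange C)
    (Groth.CohC3.BC.exact_baseChange (M.exact p) (M.surjective p) C)
    (Groth.CohC3.BC.surjective_baseChange (M.surjective p) C)
  let := Groth.PropsBasic.FPSections.resModule R a
  have : IsScalarTower Γ(S, V) C Γ(R, S.basicOpen a) :=
    IsScalarTower.of_algebraMap_smul fun _ _ => rfl
  have := Groth.PropsBasic.FPSections.isLocalizedModule_resₗ R hV a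
  let : ((f ⁻¹ᵁ V : X.Opens) : Scheme.{u}).Over (Spec (CommRingCat.of Γ(S, V))) :=
    ⟨preimageToSpec f⟩
  obtain ⟨e⟩ := Groth.CohBase.exists_Rpush_linEquiv f (M := F) p hV
  let e' : LinearMap.ker (M.d p) ≃ₗ[Γ(S, V)] Γ(R, V) := (M.e₀ p).trans e.symm
  let e'' : LinearMap.ker ((M.d p).baseChange C) ≃ₗ[C] Γ(R, S.basicOpen a) :=
    (LinearEquiv.ofBijective _ (Groth.CohC3.BC.kerBC_bijective_of_flat_algebra (f := M.d p) C)).symm.trans
      ((LinearEquiv.baseChange Γ(S, V) C _ _ e').trans
        (IsLocalizedModule.isBaseChange (Submonoid.powers a) C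
          (Groth.PropsBasic.FPSections.resₗ R a)).equiv)
  have : Module.Finite C Γ(R, S.basicOpen a) := Module.Finite.equiv e''
  have : Module.Projective C Γ(R, S.basicOpen a) := Module.Projective.of_equiv e''
  have : Module.FinitePresentation C Γ(R, S.basicOpen a) :=
    Module.finitePresentation_of_projective _ _
  have hW := hV.basicOpen a
  have : Module.Free (S.presheaf.stalk y) (R.presheaf.stalk y) :=
    (LocFree.mem_freeLocus_iff hW hya).1
      (Module.freeLocus_eq_univ (R := C) (M := Γ(R, S.basicOpen a)) ▸ trivial)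
  obtain ⟨b, n, m, hb, -, hm⟩ := LocFree.exists_basis_of_free_stalk (M := R) hW hya
  exact ⟨S.basicOpen b, n, _, hb, hm⟩

section Square

variable {X' S' : Scheme.{u}} (g : S' ⟶ S) (f' : X' ⟶ S') (g' : X' ⟶ X) (w : g' ≫ f = f' ≫ g)

/-- The base change map carries the unit to the unit. -/
theorem bc0_pullUnit :
    (Scheme.Modules.pullback g).map (pushUnit f) ≫
      CohBC.bc0 f g f' g' w (Coh.structureModule X) ≫
        (Scheme.Modules.pushforward f').map (pullUnit g') = pullUnit g ≫ pushUnit f' := by
  let adj := Scheme.Modules.pullbackPushforwardAdjunction g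
  apply (adj.homEquiv _ _).injective
  rw [adj.homEquiv_naturality_left, adj.homEquiv_naturality_right, adj.homEquiv_naturality_right]
  rw [show adj.homEquiv _ _ (pullUnit g) = pushUnit g from unit_pullUnit g]
  rw [show adj.homEquiv _ _ (CohBC.bc0 f g f' g' w (Coh.structureModule X)) =
    CohBC.bc0Adj f g f' g' w (Coh.structureModule X) from Equiv.apply_symm_apply _ _]
  ext U r
  let c := f.app U r
  change (pullUnit g').app (f' ⁻¹ᵁ g ⁻¹ᵁ U)
      (((Scheme.Modules.pullback g').obj (Coh.structureModule X)).presheaf.map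
        (eqToHom (show f' ⁻¹ᵁ g ⁻¹ᵁ U = g' ⁻¹ᵁ f ⁻¹ᵁ U by
          rw [← Scheme.Hom.comp_preimage, ← Scheme.Hom.comp_preimage, w])).op
        (pullSec g' (Coh.structureModule X) (U := f ⁻¹ᵁ U) c)) =
    f'.app (g ⁻¹ᵁ U) (g.app U r)
  have h1 : (pullUnit g').app (g' ⁻¹ᵁ f ⁻¹ᵁ U) (pullSec g' (Coh.structureModule X) (U := f ⁻¹ᵁ U) c) =
      g'.app (f ⁻¹ᵁ U) c := congr(($(unit_pullUnit g')).app (f ⁻¹ᵁ U) c)
  rw [res_def, app_res, h1]
  exact (congr($(Scheme.Hom.congr_app w.symm U) r)).symm

/-- If the unit downstairs and the base change map are isomorphisms, so is the unit upstairs. -/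
theorem isIso_pushUnit_of_bc0 [IsIso (pushUnit f)]
    [IsIso (CohBC.bc0 f g f' g' w (Coh.structureModule X))] : IsIso (pushUnit f') := by
  have := isIso_pullUnit g'
  have := isIso_pullUnit g
  have : IsIso (pullUnit g ≫ pushUnit f') := by
    rw [← bc0_pullUnit f g f' g' w]
    infer_instance
  exact IsIso.of_isIso_comp_left (pullUnit g) (pushUnit f')

/-- If the unit upstairs is an isomorphism the base change map is an epimorphism. -/
theorem epi_bc0_of_isIso_pushUnit [IsIso (pushUnit f')] :
    Epi (CohBC.bc0 f g f' g' w (Coh.structureModule X)) := by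
  have := isIso_pullUnit g'
  have := isIso_pullUnit g
  have h : Epi ((Scheme.Modules.pullback g).map (pushUnit f) ≫
      CohBC.bc0 f g f' g' w (Coh.structureModule X) ≫
        (Scheme.Modules.pushforward f').map (pullUnit g')) := by
    rw [bc0_pullUnit]
    infer_instance
  have h' : Epi (CohBC.bc0 f g f' g' w (Coh.structureModule X) ≫
        (Scheme.Modules.pushforward f').map (pullUnit g')) :=
    epi_of_epi ((Scheme.Modules.pullback g).map (pushUnit f)) _
  have h'' : Epi ((CohBC.bc0 f g f' g' w (Coh.structureModule X) ≫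
      (Scheme.Modules.pushforward f').map (pullUnit g')) ≫
        inv ((Scheme.Modules.pushforward f').map (pullUnit g'))) := inferInstance
  simpa using h''

end Square

/-- Over a field the unit is an isomorphism as soon as it is one on global sections. -/
theorem isIso_pushUnit_of_subsingleton [Subsingleton S] (h : Function.Bijective (f.app ⊤)) :
    IsIso (pushUnit f) := by
  rw [Scheme.Modules.Hom.isIso_iff_isIso_app]
  intro U
  rw [ConcreteCategory.isIso_iff_bijective]
  change Function.Bijective (f.app U)
  by_cases hU : Nonempty U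
  · obtain ⟨⟨s, hs⟩⟩ := hU
    obtain rfl : U = ⊤ := Opens.ext (Set.eq_univ_of_forall fun t => Subsingleton.elim s t ▸ hs)
    exact h
  · obtain rfl : U = ⊥ := Opens.ext (Set.eq_empty_of_forall_notMem fun t ht => hU ⟨⟨t, ht⟩⟩)
    have : Subsingleton Γ(X, f ⁻¹ᵁ ⊥) := by
      rw [Scheme.Hom.preimage_bot]
      infer_instance
    exact ⟨fun a b _ => Subsingleton.elim a b, fun b => ⟨0, Subsingleton.elim _ b⟩⟩

/-- A surjective morphism with invertible direct image of `O` has `O_S = f_*O_X`. -/
theorem isIso_pushUnit_of_isInvertible [Surjective f]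
    (h : PicF.IsInvertible ((Scheme.Modules.pushforward f).obj (Coh.structureModule X))) :
    IsIso (pushUnit f) := by
  rw [isIso_hom_structure_iff]
  choose U b hx hb using (isInvertible_iff_exists_gen _).1 h
  refine Gen.of_cover U (fun _ => le_top) (fun x _ => Opens.mem_iSup.2 ⟨x, hx x⟩) fun x => ?_
  rw [← app_res, res_oneSec]
  obtain ⟨a, ha⟩ := (hb x).exists_coeff le_rfl ((pushUnit f).app (U x) (oneSec S (U x)))
  replace ha := ha.trans (congrArg (a • ·) (res_self _ _))
  erw [ha]
  refine (hb x).smul_unit ?_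
  have h1 : (1 : Γ(X, f ⁻¹ᵁ U x)) = f.app (U x) a * (show Γ(X, f ⁻¹ᵁ U x) from b x) :=
    (map_one (f.app (U x)).hom).symm.trans ha
  have hu : IsUnit (f.app (U x) a) := IsUnit.of_mul_eq_one _ h1.symm
  have hD : S.basicOpen a = U x := by
    refine le_antisymm (S.basicOpen_le a) fun s hs => ?_
    obtain ⟨y, rfl⟩ := f.surjective s
    change y ∈ f ⁻¹ᵁ S.basicOpen a
    rw [Scheme.preimage_basicOpen, Scheme.basicOpen_of_isUnit _ hu]
    exact hs
  refine (RingedSpace.isUnit_of_isUnit_germ _ _ a fun s hs => ?_)
  exact (Scheme.mem_basicOpen S a s hs).1 (hD.symm ▸ hs)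

/-- Degree zero cohomology of the fibre is its ring of functions. -/
theorem fiberRank_zero_structure (y : S) :
    CohIII.fiberRank f (Coh.structureModule X) 0 y =
      Module.finrank (S.residueField y) Γ(f.fiber y, ⊤) := by
  let : (f.fiber y).Over (Spec (CommRingCat.of (S.residueField y))) :=
    ⟨f.fiberToSpecResidueField y⟩
  obtain ⟨e⟩ := Groth.PicAux.pullback_structure_iso (f.fiberι y)
  exact ((Groth.CohBase.haIsoEquiv (f.fiberToSpecResidueField y) e 0).finrank_eq).trans
    (Groth.VarietyBC.GlobalField.finrank_HH_zero (S.residueField y) (f.fiber y))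

/-- The fibre with one-dimensional functions has iso unit. -/
theorem isIso_pushUnit_fiber (y : S)
    (h : CohIII.fiberRank f (Coh.structureModule X) 0 y = 1) :
    IsIso (pushUnit (f.fiberToSpecResidueField y)) := by
  rw [fiberRank_zero_structure] at h
  refine isIso_pushUnit_of_subsingleton _ ?_
  have := Module.nontrivial_of_finrank_eq_succ h
  have : Module.Finite (S.residueField y) Γ(f.fiber y, ⊤) :=
    Module.finite_of_finrank_eq_succ h
  have hi : Function.Injective (Algebra.linearMap (S.residueField y) Γ(f.fiber y, ⊤)) :=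
    (algebraMap (S.residueField y) Γ(f.fiber y, ⊤)).injective
  have hb : Function.Bijective (algebraMap (S.residueField y) Γ(f.fiber y, ⊤)) :=
    ⟨hi, (LinearMap.injective_iff_surjective_of_finrank_eq_finrank
      ((Module.finrank_self _).trans h.symm)).1 hi⟩
  have : Function.Bijective ((f.fiberToSpecResidueField y).appTop ∘
      (Scheme.ΓSpecIso (S.residueField y)).inv) := hb
  exact (Function.Bijective.of_comp_iff _
    (ConcreteCategory.bijective_of_isIso (Scheme.ΓSpecIso (S.residueField y)).inv)).1 this

variable [IsProper f] [Flat f] [LocallyOfFinitePresentation f]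

/-- All points are good when fibres have only constants. -/
theorem goodAt_structure (y : S) (h : CohIII.fiberRank f (Coh.structureModule X) 0 y = 1) :
    Groth.Limits.BC0.GoodAt f (Coh.structureModule X) y := by
  have hlf := LocFree.isFinLocFree_of_rank (LocFree.isInvertible_iff_ofRank_one.1
      (Groth.EulerDeg.isInvertible_structureModule X))
  have := KTheory.LocFree.isQCoh hlf
  have := isIso_pushUnit_fiber f y h
  exact Groth.Limits.BC0.goodAt_of_epi (Groth.PropsBasic.LocFree.isFP_of_isFinLocFree _ hlf)
    (Groth.FBaseGeom.isFlatOver_structureModule f) y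
    (epi_bc0_of_isIso_pushUnit f _ _ _ (f.fiber_fac y))

variable (h : ∀ y : S, CohIII.fiberRank f (Coh.structureModule X) 0 y = 1)
include h

/-- The unit is an isomorphism when fibres have only constants. -/
theorem isIso_pushUnit_of_fiberRank : IsIso (pushUnit f) := by
  have hlf := LocFree.isFinLocFree_of_rank (LocFree.isInvertible_iff_ofRank_one.1
      (Groth.EulerDeg.isInvertible_structureModule X))
  have := KTheory.LocFree.isQCoh hlf
  have hg : ∀ y, Groth.Limits.BC0.GoodAt f (Coh.structureModule X) y := fun y =>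
    goodAt_structure f y (h y)
  have hfree := Groth.Limits.BC0.isFinLocFree_of_good hg
  have : Surjective f := ⟨fun y => by
    have hy := h y
    rw [fiberRank_zero_structure] at hy
    have := Module.nontrivial_of_finrank_eq_succ hy
    have : Nonempty (f.fiber y) := by
      by_contra hne
      rw [not_nonempty_iff] at hne
      exact not_subsingleton Γ(f.fiber y, ⊤) inferInstance
    obtain ⟨z⟩ := this
    exact ⟨f.fiberι y z, by
      rw [← Scheme.Hom.comp_apply, f.fiber_fac y, Scheme.Hom.comp_apply,
        Scheme.fromSpecResidueField_apply]⟩⟩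
  refine isIso_pushUnit_of_isInvertible f (LocFree.isInvertible_iff_ofRank_one.2
    (LocFree.isFinLocFreeOfRank_iff_finrank.2 ⟨hfree, fun y => ?_⟩))
  rw [Groth.Limits.BC0.finrank_stalk_of_goodAt (hg y) hfree, h y]

/-- The unit stays an isomorphism after every base change. -/
theorem isIso_pushUnit_baseChange {X' S' : Scheme.{u}} {g : S' ⟶ S} {f' : X' ⟶ S'} {g' : X' ⟶ X}
    (hsq : IsPullback g' f' f g) : IsIso (pushUnit f') := by
  have := KTheory.LocFree.isQCoh (LocFree.isFinLocFree_of_rank (LocFree.isInvertible_iff_ofRank_one.1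
      (Groth.EulerDeg.isInvertible_structureModule X)))
  have := isIso_pushUnit_of_fiberRank f h
  have : IsIso (CohBC.bc0 f g f' g' hsq.w (Coh.structureModule X)) :=
    Groth.Limits.BC0.isIso_bc0_of_good hsq fun z => goodAt_structure f _ (h _)
  exact isIso_pushUnit_of_bc0 f g f' g' hsq.w

/-- The first higher direct image of `O` is finite locally free if moreover the second fibre
cohomology vanishes. -/
theorem isFinLocFree_Rpush_one [HasInjectiveResolutions X.Modules]
    (h2 : ∀ y : S, Subsingleton (CohIII.fiberH f (Coh.structureModule X) y 2)) :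
    FlatMod.IsFinLocFree ((Coh.Rpush f 1).obj (Coh.structureModule X)) := by
  have := KTheory.LocFree.isQCoh (LocFree.isFinLocFree_of_rank (LocFree.isInvertible_iff_ofRank_one.1
      (Groth.EulerDeg.isInvertible_structureModule X)))
  refine KTheory.LocFree.isFinLocFree_iff.2 fun y => ?_
  obtain ⟨V, hV, M, c, hyc, hc⟩ := goodAt_structure f y (h y)
  have hy : y ∈ V := S.basicOpen_le c hyc
  exact exists_basis_Rpush_of_free f 1 hV M hy
    ⟨hc ((Groth.QCohMod.mem_basicOpen_iff_notMem_primeIdealOf hV c y hy).1 hyc),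
      (Groth.CohC3.BC.mem_freeLocus_of_vanish hV M hy 2 (h2 y)).1.2⟩

end Groth.CohBase
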