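import Groth.Agent.CohBase.CechRes

/-!
# Cohomology from the sections of an acyclic resolution
-/

universe u

open CategoryTheory Limits AlgebraicGeometry TopologicalSpace Opposite
open CategoryTheory.Abelian (Ext)

namespace Groth.CohBase

variable {X : Scheme.{u}}

namespace Res

variable {R : Res X.Modules}

/-- The terms of a resolution have no higher cohomology on `W`. -/
def AcyclicOn (R : Res X.Modules) (W : X.Opens) : Prop :=
  ∀ n q : ℕ, HVanish (X := X.toTopCat) (abSheaf (R.A n)) (q + 1) W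

lemma clsH_surjective_of_acyclic {W : X.Opens} (hR : R.AcyclicOn W) (p : ℕ) :
    Function.Surjective (clsH R W p) := by
  intro e
  obtain ⟨c, hc⟩ := (Res.cls_spec (freeOpen (X := X.toTopCat) W) p R.ab
    (fun n q _ => hR n q)).1 e
  refine ⟨⟨(toFree R W p).symm c.1, ?_⟩, ?_⟩
  · rw [mem_cyc]
    apply (toFree R W (p + 1)).injective
    rw [map_zero, ← toFree_comp_d, AddEquiv.apply_symm_apply]
    exact c.2
  · refine Eq.trans ?_ hc
    exact congrArg (Res.cls (freeOpen (X := X.toTopCat) W) p R.ab)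
      (Subtype.ext ((toFree R W p).apply_symm_apply c.1))

lemma clsH_eq_zero_iff_of_acyclic {W : X.Opens} (hR : R.AcyclicOn W) :
    ∀ (p : ℕ) (z : R.Cyc W p), clsH R W p z = 0 ↔ z.1 ∈ R.Bd W p := by
  intro p z
  have hs := (Res.cls_spec (freeOpen (X := X.toTopCat) W) p R.ab (fun n q _ => hR n q)).2
  cases p with
  | zero =>
    rw [mem_bd_zero]
    refine ⟨fun h => (toFree R W 0).injective ?_, fun h => ?_⟩
    · rw [map_zero]; exact AddSubgroup.mem_bot.1 (hs _ h)
    · have hz : z = 0 := Subtype.ext h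
      rw [hz, map_zero]
  | succ p =>
    constructor
    · intro h
      obtain ⟨g, hg⟩ := hs _ h
      refine ⟨(toFree R W p).symm g, (toFree R W (p + 1)).injective ?_⟩
      refine (toFree_comp_d W p _).symm.trans ?_
      rw [AddEquiv.apply_symm_apply]
      exact hg
    · rintro ⟨w, hw⟩
      refine Res.cls_eq_zero_of_cobound _ _ R.ab _
        ((Groth.SiteCohomology.AcyclicRes.mem_cobound_succ _ _ _).2 ⟨toFree R W p w, ?_⟩)
      exact (toFree_comp_d W p w).trans (congrArg (toFree R W (p + 1)) hw)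

/-- Cohomology of global sections of an acyclic resolution is the cohomology of the scheme. -/
noncomputable def hcEquivHHOfAcyclic (hR : R.AcyclicOn ⊤) (p : ℕ) :
    R.HC ⊤ p ≃ₗ[Γ(X, ⊤)] Coh.HH X R.Y p :=
  AddEquiv.toLinearEquiv
    (((QuotientAddGroup.quotientAddEquivOfEq (N := (clsH R ⊤ p).ker) (by
        ext z; exact (clsH_eq_zero_iff_of_acyclic hR p z).symm)).trans
      (QuotientAddGroup.quotientKerEquivOfSurjective (clsH R ⊤ p)
        (clsH_surjective_of_acyclic hR p))).trans
      (equivHTop (X := X.toTopCat) (abSheaf R.Y) p).symm) fun g x => by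
      obtain ⟨z, rfl⟩ := Submodule.Quotient.mk_surjective _ x
      exact clsTop_smul R p g z

lemma hcEquivHHOfAcyclic_mk (hR : R.AcyclicOn ⊤) (p : ℕ) (z : R.Cyc ⊤ p) :
    hcEquivHHOfAcyclic hR p (Submodule.Quotient.mk z) = clsTop R p z := rfl

/-- The class of a global cocycle is natural in the resolution. -/
lemma clsTop_map {R R' : Res X.Modules} (φ : Res.Hom R R') (p : ℕ) (z : R.Cyc ⊤ p)
    (z' : R'.Cyc ⊤ p) (h : z'.1 = (φ.f p).app ⊤ z.1) :
    clsTop R' p z' = Sheaf.H.map ((toAbF X).map φ.f₀) p (clsTop R p z) := by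
  apply (equivHTop (X := X.toTopCat) (abSheaf R'.Y) p).injective
  refine Eq.trans ?_ (equivHTop_map (X := X.toTopCat) ((toAbF X).map φ.f₀) p _).symm
  change (equivHTop (X := X.toTopCat) (abSheaf R'.Y) p)
      ((equivHTop (X := X.toTopCat) (abSheaf R'.Y) p).symm (clsH R' ⊤ p z')) = _
  rw [AddEquiv.apply_symm_apply, clsTop]
  refine (clsH_map φ ⊤ p z z' h).trans ?_
  congr 1
  exact ((equivHTop (X := X.toTopCat) (abSheaf R.Y) p).apply_symm_apply _).symm

end Res

/-- The Čech resolution is acyclic on the whole space. -/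
theorem acyclicOn_cechRes {ι : Type u} [Finite ι] (U : ι → X.Opens) (F : X.Modules)
    [F.IsQuasicoherent] (hcov : ⨆ i, U i = ⊤)
    (hUa : ∀ {n : ℕ} (x : Fin (n + 1) → ι), IsAffineOpen (tupOpen U x))
    (hU : ∀ (W : X.Opens), IsAffineOpen W → ∀ {n : ℕ} (x : Fin (n + 1) → ι),
      IsAffineOpen (W ⊓ tupOpen U x)) : (cechRes U F hcov).AcyclicOn ⊤ :=
  fun n q => hVanish_csMod U F hcov hUa hU n q

end Groth.CohBase
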