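import Groth.Agent.CohBase.AcyclicShift

/-!
# Cohomology on an open subspace
-/

universe u

open CategoryTheory Limits TopologicalSpace Opposite
open CategoryTheory.Abelian (Ext)

namespace Groth.CohBase

variable {U X : TopCat.{u}} {g : U ⟶ X} (hg : Topology.IsOpenEmbedding g)

/-- Restriction of abelian sheaves along an open embedding. -/
noncomputable def restrictAb : AbSheaf X ⥤ AbSheaf U :=
  haveI := hg.functor_isContinuous
  hg.isOpenMap.functor.sheafPushforwardContinuous AddCommGrpCat.{u}
    (Opens.grothendieckTopology U) (Opens.grothendieckTopology X)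

instance : (restrictAb hg).Additive where

lemma preservesFiniteLimits_restrictAb : PreservesFiniteLimits (restrictAb hg) := by
  refine ⟨fun J _ _ => ?_⟩
  have : PreservesLimitsOfShape J (restrictAb hg ⋙ sheafToPresheaf _ _) :=
    inferInstanceAs (PreservesLimitsOfShape J (sheafToPresheaf _ _ ⋙
      (Functor.whiskeringLeft _ _ _).obj hg.isOpenMap.functor.op))
  exact preservesLimitsOfShape_of_reflects_of_preserves (restrictAb hg) (sheafToPresheaf _ _)

lemma restrictAb_shortExact {S : ShortComplex (AbSheaf X)} (hS : S.ShortExact) :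
    (S.map (restrictAb hg)).ShortExact := by
  have := preservesFiniteLimits_restrictAb hg
  have := hS.mono_f
  refine ShortComplex.ShortExact.mk' ?_ (inferInstanceAs (Mono ((restrictAb hg).map S.f))) ?_
  · exact (((Functor.preservesFiniteLimits_tfae (restrictAb hg)).out 3 1 rfl rfl).mp
      inferInstance S ⟨hS.exact, hS.mono_f⟩).1
  · refine (CategoryTheory.Sheaf.isLocallySurjective_iff_epi' AddCommGrpCat.{u} _).mp ?_
    refine (TopCat.Presheaf.isLocallySurjective_iff ((restrictAb hg).map S.g).hom).mpr ?_
    intro V q y hy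
    obtain ⟨W, hle, hyW, s, hs⟩ := exists_local_lift hS (W := hg.isOpenMap.functor.obj V) q (g y)
      ⟨y, hy, rfl⟩
    have himg : hg.isOpenMap.functor.obj ((Opens.map g).obj W) ≤ W := by
      rintro _ ⟨z, hz, rfl⟩; exact hz
    refine ⟨(Opens.map g).obj W, fun z hz => ?_, ⟨res S.X₂.obj himg s, ?_⟩, hyW⟩
    · obtain ⟨z', hz', e⟩ := hle hz
      exact hg.injective e ▸ hz'
    · have := congrArg (res S.X₃.obj himg) hs
      rw [← res_naturality] at this
      exact this.trans (res_res S.X₃.obj himg hle q)

lemma hVanish_restrictAb_injective (I : AbSheaf X) [Injective I] (W : Opens U) (n : ℕ) :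
    HVanish ((restrictAb hg).obj I) (n + 1) W := by
  have : TopCat.Sheaf.IsFlasque ((restrictAb hg).obj I) := by
    rw [Groth.SiteCohomology.isFlasque_iff_surjective]
    intro A B i
    exact (Groth.SiteCohomology.isFlasque_iff_surjective I).mp
      (Groth.SiteCohomology.isFlasque_of_injective I) (hg.isOpenMap.functor.map i)
  exact Groth.SiteCohomology.subsingleton_HU_succ_of_flasque _ W n

/-- Cohomology of a restriction. -/
theorem nonempty_equiv_restrictAb (F : AbSheaf X) (n : ℕ) (W : Opens U) :
    Nonempty ((Sheaf.H' ((restrictAb hg).obj F) n W : Type u) ≃+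
      (Sheaf.H' F n (hg.isOpenMap.functor.obj W) : Type u)) := by
  induction n generalizing F with
  | zero =>
    exact ⟨(Ext.addEquiv₀.trans (homFreeOpen W _)).trans
      (Ext.addEquiv₀.trans (homFreeOpen (hg.isOpenMap.functor.obj W) F)).symm⟩
  | succ n ih =>
    have hS := injPres_shortExact F
    have hS' := restrictAb_shortExact hg (S := injPres F) hS
    rcases n with _ | n
    · refine ⟨addEquivOfSameKer (deltaSec hS' W) (deltaSec hS (hg.isOpenMap.functor.obj W))
        (deltaSec_surjective_of_hVanish hS'
          (hVanish_restrictAb_injective hg (injPres F).X₂ W 0))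
        (deltaSec_surjective hS _) ?_⟩
      ext q
      exact (mem_ker_deltaSec hS' W q).trans (mem_ker_deltaSec hS _ q).symm
    · obtain ⟨e⟩ := ih (injPres F).X₃
      exact ⟨((equivHShiftOfVanish hS' (hVanish_restrictAb_injective hg (injPres F).X₂ W n)
        (hVanish_restrictAb_injective hg (injPres F).X₂ W (n + 1))).symm.trans e).trans
        (equivHShift hS _ n)⟩

/-- Cohomology of a restriction, on the whole subspace. -/
theorem nonempty_equiv_restrictAb_top (F : AbSheaf X) (n : ℕ) :
    Nonempty ((Sheaf.H ((restrictAb hg).obj F) n : Type u) ≃+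
      (Sheaf.H' F n (hg.isOpenMap.functor.obj ⊤) : Type u)) := by
  obtain ⟨e⟩ := nonempty_equiv_restrictAb hg F n ⊤
  exact ⟨(equivHTop _ n).trans e⟩

end Groth.CohBase
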