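import Groth.Agent.CohBase.CechSheaf
import Mathlib.CategoryTheory.Sites.SheafCohomology.Basic
import Mathlib.CategoryTheory.Abelian.GrothendieckCategory.HasExt
import Mathlib.CategoryTheory.Abelian.GrothendieckCategory.EnoughInjectives
import Mathlib.CategoryTheory.Abelian.GrothendieckAxioms.Sheaf
import Mathlib.Algebra.Category.Grp.AB
import Mathlib.Algebra.Category.Grp.Ulift
import Mathlib.Topology.Sheaves.LocallySurjective
import Mathlib.CategoryTheory.Adjunction.Whiskering
import Mathlib.CategoryTheory.Sites.EpiMono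

/-!
# Dimension shifting and Cartan's criterion for sheaf cohomology on a space
-/

universe w v u

open CategoryTheory Limits TopologicalSpace Opposite
open CategoryTheory.Abelian (Ext)

namespace Groth.CohBase

section Ext

variable {C : Type u} [Category.{v} C] [Abelian C] [HasExt.{w} C]
  {S : ShortComplex C} (hS : S.ShortExact) (P : C)

include hS

lemma ext_succ_subsingleton [Injective S.X₂] (n : ℕ) (h : Subsingleton (Ext P S.X₃ (n + 1))) :
    Subsingleton (Ext P S.X₁ (n + 2)) :=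
  subsingleton_of_forall_eq 0 fun x => by
    obtain ⟨y, rfl⟩ := Ext.covariant_sequence_exact₁ P hS x (Ext.eq_zero_of_injective _) rfl
    rw [Subsingleton.elim y 0, Ext.zero_comp]

lemma ext_one_subsingleton [Injective S.X₂] (h : ∀ f : P ⟶ S.X₃, ∃ g, g ≫ S.g = f) :
    Subsingleton (Ext P S.X₁ 1) :=
  subsingleton_of_forall_eq 0 fun x => by
    obtain ⟨y, rfl⟩ := Ext.covariant_sequence_exact₁ P hS x (Ext.eq_zero_of_injective _) rfl
    obtain ⟨g, hg⟩ := h (Ext.addEquiv₀ y)
    have hy : y = (Ext.mk₀ g).comp (Ext.mk₀ S.g) (add_zero 0) := by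
      rw [Ext.mk₀_comp_mk₀, hg, Ext.mk₀_addEquiv₀_apply]
    rw [hy, Ext.comp_assoc_of_second_deg_zero, hS.comp_extClass, Ext.comp_zero]

lemma exists_lift_of_ext_one (h : Subsingleton (Ext P S.X₁ 1)) (f : P ⟶ S.X₃) :
    ∃ g, g ≫ S.g = f := by
  obtain ⟨x, hx⟩ := Ext.covariant_sequence_exact₃ P hS (Ext.mk₀ f) (zero_add 1)
    (Subsingleton.elim _ _)
  refine ⟨Ext.addEquiv₀ x, (Ext.mk₀_bijective _ _).injective ?_⟩
  rw [← Ext.mk₀_comp_mk₀, Ext.mk₀_addEquiv₀_apply, hx]

lemma ext_subsingleton_of_shortExact {n : ℕ} (h₁ : Subsingleton (Ext P S.X₁ n))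
    (h₃ : Subsingleton (Ext P S.X₃ n)) : Subsingleton (Ext P S.X₂ n) :=
  subsingleton_of_forall_eq 0 fun x => by
    obtain ⟨y, rfl⟩ := Ext.covariant_sequence_exact₂ P hS x (Subsingleton.elim _ _)
    rw [Subsingleton.elim y 0, Ext.zero_comp]

end Ext

variable {X : TopCat.{u}}

/-- An injective presentation `0 ⟶ F ⟶ I ⟶ Q ⟶ 0` of an abelian sheaf. -/
noncomputable def injPres (F : AbSheaf X) :
    ShortComplex (AbSheaf X) :=
  ShortComplex.mk (Injective.ι F) (cokernel.π _) (cokernel.condition _)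

lemma injPres_shortExact (F : AbSheaf X) : (injPres F).ShortExact where
  exact := ShortComplex.exact_cokernel _
  mono_f := by dsimp [injPres]; infer_instance
  epi_g := by dsimp [injPres]; infer_instance

instance injPres_injective (F : AbSheaf X) : Injective (injPres F).X₂ := by
  dsimp [injPres]; infer_instance

section SectionsExact

variable {S : ShortComplex (AbSheaf X)} (hS : S.ShortExact)

include hS

lemma sections_injective (V : Opens X) : Function.Injective (S.f.hom.app (op V)) := by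
  have := hS.mono_f
  have : Mono S.f.hom := inferInstanceAs
    (Mono ((sheafToPresheaf (Opens.grothendieckTopology X) AddCommGrpCat.{u}).map S.f))
  exact (AddCommGrpCat.mono_iff_injective _).mp ((NatTrans.mono_iff_mono_app _).mp this _)

lemma sections_exact (V : Opens X) :
    Function.Exact (S.f.hom.app (op V)) (S.g.hom.app (op V)) := by
  intro s
  refine ⟨fun h => TopCat.Sheaf.sections_exact_of_left_exact hS.exact hS.mono_f s h, ?_⟩
  rintro ⟨t, rfl⟩
  exact ConcreteCategory.congr_hom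
    (congrArg (fun γ => NatTrans.app γ (op V)) (congrArg (fun γ => γ.hom) S.zero)) t

lemma interLeftExact {ι : Type u} (U : ι → Opens X) :
    InterLeftExact (U := U) S.f.hom S.g.hom :=
  ⟨fun _ => sections_injective hS _, fun _ => sections_exact hS _⟩

lemma exists_local_lift {W : Opens X} (q : S.X₃.obj.obj (op W)) (x : X) (hx : x ∈ W) :
    ∃ (V : Opens X) (h : V ≤ W), x ∈ V ∧
      ∃ s, S.g.hom.app (op V) s = res S.X₃.obj h q := by
  have := hS.epi_g
  have : TopCat.Presheaf.IsLocallySurjective S.g.hom :=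
    (CategoryTheory.Sheaf.isLocallySurjective_iff_epi' AddCommGrpCat.{u} S.g).mpr hS.epi_g
  obtain ⟨V, f, ⟨s, hs⟩, hxV⟩ :=
    (TopCat.Presheaf.isLocallySurjective_iff S.g.hom).mp this W q x hx
  exact ⟨V, f, hxV, s, hs⟩

end SectionsExact

/-- The free abelian sheaf on an open. -/
noncomputable abbrev freeOpen (U : Opens X) : AbSheaf X :=
  (presheafToSheaf (Opens.grothendieckTopology X) _).obj
    (((Functor.whiskeringRight _ _ _).obj AddCommGrpCat.free).obj (yoneda.obj U))

/-- Morphisms out of the free abelian sheaf on `U` are sections on `U`. -/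
noncomputable def homFreeOpen (U : Opens X) (F : AbSheaf X) :
    (freeOpen U ⟶ F) ≃+ F.obj.obj (op U) :=
  AddEquiv.mk'
    ((((sheafificationAdjunction (Opens.grothendieckTopology X) AddCommGrpCat.{u}).homEquiv _ _).trans
      ((AddCommGrpCat.adj.{u}.whiskerRight (Opens X)ᵒᵖ).homEquiv (yoneda.obj U) _)).trans yonedaEquiv)
    (fun _ _ => rfl)

lemma homFreeOpen_comp (U : Opens X) {F G : AbSheaf X} (φ : F ⟶ G)
    (a : freeOpen U ⟶ F) :
    homFreeOpen U G (a ≫ φ) = φ.hom.app (op U) (homFreeOpen U F a) := rfl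

/-- Sheaf cohomology on an open vanishes in degree `n`. -/
abbrev HVanish (F : AbSheaf X) (n : ℕ) (U : Opens X) : Prop :=
  Subsingleton (CategoryTheory.Sheaf.H' F n U)

lemma hVanish_succ {S : ShortComplex (AbSheaf X)} (hS : S.ShortExact)
    [Injective S.X₂] {U : Opens X} {n : ℕ} (h : HVanish S.X₃ (n + 1) U) :
    HVanish S.X₁ (n + 2) U :=
  ext_succ_subsingleton hS (freeOpen U) n h

lemma hVanish_one {S : ShortComplex (AbSheaf X)} (hS : S.ShortExact)
    [Injective S.X₂] {U : Opens X} (h : Function.Surjective (S.g.hom.app (op U))) :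
    HVanish S.X₁ 1 U :=
  ext_one_subsingleton hS (freeOpen U) fun f => by
    obtain ⟨s, hs⟩ := h (homFreeOpen U _ f)
    exact ⟨(homFreeOpen U _).symm s, (homFreeOpen U _).injective (by
      rw [homFreeOpen_comp, AddEquiv.apply_symm_apply, hs])⟩

lemma sections_surjective {S : ShortComplex (AbSheaf X)} (hS : S.ShortExact)
    {U : Opens X} (h : HVanish S.X₁ 1 U) : Function.Surjective (S.g.hom.app (op U)) := by
  intro s
  obtain ⟨g, hg⟩ := exists_lift_of_ext_one hS (freeOpen U) h ((homFreeOpen U _).symm s)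
  exact ⟨homFreeOpen U _ g, by rw [← homFreeOpen_comp, hg, AddEquiv.apply_symm_apply]⟩

lemma hVanish_middle {S : ShortComplex (AbSheaf X)} (hS : S.ShortExact)
    {U : Opens X} {n : ℕ} (h₁ : HVanish S.X₁ n U) (h₃ : HVanish S.X₃ n U) :
    HVanish S.X₂ n U :=
  ext_subsingleton_of_shortExact hS (freeOpen U) h₁ h₃

/-- A supply of coverings on which to test a sheaf: used in Cartan's criterion. -/
structure CoverSystem (X : TopCat.{u}) where
  /-- The opens on which vanishing is concluded. -/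
  B : Opens X → Prop
  /-- The admissible coverings. -/
  adm : Opens X → ∀ ⦃ι : Type u⦄, (ι → Opens X) → Prop
  le : ∀ ⦃W : Opens X⦄ ⦃ι : Type u⦄ ⦃U : ι → Opens X⦄, adm W U → ∀ i, U i ≤ W
  cover : ∀ ⦃W : Opens X⦄ ⦃ι : Type u⦄ ⦃U : ι → Opens X⦄, adm W U → W ≤ ⨆ i, U i
  inter_mem : ∀ ⦃W : Opens X⦄ ⦃ι : Type u⦄ ⦃U : ι → Opens X⦄, adm W U →
    ∀ ⦃n : ℕ⦄ (x : Fin (n + 1) → ι), B (inter U x)
  refine : ∀ ⦃W : Opens X⦄, B W → ∀ V : W → Opens X, (∀ x : W, x.1 ∈ V x) →
    ∃ (ι : Type u) (U : ι → Opens X), adm W U ∧ ∀ i, ∃ x, U i ≤ V x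

/-- The Čech exactness hypothesis of Cartan's criterion. -/
def CoverSystem.Acyclic (𝒞 : CoverSystem X) (F : TopCat.Presheaf AddCommGrpCat.{u} X) : Prop :=
  ∀ ⦃W : Opens X⦄ ⦃ι : Type u⦄ ⦃U : ι → Opens X⦄, 𝒞.adm W U → ∀ p, CechExact U F p

lemma CoverSystem.surjective (𝒞 : CoverSystem X)
    {S : ShortComplex (AbSheaf X)} (hS : S.ShortExact)
    (hF : 𝒞.Acyclic S.X₁.obj) {W : Opens X} (hW : 𝒞.B W) :
    Function.Surjective (S.g.hom.app (op W)) := by
  intro q
  choose V hV hxV s hs using fun x : W => exists_local_lift hS q x.1 x.2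
  obtain ⟨ι, U, hU, hsub⟩ := 𝒞.refine hW V hxV
  refine (interLeftExact hS U).exists_lift_of_cechExact (hF hU 0) W (𝒞.le hU) (𝒞.cover hU) q
    fun i => ?_
  obtain ⟨x, hx⟩ := hsub i
  exact ⟨res S.X₂.obj hx (s x), by rw [res_naturality, hs, res_res]⟩

/-- Cartan's criterion. -/
theorem CoverSystem.hVanish (𝒞 : CoverSystem X) (F : AbSheaf X)
    (hF : 𝒞.Acyclic F.obj) (n : ℕ) {W : Opens X} (hW : 𝒞.B W) : HVanish F (n + 1) W := by
  induction n generalizing F W with
  | zero => exact hVanish_one (injPres_shortExact F) (𝒞.surjective (injPres_shortExact F) hF hW)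
  | succ n ih =>
    refine hVanish_succ (injPres_shortExact F) (ih _ (fun W' ι U hU p => ?_) hW)
    exact InterExact.cechExact_quotient
      ⟨interLeftExact (injPres_shortExact F) U,
        fun x => 𝒞.surjective (injPres_shortExact F) hF (𝒞.inter_mem hU x)⟩
      (cechExact_of_injective _ U p) (hF hU (p + 1))

end Groth.CohBase
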