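import Groth.Agent.SiteCohomology.AcyclicResolution

/-!
# The natural class map from cocycles of a resolution to `Ext`
-/

universe w v u

open CategoryTheory Limits

namespace Groth.CohBase

open CategoryTheory.Abelian (Ext)
open Groth.SiteCohomology.AcyclicRes (IsResolution cocyc cobound 
  mem_cocyc mem_cobound_succ)

variable (C : Type u) [Category.{v} C] [Abelian C]

/-- An object together with a resolution. -/
structure Res where
  /-- The resolved object. -/
  Y : C
  /-- The terms. -/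
  A : ℕ → C
  /-- The differentials. -/
  d : ∀ n, A n ⟶ A (n + 1)
  /-- The augmentation. -/
  ι : Y ⟶ A 0
  isRes : IsResolution A d ι

namespace Res

variable {C}

instance (R : Res C) : Mono R.ι := R.isRes.mono

/-- The tail of a resolution, resolving the first cokernel. -/
noncomputable def tail (R : Res C) : Res C where
  Y := cokernel R.ι
  A n := R.A (n + 1)
  d n := R.d (n + 1)
  ι := cokernel.desc R.ι (R.d 0) R.isRes.zero₀
  isRes :=
    have h := R.isRes
    { mono := (ShortComplex.mk R.ι (R.d 0) h.zero₀).exact_iff_mono_cokernel_desc.1 h.exact₀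
      zero₀ := by rw [← cancel_epi (cokernel.π R.ι), cokernel.π_desc_assoc, h.zero, comp_zero]
      exact₀ := by
        let φ : ShortComplex.mk (R.d 0) (R.d 1) (h.zero 0) ⟶
            ShortComplex.mk (cokernel.desc R.ι (R.d 0) h.zero₀) (R.d 1)
              (by rw [← cancel_epi (cokernel.π R.ι), cokernel.π_desc_assoc, h.zero, comp_zero]) :=
          { τ₁ := cokernel.π R.ι, τ₂ := 𝟙 _, τ₃ := 𝟙 _ }
        have : Epi φ.τ₁ := inferInstanceAs (Epi (cokernel.π R.ι))
        exact (ShortComplex.exact_iff_of_epi_of_isIso_of_mono φ).1 (h.exact 0)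
      zero := fun n => h.zero (n + 1)
      exact := fun n => h.exact (n + 1) }

lemma shortExact (R : Res C) :
    (ShortComplex.mk R.ι (cokernel.π R.ι) (cokernel.condition R.ι)).ShortExact :=
  ShortComplex.ShortExact.mk'
    (ShortComplex.exact_of_g_is_cokernel _ (cokernelIsCokernel R.ι)) inferInstance inferInstance

/-- Maps of resolved objects with compatible maps of the resolutions. -/
structure Hom (R R' : Res C) where
  /-- The map of objects. -/
  f₀ : R.Y ⟶ R'.Y
  /-- The maps of terms. -/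
  f : ∀ n, R.A n ⟶ R'.A n
  comm₀ : R.ι ≫ f 0 = f₀ ≫ R'.ι
  comm : ∀ n, R.d n ≫ f (n + 1) = f n ≫ R'.d n

/-- The induced map of tails. -/
noncomputable def Hom.tail {R R' : Res C} (φ : Hom R R') : Hom R.tail R'.tail where
  f₀ := cokernel.map R.ι R'.ι φ.f₀ (φ.f 0) φ.comm₀
  f n := φ.f (n + 1)
  comm₀ := by
    refine (cancel_epi (cokernel.π R.ι)).1 ?_
    change cokernel.π R.ι ≫ cokernel.desc R.ι (R.d 0) R.isRes.zero₀ ≫ φ.f 1 =
      cokernel.π R.ι ≫ cokernel.map R.ι R'.ι φ.f₀ (φ.f 0) φ.comm₀ ≫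
        cokernel.desc R'.ι (R'.d 0) R'.isRes.zero₀
    rw [cokernel.π_desc_assoc, cokernel.π_desc_assoc, Category.assoc, cokernel.π_desc, φ.comm]
  comm n := φ.comm (n + 1)

variable (X : C)

/-- Cocycles in degree zero are maps to the resolved object. -/
noncomputable def lift₀ (R : Res C) : cocyc X R.A R.d 0 →+ (X ⟶ R.Y) :=
  haveI : Mono (ShortComplex.mk R.ι (R.d 0) R.isRes.zero₀).f := R.isRes.mono
  AddMonoidHom.mk' (fun z => R.isRes.exact₀.lift z.1 z.2) (fun a b => by
    refine (cancel_mono R.ι).1 ((R.isRes.exact₀.lift_f _ _).trans ?_)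
    rw [Preadditive.add_comp]
    exact (congrArg₂ (· + ·) (R.isRes.exact₀.lift_f _ _) (R.isRes.exact₀.lift_f _ _)).symm)

lemma lift₀_ι (R : Res C) (z : cocyc X R.A R.d 0) : lift₀ X R z ≫ R.ι = z.1 := by
  have : Mono (ShortComplex.mk R.ι (R.d 0) R.isRes.zero₀).f := R.isRes.mono
  exact R.isRes.exact₀.lift_f _ _

variable [HasExt.{w} C]

/-- The class of a cocycle. -/
noncomputable def cls : ∀ (p : ℕ) (R : Res C), cocyc X R.A R.d p →+ Ext X R.Y p
  | 0, R => (Ext.addEquiv₀.symm.toAddMonoidHom).comp (lift₀ X R)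
  | p + 1, R => (R.shortExact.extClass.postcomp X rfl).comp (cls p R.tail)

lemma cls_zero (R : Res C) (z : cocyc X R.A R.d 0) :
    cls X 0 R z = Ext.mk₀ (lift₀ X R z) := rfl

lemma cls_succ (p : ℕ) (R : Res C) (z : cocyc X R.A R.d (p + 1)) :
    cls X (p + 1) R z = (cls X p R.tail z).comp R.shortExact.extClass rfl := rfl

lemma cls_zero_comp_ι (R : Res C) (z : cocyc X R.A R.d 0) :
    (cls X 0 R z).comp (Ext.mk₀ R.ι) (add_zero 0) = Ext.mk₀ z.1 := by
  rw [cls_zero, Ext.mk₀_comp_mk₀, lift₀_ι]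

/-- The class map is natural in the resolution. -/
lemma cls_map : ∀ (p : ℕ) {R R' : Res C} (φ : Hom R R') (z : cocyc X R.A R.d p)
    (z' : cocyc X R'.A R'.d p), z'.1 = z.1 ≫ φ.f p →
    cls X p R' z' = (cls X p R z).comp (Ext.mk₀ φ.f₀) (add_zero p)
  | 0, R, R', φ, z, z', h => by
    rw [cls_zero, cls_zero, Ext.mk₀_comp_mk₀]
    congr 1
    rw [← cancel_mono R'.ι, lift₀_ι, h, Category.assoc, ← φ.comm₀, ← Category.assoc, lift₀_ι]
  | p + 1, R, R', φ, z, z', h => by
    rw [cls_succ, cls_succ, cls_map p φ.tail z z' h]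
    let ψ : ShortComplex.mk R.ι (cokernel.π R.ι) (cokernel.condition R.ι) ⟶
        ShortComplex.mk R'.ι (cokernel.π R'.ι) (cokernel.condition R'.ι) :=
      { τ₁ := φ.f₀
        τ₂ := φ.f 0
        τ₃ := cokernel.map R.ι R'.ι φ.f₀ (φ.f 0) φ.comm₀
        comm₁₂ := φ.comm₀.symm
        comm₂₃ := (cokernel.π_desc _ _ _).symm }
    have hn := ShortComplex.ShortExact.extClass_naturality R.shortExact R'.shortExact ψ
    refine (Ext.comp_assoc_of_second_deg_zero (cls X p R.tail z) (Ext.mk₀ φ.tail.f₀)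
      R'.shortExact.extClass _).trans ?_
    change Ext.comp (cls X p R.tail z) (Ext.comp (Ext.mk₀ ψ.τ₃) R'.shortExact.extClass (zero_add 1))
      (rfl : p + 1 = p + 1) = _
    rw [← hn]
    exact (Ext.comp_assoc_of_third_deg_zero _ _ _ _).symm

/-- The class map is natural in the source. -/
lemma cls_precomp {X X' : C} (a : X' ⟶ X) : ∀ (p : ℕ) (R : Res C) (z : cocyc X R.A R.d p)
    (z' : cocyc X' R.A R.d p), z'.1 = a ≫ z.1 →
    cls X' p R z' = (Ext.mk₀ a).comp (cls X p R z) (zero_add p)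
  | 0, R, z, z', h => by
    rw [cls_zero, cls_zero, Ext.mk₀_comp_mk₀]
    congr 1
    rw [← cancel_mono R.ι, lift₀_ι, h, Category.assoc, lift₀_ι]
  | p + 1, R, z, z', h => by
    rw [cls_succ, cls_succ, cls_precomp a p R.tail z z' h]
    exact Ext.comp_assoc _ _ _ _ rfl (by omega)

/-- Classes of coboundaries vanish. -/
lemma cls_eq_zero_of_cobound : ∀ (p : ℕ) (R : Res C) (z : cocyc X R.A R.d p),
    z.1 ∈ cobound X R.A R.d p → cls X p R z = 0
  | 0, R, z, h => by
    have : z.1 = 0 := h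
    rw [cls_zero]
    refine (Ext.mk₀_eq_zero_iff _).2 ?_
    rw [← cancel_mono R.ι, lift₀_ι, this, zero_comp]
  | 1, R, z, h => by
    obtain ⟨g, hg⟩ := h
    have hg : g ≫ R.d 0 = z.1 := hg
    have e : lift₀ X R.tail z = g ≫ cokernel.π R.ι := by
      refine (cancel_mono R.tail.ι).1 ?_
      refine (lift₀_ι X R.tail z).trans (hg.symm.trans ?_)
      exact (congrArg (g ≫ ·) (cokernel.π_desc R.ι (R.d 0) R.isRes.zero₀).symm).trans
        (Category.assoc _ _ _).symm
    rw [cls_succ]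
    erw [cls_zero, e]
    change (Ext.mk₀ (g ≫ cokernel.π R.ι)).comp R.shortExact.extClass (zero_add 1) = 0
    rw [← Ext.mk₀_comp_mk₀, Ext.comp_assoc_of_second_deg_zero, R.shortExact.comp_extClass,
      Ext.comp_zero]
  | p + 2, R, z, h => by
    rw [cls_succ, cls_eq_zero_of_cobound (p + 1) R.tail z h]
    exact Ext.zero_comp ..

/-- The class map is onto and its kernel consists of coboundaries, for acyclic terms. -/
theorem cls_spec : ∀ (p : ℕ) (R : Res C),
    (∀ n q : ℕ, n + q + 1 ≤ p → Subsingleton (Ext X (R.A n) (q + 1))) →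
    Function.Surjective (cls X p R) ∧
      ∀ z, cls X p R z = 0 → z.1 ∈ cobound X R.A R.d p
  | 0, R, _ => by
    refine ⟨fun e => ?_, fun z hz => ?_⟩
    · obtain ⟨f, rfl⟩ := (Ext.mk₀_bijective X R.Y).2 e
      refine ⟨⟨f ≫ R.ι, by rw [mem_cocyc, Category.assoc, R.isRes.zero₀, comp_zero]⟩, ?_⟩
      rw [cls_zero]
      congr 1
      rw [← cancel_mono R.ι, lift₀_ι]
    · change z.1 = 0
      rw [← lift₀_ι X R z, (Ext.mk₀_eq_zero_iff _).1 hz, zero_comp]
  | 1, R, hA => by
    have := hA 0 0 (by omega)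
    obtain ⟨hs, -⟩ := cls_spec 0 R.tail (fun n q h => by omega)
    refine ⟨fun e => ?_, fun z hz => ?_⟩
    · obtain ⟨x, rfl⟩ := Ext.covariant_sequence_exact₁ X R.shortExact e
        (Subsingleton.elim (α := Ext X (R.A 0) 1) _ _) (n₀ := 0) rfl
      obtain ⟨z, rfl⟩ := hs x
      exact ⟨z, rfl⟩
    · obtain ⟨x, hx⟩ := Ext.covariant_sequence_exact₃ X R.shortExact (cls X 0 R.tail z) rfl hz
      obtain ⟨g, rfl⟩ := (Ext.mk₀_bijective _ _).2 x
      refine mem_cobound_succ X R.A R.d |>.2 ⟨g, ?_⟩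
      have hl := cls_zero_comp_ι X R.tail z
      rw [← hx, Ext.mk₀_comp_mk₀] at hl
      change (Ext.mk₀ (g ≫ cokernel.π R.ι)).comp (Ext.mk₀ R.tail.ι) (add_zero 0) = _ at hl
      replace hl := (Ext.mk₀_comp_mk₀ (g ≫ cokernel.π R.ι) R.tail.ι).symm.trans hl
      refine Eq.trans ?_ ((Ext.mk₀_bijective _ _).1 hl)
      exact (congrArg (g ≫ ·) (cokernel.π_desc R.ι (R.d 0) R.isRes.zero₀).symm).trans
        (Category.assoc _ _ _).symm
  | p + 2, R, hA => by
    obtain ⟨hs, hk⟩ := cls_spec (p + 1) R.tail (fun n q h => hA (n + 1) q (by omega))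
    refine ⟨fun e => ?_, fun z hz => ?_⟩
    · have := hA 0 (p + 1) (by omega)
      obtain ⟨x, rfl⟩ := Ext.covariant_sequence_exact₁ X R.shortExact e
        (Subsingleton.elim (α := Ext X (R.A 0) (p + 2)) _ _) (n₀ := p + 1) rfl
      obtain ⟨z, rfl⟩ := hs x
      exact ⟨z, rfl⟩
    · refine hk z ?_
      obtain ⟨x, hx⟩ := Ext.covariant_sequence_exact₃ X R.shortExact (cls X (p + 1) R.tail z) rfl hz
      have := hA 0 p (by omega)
      rw [← hx, Subsingleton.elim (α := Ext X (R.A 0) (p + 1)) x 0, Ext.zero_comp]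
      rfl

end Res

end Groth.CohBase
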