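import Groth.Agent.CohBase.ResClass
import Groth.Agent.CohBase.Modules
import Groth.Agent.QCohMod.Coherent
import Groth.Agent.SiteCohomology.Flasque
import Groth.Agent.SiteCohomology.SchemeModules
import Groth.Agent.SiteCohomology.ModulesInjective
import Mathlib.CategoryTheory.Abelian.Injective.Resolution

/-!
# Cohomology through the sections of a flasque resolution
-/

universe u

open CategoryTheory Limits AlgebraicGeometry TopologicalSpace Opposite
open CategoryTheory.Abelian (Ext)
open Groth.QCohMod (resFun resFun_resFun res_app appₗ)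

namespace Groth.CohBase

namespace Res

universe v₁ v₂ u₁ u₂

/-- The image of a resolution under an exact functor. -/
noncomputable def mapExact {C : Type u₁} [Category.{v₁} C] [Abelian C] {D : Type u₂}
    [Category.{v₂} D] [Abelian D] (F : C ⥤ D) [F.Additive] [PreservesFiniteLimits F]
    [PreservesFiniteColimits F] (R : Res C) : Res D where
  Y := F.obj R.Y
  A n := F.obj (R.A n)
  d n := F.map (R.d n)
  ι := F.map R.ι
  isRes :=
    { mono := inferInstance
      zero₀ := by rw [← F.map_comp, R.isRes.zero₀, F.map_zero]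
      exact₀ := R.isRes.exact₀.map F
      zero := fun n => by rw [← F.map_comp, R.isRes.zero, F.map_zero]
      exact := fun n => (R.isRes.exact n).map F }

/-- The image of a map of resolutions. -/
noncomputable def Hom.mapExact {C : Type u₁} [Category.{v₁} C] [Abelian C] {D : Type u₂}
    [Category.{v₂} D] [Abelian D] (F : C ⥤ D) [F.Additive] [PreservesFiniteLimits F]
    [PreservesFiniteColimits F] {R R' : Res C} (φ : Hom R R') :
    Hom (R.mapExact F) (R'.mapExact F) where
  f₀ := F.map φ.f₀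
  f n := F.map (φ.f n)
  comm₀ := by
    change F.map _ ≫ F.map _ = F.map _ ≫ F.map _
    rw [← F.map_comp, ← F.map_comp, φ.comm₀]
  comm n := by
    change F.map _ ≫ F.map _ = F.map _ ≫ F.map _
    rw [← F.map_comp, ← F.map_comp, φ.comm]

/-- The resolution underlying an injective resolution. -/
noncomputable def ofInjective {C : Type u₁} [Category.{v₁} C] [Abelian C] {Z : C}
    (I : InjectiveResolution Z) : Res C where
  Y := Z
  A n := I.cocomplex.X n
  d n := I.cocomplex.d n (n + 1)
  ι := resι I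
  isRes :=
    { mono := inferInstanceAs (Mono (I.ι.f 0))
      zero₀ := resι_d I
      exact₀ := resι_exact I
      zero := fun n => I.cocomplex.d_comp_d _ _ _
      exact := fun n => I.exact_succ n }

end Res

variable {X : Scheme.{u}}

/-- All the terms of a resolution are flasque. -/
def Res.Flasque (R : Res X.Modules) : Prop :=
  ∀ (n : ℕ) (U V : X.Opens) (h : V ≤ U), Function.Surjective (QCohMod.res (R.A n) h)

lemma flasque_ofInjective {M : X.Modules} (I : InjectiveResolution M) :
    (Res.ofInjective I).Flasque := fun n U V h =>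
  haveI : Injective (C := SheafOfModules X.ringCatSheaf) (I.cocomplex.X n) := I.injective n
  haveI : Mono (homOfLE h) := ⟨fun _ _ _ => Subsingleton.elim _ _⟩
  Groth.SiteCohomology.surjective_map_of_injective_module X.ringCatSheaf (I.cocomplex.X n)
    (homOfLE h)

/-- Every module has a flasque resolution. -/
theorem exists_flasque_res (M : X.Modules) : ∃ R : Res X.Modules, R.Y = M ∧ R.Flasque :=
  ⟨Res.ofInjective (injectiveResolution M), rfl, flasque_ofInjective _⟩

namespace Res

variable (R : Res X.Modules)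

/-- Cocycles of the sections of a resolution. -/
noncomputable def Cyc (W : X.Opens) (p : ℕ) : Submodule Γ(X, W) Γ(R.A p, W) :=
  LinearMap.ker (appₗ (R.d p) W)

/-- Coboundaries of the sections of a resolution. -/
noncomputable def Bd (W : X.Opens) : ∀ p, Submodule Γ(X, W) Γ(R.A p, W)
  | 0 => ⊥
  | p + 1 => LinearMap.range (appₗ (R.d p) W)

variable {R}

lemma mem_cyc {W : X.Opens} {p : ℕ} {z : Γ(R.A p, W)} :
    z ∈ R.Cyc W p ↔ (R.d p).app W z = 0 := Iff.rfl

lemma mem_bd_succ {W : X.Opens} {p : ℕ} {z : Γ(R.A (p + 1), W)} :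
    z ∈ R.Bd W (p + 1) ↔ ∃ w, (R.d p).app W w = z := Iff.rfl

lemma mem_bd_zero {W : X.Opens} {z : Γ(R.A 0, W)} : z ∈ R.Bd W 0 ↔ z = 0 :=
  Submodule.mem_bot _

lemma d_d_app (p : ℕ) (W : X.Opens) (w : Γ(R.A p, W)) :
    (R.d (p + 1)).app W ((R.d p).app W w) = 0 :=
  congr($(congrArg (fun γ : R.A p ⟶ R.A (p + 1 + 1) => γ.app W) (R.isRes.zero p)) w)

lemma bd_le_cyc (W : X.Opens) : ∀ p, R.Bd W p ≤ R.Cyc W p
  | 0 => bot_le
  | p + 1 => by rintro _ ⟨w, rfl⟩; exact d_d_app p W w

lemma res_mem_cyc {W W' : X.Opens} (h : W' ≤ W) {p : ℕ} {z : Γ(R.A p, W)} (hz : z ∈ R.Cyc W p) :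
    QCohMod.res (R.A p) h z ∈ R.Cyc W' p := by
  rw [mem_cyc, ← res_app, mem_cyc.1 hz, map_zero]

lemma res_mem_bd {W W' : X.Opens} (h : W' ≤ W) : ∀ {p : ℕ} {z : Γ(R.A p, W)},
    z ∈ R.Bd W p → QCohMod.res (R.A p) h z ∈ R.Bd W' p
  | 0, z, hz => by rw [mem_bd_zero.1 hz, map_zero]; exact zero_mem _
  | p + 1, z, hz => by
    obtain ⟨w, rfl⟩ := hz
    exact ⟨QCohMod.res (R.A p) h w, (res_app (R.d p) h w).symm⟩

/-- Coboundaries extend to larger opens. -/
lemma exists_extend_bd (hR : R.Flasque) {W W' : X.Opens} (h : W' ≤ W) :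
    ∀ {p : ℕ} {z : Γ(R.A p, W')}, z ∈ R.Bd W' p → ∃ z' ∈ R.Bd W p, QCohMod.res (R.A p) h z' = z
  | 0, z, hz => ⟨0, zero_mem _, by rw [map_zero, mem_bd_zero.1 hz]⟩
  | p + 1, z, hz => by
    obtain ⟨w, rfl⟩ := hz
    obtain ⟨w', rfl⟩ := hR p W W' h w
    exact ⟨_, ⟨w', rfl⟩, res_app (R.d p) h w'⟩

lemma ι_app_injective (W : X.Opens) : Function.Injective (R.ι.app W) :=
  sections_injective (X := X.toTopCat) (shortExact_toAb R.shortExact) W

/-- Cocycles of degree zero are sections of the resolved module. -/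
lemma mem_cyc_zero_iff {W : X.Opens} {z : Γ(R.A 0, W)} :
    z ∈ R.Cyc W 0 ↔ ∃ m, R.ι.app W m = z := by
  constructor
  · intro hz
    exact TopCat.Sheaf.sections_exact_of_left_exact (X := X.toTopCat)
      (R.isRes.exact₀.map (toAbF X))
      (inferInstanceAs (Mono ((toAbF X).map R.ι))) z hz
  · rintro ⟨m, rfl⟩
    exact congr($(congrArg (fun γ : R.Y ⟶ R.A 1 => γ.app W) R.isRes.zero₀) m)

/-- The resolution of the underlying abelian sheaf. -/
noncomputable abbrev ab (R : Res X.Modules) : Res (AbSheaf X.toTopCat) := R.mapExact (toAbF X)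

lemma hVanish_terms (hR : R.Flasque) (n q : ℕ) (W : X.Opens) :
    HVanish (X := X.toTopCat) (abSheaf (R.A n)) (q + 1) W :=
  haveI : TopCat.Sheaf.IsFlasque (X := X.toTopCat) (abSheaf (R.A n)) :=
    (Groth.SiteCohomology.isFlasque_iff_surjective (X := X.toTopCat) (abSheaf (R.A n))).2
      fun U V f => hR n U V f.le
  Groth.SiteCohomology.subsingleton_HU_succ_of_flasque (X := X.toTopCat) (abSheaf (R.A n)) W q

/-- A section, as a map out of the free sheaf. -/
noncomputable def toFree (R : Res X.Modules) (W : X.Opens) (p : ℕ) :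
    Γ(R.A p, W) ≃+ (freeOpen (X := X.toTopCat) W ⟶ R.ab.A p) :=
  (homFreeOpen (X := X.toTopCat) W (R.ab.A p)).symm

lemma toFree_comp_d (W : X.Opens) (p : ℕ) (z : Γ(R.A p, W)) :
    toFree R W p z ≫ R.ab.d p = toFree R W (p + 1) ((R.d p).app W z) := by
  apply (homFreeOpen (X := X.toTopCat) W (R.ab.A (p + 1))).injective
  rw [homFreeOpen_comp, toFree, toFree]
  erw [AddEquiv.apply_symm_apply, AddEquiv.apply_symm_apply]
  rfl

/-- The cohomology class of a cocycle of sections. -/
noncomputable def clsH (R : Res X.Modules) (W : X.Opens) (p : ℕ) :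
    R.Cyc W p →+ (Sheaf.H' (abSheaf R.Y) p W : Type u) :=
  (Res.cls (freeOpen (X := X.toTopCat) W) p R.ab).comp
    (AddMonoidHom.mk' (fun z => ⟨toFree R W p z.1, by
      change toFree R W p z.1 ≫ R.ab.d p = 0
      rw [toFree_comp_d, mem_cyc.1 z.2, map_zero]⟩)
      (fun a b => Subtype.ext (map_add (toFree R W p) _ _)))

lemma clsH_surjective (hR : R.Flasque) (W : X.Opens) (p : ℕ) :
    Function.Surjective (clsH R W p) := by
  intro e
  obtain ⟨c, hc⟩ := (Res.cls_spec (freeOpen (X := X.toTopCat) W) p R.ab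
    (fun n q _ => hVanish_terms hR n q W)).1 e
  refine ⟨⟨(toFree R W p).symm c.1, ?_⟩, ?_⟩
  · rw [mem_cyc]
    apply (toFree R W (p + 1)).injective
    rw [map_zero, ← toFree_comp_d, AddEquiv.apply_symm_apply]
    exact c.2
  · refine Eq.trans ?_ hc
    exact congrArg (Res.cls (freeOpen (X := X.toTopCat) W) p R.ab)
      (Subtype.ext ((toFree R W p).apply_symm_apply c.1))

lemma clsH_eq_zero_iff (hR : R.Flasque) (W : X.Opens) :
    ∀ (p : ℕ) (z : R.Cyc W p), clsH R W p z = 0 ↔ z.1 ∈ R.Bd W p := by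
  intro p z
  have hs := (Res.cls_spec (freeOpen (X := X.toTopCat) W) p R.ab
    (fun n q _ => hVanish_terms hR n q W)).2
  cases p with
  | zero =>
    rw [mem_bd_zero]
    refine ⟨fun h => (toFree R W 0).injective ?_, fun h => ?_⟩
    · rw [map_zero]; exact AddSubgroup.mem_bot.1 (hs _ h)
    · have hz : z = 0 := Subtype.ext h
      rw [hz, map_zero]
  | succ p =>
    constructor
    · intro h
      obtain ⟨g, hg⟩ := hs _ h
      refine ⟨(toFree R W p).symm g, (toFree R W (p + 1)).injective ?_⟩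
      refine (toFree_comp_d W p _).symm.trans ?_
      rw [AddEquiv.apply_symm_apply]
      exact hg
    · rintro ⟨w, hw⟩
      refine Res.cls_eq_zero_of_cobound _ _ R.ab _
        ((Groth.SiteCohomology.AcyclicRes.mem_cobound_succ _ _ _).2 ⟨toFree R W p w, ?_⟩)
      exact (toFree_comp_d W p w).trans (congrArg (toFree R W (p + 1)) hw)

/-- Cocycles are coboundaries where the cohomology vanishes. -/
lemma bd_of_cyc (hR : R.Flasque) {W : X.Opens} {p : ℕ}
    (h : HVanish (X := X.toTopCat) (abSheaf R.Y) p W) {z : Γ(R.A p, W)} (hz : z ∈ R.Cyc W p) :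
    z ∈ R.Bd W p :=
  (clsH_eq_zero_iff hR W p ⟨z, hz⟩).1 (h.elim _ _)

/-- Naturality of the cohomology class. -/
lemma clsH_map {R R' : Res X.Modules} (φ : Res.Hom R R') (W : X.Opens) (p : ℕ) (z : R.Cyc W p)
    (z' : R'.Cyc W p) (h : z'.1 = (φ.f p).app W z.1) :
    clsH R' W p z' =
      Ext.comp (clsH R W p z) (Ext.mk₀ ((toAbF X).map φ.f₀)) (add_zero p) := by
  refine Res.cls_map _ p (φ.mapExact (toAbF X)) _ _ ?_
  change toFree R' W p z'.1 = toFree R W p z.1 ≫ (toAbF X).map (φ.f p)
  apply (homFreeOpen (X := X.toTopCat) W (R'.ab.A p)).injective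
  refine Eq.trans ?_ (homFreeOpen_comp (X := X.toTopCat) W ((toAbF X).map (φ.f p))
    (toFree R W p z.1)).symm
  rw [toFree, toFree]
  erw [AddEquiv.apply_symm_apply, AddEquiv.apply_symm_apply]
  rw [h]
  rfl

end Res

end Groth.CohBase
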