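import Groth.Agent.CohBase.ExchangeGeom
import Groth.Agent.CohFin.Proper
import Groth.Agent.PicAux.TensorLift

/-!
# Exchange property statements for a flat coherent module on a proper scheme over an affine base
-/

universe u

open CategoryTheory Limits AlgebraicGeometry TopologicalSpace Opposite
open scoped TensorProduct

namespace Groth.CohBase

variable (A : Type u) [CommRing A] [IsNoetherianRing A] (X : Scheme.{u})
  [X.Over (Spec (CommRingCat.of A))] [IsProper (X ↘ Spec (CommRingCat.of A))] (F : X.Modules)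
  (hF : Coh.IsCoh F) (hfl : FlatMod.IsFlatOver (X ↘ Spec (CommRingCat.of A)) F)
  (hP : CohFin.ProjFinite.{u})

/-- The finite free complex of a flat coherent module on a proper scheme. -/
def IsExchangeModel (L : CochainComplex (ModuleCat.{u} A) ℤ) : Prop :=
  (∀ i, Module.Finite A (L.X i) ∧ Module.Free A (L.X i)) ∧ (∃ b : ℤ, ∀ i, b < i → IsZero (L.X i)) ∧
    (∀ j : ℤ, j < 0 → ∀ M : ModuleCat.{u} A, IsZero (CohIII.T L j M)) ∧
    (∀ p : ℕ, Nonempty (CohIII.TFun L (p : ℤ) ⋙ forget₂ (ModuleCat.{u} A) AddCommGrpCat.{u} ≅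
      CohIII.tensorAFunctor A F ⋙ CohIII.HAb X p)) ∧
    Nonempty (CohIII.TFun L ((0 : ℕ) : ℤ) ≅
      CohIII.tensorAFunctor A F ⋙ CohIII.globalSectionsA A)

include hF hfl hP in
theorem exists_isExchangeModel : ∃ L, IsExchangeModel A X F L := by
  have := CohFin.compactSpace_of_proper (X ↘ Spec (CommRingCat.of A))
  have := CohFin.isSeparated_of_proper (X ↘ Spec (CommRingCat.of A))
  have := hF.1
  exact exists_exchange_model A F hfl fun p =>
    CohFin.hFin_of_proper hP p X (X ↘ Spec (CommRingCat.of A)) F hF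

include hF hfl hP in
/-- S2414. -/
theorem exists_complex_tensorA :
    ∃ L : CochainComplex (ModuleCat.{u} A) ℤ,
      (∀ i, Module.Finite A (L.X i) ∧ Module.Free A (L.X i)) ∧ (∃ b : ℤ, ∀ i, b < i → IsZero (L.X i)) ∧
      ∀ (M : Type u) [AddCommGroup M] [Module A M] (p : ℕ),
        Nonempty (Coh.HH X (CohIII.tensorA A F M) p ≃+ CohIII.T L (p : ℤ) (ModuleCat.of A M)) := by
  obtain ⟨L, hL, hb, -, hT, -⟩ := exists_isExchangeModel A X F hF hfl hP
  refine ⟨L, hL, hb, fun M _ _ p => ?_⟩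
  obtain ⟨e⟩ := hT p
  obtain ⟨c, -⟩ := Groth.PicAux.exists_braiding F (pullTilde (X := X) (ModuleCat.of A M))
  exact ⟨((CohIII.HAb X p).mapIso c).addCommGroupIsoToAddEquiv.trans
    (e.app (ModuleCat.of A M)).addCommGroupIsoToAddEquiv.symm⟩

include hF hfl hP in
/-- S2447. -/
theorem preservesEpi_iff_surjective [IsLocalRing A] (p : ℕ) :
    (CohIII.tensorAFunctor A F ⋙ CohIII.HAb X p).PreservesEpimorphisms ↔
      Function.Surjective ((CohIII.tensorAFunctor A F ⋙ CohIII.HAb X p).map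
        (ModuleCat.ofHom (Algebra.linearMap A (IsLocalRing.ResidueField A)))).hom := by
  obtain ⟨L, hL, -, -, hT, -⟩ := exists_isExchangeModel A X F hF hfl hP
  have : ∀ i, Module.Finite A (L.X i) := fun i => (hL i).1
  have : ∀ i, Module.Flat A (L.X i) := fun i => have := (hL i).2; inferInstance
  obtain ⟨e⟩ := hT p
  rw [← Functor.PreservesEpimorphisms.iso_iff e]
  have h2 : (CohIII.TFun L (p : ℤ) ⋙ forget₂ (ModuleCat.{u} A) AddCommGrpCat.{u}).PreservesEpimorphisms ↔
      (CohIII.TFun L (p : ℤ)).PreservesEpimorphisms :=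
    ⟨fun _ => Functor.preservesEpimorphisms_of_preserves_of_reflects _
        (forget₂ (ModuleCat.{u} A) AddCommGrpCat.{u}),
      fun _ => inferInstance⟩
  rw [h2, CxExch.epi_iff_surjective]
  refine ((ModuleCat.epi_iff_surjective _).symm.trans ?_).trans
    (AddCommGrpCat.epi_iff_surjective _)
  refine ((forget₂ (ModuleCat.{u} A) AddCommGrpCat.{u}).epi_map_iff_epi _).symm.trans ?_
  exact (MorphismProperty.epimorphisms AddCommGrpCat.{u}).arrow_mk_iso_iff
      (Arrow.isoMk (e.app _) (e.app _) (e.hom.naturality _).symm)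

include hF hfl hP in
/-- S2436. -/
theorem exists_corep_globalSections :
    ∃ Q : ModuleCat.{u} A, Module.Finite A Q ∧
      Nonempty (CohIII.tensorAFunctor A F ⋙ CohIII.globalSectionsA A ≅
        (linearCoyoneda A (ModuleCat.{u} A)).obj (op Q)) := by
  obtain ⟨L, hL, -, hneg, -, ⟨e₀⟩⟩ := exists_isExchangeModel A X F hF hfl hP
  have : ∀ i, Module.Finite A (L.X i) := fun i => (hL i).1
  have : ∀ i, Module.Flat A (L.X i) := fun i => have := (hL i).2; inferInstance
  obtain ⟨Q, hQ, ⟨e⟩⟩ := CxExch.exists_corep L (-1)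
    (CxExch.preservesEpi_of_isZero L (-1) (hneg (-1) (by norm_num)))
  exact ⟨Q, hQ, ⟨e₀.symm ≪≫ e⟩⟩

include hF hfl hP in
/-- S2437. -/
theorem preservesEpi_iff_corep (p : ℕ) :
    (CohIII.tensorAFunctor A F ⋙ CohIII.HAb X p).PreservesEpimorphisms ↔
      ∃ Q : ModuleCat.{u} A, Nonempty (CohIII.tensorAFunctor A F ⋙ CohIII.HAb X (p + 1) ≅
        (linearCoyoneda A (ModuleCat.{u} A)).obj (op Q) ⋙ forget₂ (ModuleCat.{u} A) AddCommGrpCat.{u}) := by
  obtain ⟨L, hL, -, -, hT, -⟩ := exists_isExchangeModel A X F hF hfl hP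
  have : ∀ i, Module.Finite A (L.X i) := fun i => (hL i).1
  have : ∀ i, Module.Flat A (L.X i) := fun i => have := (hL i).2; inferInstance
  obtain ⟨e⟩ := hT p
  obtain ⟨e'⟩ := hT (p + 1)
  rw [← Functor.PreservesEpimorphisms.iso_iff e]
  constructor
  · intro _
    obtain ⟨Q, -, ⟨c⟩⟩ := CxExch.exists_corep L (p : ℤ)
      (Functor.preservesEpimorphisms_of_preserves_of_reflects _
        (forget₂ (ModuleCat.{u} A) AddCommGrpCat.{u}))
    exact ⟨Q, ⟨e'.symm ≪≫ Functor.isoWhiskerRight c _⟩⟩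
  · rintro ⟨Q, ⟨c⟩⟩
    have := FlatCxBase.preservesMono_linearCoyoneda Q
    have : (CohIII.TFun L ((p : ℤ) + 1) ⋙
        forget₂ (ModuleCat.{u} A) AddCommGrpCat.{u}).PreservesMonomorphisms :=
      Functor.PreservesMonomorphisms.of_iso (c.symm ≪≫ e'.symm)
    have := CxExch.epi_of_preservesMono L (p : ℤ)
      (Functor.preservesMonomorphisms_of_preserves_of_reflects _
        (forget₂ (ModuleCat.{u} A) AddCommGrpCat.{u}))
    infer_instance

end Groth.CohBase
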