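import Groth.Agent.CohBase.SecLocal
import Groth.Agent.SiteCohomology.HigherDirectImage
import Mathlib.Algebra.Homology.ShortComplex.PreservesHomology

/-!
# Higher direct images through sections of a flasque resolution
-/

universe u

open CategoryTheory Limits AlgebraicGeometry TopologicalSpace Opposite
open CategoryTheory.Abelian (Ext)
open Groth.QCohMod (resFun resFun_resFun resFun_self res_app appₗ)

namespace Groth.CohBase

variable {X S : Scheme.{u}}

section Free

variable {T : TopCat.{u}}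

/-- The map of free sheaves induced by an inclusion of opens. -/
noncomputable abbrev freeMap {V U : Opens T} (h : V ≤ U) : freeOpen V ⟶ freeOpen U :=
  (yoneda ⋙ (Functor.whiskeringRight _ _ _).obj AddCommGrpCat.free ⋙
    presheafToSheaf (Opens.grothendieckTopology T) _).map (homOfLE h)

lemma homFreeOpen_freeMap {V U : Opens T} (h : V ≤ U) (F : AbSheaf T) (a : freeOpen U ⟶ F) :
    homFreeOpen V F (freeMap h ≫ a) = F.obj.map (homOfLE h).op (homFreeOpen U F a) := by
  have key : ∀ (W : Opens T) (b : freeOpen W ⟶ F), homFreeOpen W F b =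
      yonedaEquiv ((AddCommGrpCat.adj.{u}.whiskerRight (Opens T)ᵒᵖ).homEquiv (yoneda.obj W) F.obj
        ((sheafificationAdjunction (Opens.grothendieckTopology T) AddCommGrpCat.{u}).homEquiv _ F b)) :=
    fun _ _ => rfl
  rw [key, key, freeMap, Functor.comp_map, Functor.comp_map,
    Adjunction.homEquiv_naturality_left]
  refine (congrArg yonedaEquiv
    (Adjunction.homEquiv_naturality_left (AddCommGrpCat.adj.{u}.whiskerRight (Opens T)ᵒᵖ)
      (yoneda.map (homOfLE h)) _)).trans ?_
  exact (yonedaEquiv_naturality _ (homOfLE h)).symm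

end Free

namespace Res

/-- The cohomology class commutes with restriction. -/
lemma clsH_res (R : Res X.Modules) {V U : X.Opens} (h : V ≤ U) (p : ℕ) (z : R.Cyc U p) :
    clsH R V p ⟨QCohMod.res (R.A p) h z.1, res_mem_cyc h z.2⟩ =
      ((abSheaf R.Y).cohomologyPresheaf p).map (homOfLE h).op (clsH R U p z) := by
  refine Eq.trans ?_ (rfl : (Ext.mk₀ (freeMap (T := X.toTopCat) h)).comp (clsH R U p z) (zero_add p) = _)
  refine Res.cls_precomp (freeMap (T := X.toTopCat) h) p R.ab _ _ ?_
  change toFree R V p (QCohMod.res (R.A p) h z.1) = freeMap (T := X.toTopCat) h ≫ toFree R U p z.1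
  apply (homFreeOpen (X := X.toTopCat) V (R.ab.A p)).injective
  rw [homFreeOpen_freeMap, toFree, toFree]
  erw [AddEquiv.apply_symm_apply, AddEquiv.apply_symm_apply]
  rfl

end Res

/-! ### Sections of homology modules -/

lemma app_injective' {M N : S.Modules} (φ : M ⟶ N) [Mono φ] (V : S.Opens) :
    Function.Injective (φ.app V) :=
  CohTwo.app_injective φ V

/-- Left exactness of sections. -/
lemma exists_app_eq_of_kernel {A B C : S.Modules} (i : A ⟶ B) (g : B ⟶ C) [Mono i] (w : i ≫ g = 0)
    (hex : (ShortComplex.mk i g w).Exact) (V : S.Opens) (z : Γ(B, V)) (hz : g.app V z = 0) :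
    ∃ a, i.app V a = z :=
  TopCat.Sheaf.sections_exact_of_left_exact (X := S.toTopCat) (hex.map (toAbF S))
    (inferInstanceAs (Mono ((toAbF S).map i))) z hz

/-- Epimorphisms are locally surjective on sections. -/
lemma exists_local_preimage {A B : S.Modules} (g : A ⟶ B) [Epi g] {V : S.Opens} (b : Γ(B, V))
    (x : S) (hx : x ∈ V) :
    ∃ (W : S.Opens) (h : W ≤ V) (a : Γ(A, W)), x ∈ W ∧ g.app W a = QCohMod.res B h b := by
  have : Epi ((toAbF S).map g) := inferInstance
  have hl : TopCat.Presheaf.IsLocallySurjective ((toAbF S).map g).hom :=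
    (CategoryTheory.Sheaf.isLocallySurjective_iff_epi' AddCommGrpCat.{u} _).mpr this
  obtain ⟨W, f, ⟨a, ha⟩, hxW⟩ :=
    (TopCat.Presheaf.isLocallySurjective_iff ((toAbF S).map g).hom).mp hl V b x hx
  exact ⟨W, f, a, hxW, ha⟩

section Hom

variable (K : CochainComplex S.Modules ℕ) (p : ℕ)

lemma iCycles_range (V : S.Opens) :
    LinearMap.range (appₗ (K.iCycles p) V) = LinearMap.ker (appₗ (K.d p (p + 1)) V) := by
  ext z
  constructor
  · rintro ⟨a, rfl⟩
    exact congr($(congrArg (fun γ : K.cycles p ⟶ K.X (p + 1) => γ.app V)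
      (K.iCycles_d p (p + 1))) a)
  · intro hz
    exact exists_app_eq_of_kernel (K.iCycles p) (K.d p (p + 1)) (K.iCycles_d p (p + 1))
      (ShortComplex.exact_of_f_is_kernel _ (K.cyclesIsKernel p (p + 1) (CochainComplex.next ℕ p)))
      V z hz

/-- Sections of cycles as cocycles of sections. -/
noncomputable def cycSecEquiv (V : S.Opens) :
    Γ(K.cycles p, V) ≃ₗ[Γ(S, V)] LinearMap.ker (appₗ (K.d p (p + 1)) V) :=
  (LinearEquiv.ofInjective (appₗ (K.iCycles p) V) (app_injective' (K.iCycles p) V)).trans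
    (LinearEquiv.ofEq _ _ (iCycles_range K p V))

/-- The class of a cocycle of sections in the sections of the homology module. -/
noncomputable def θ (V : S.Opens) :
    LinearMap.ker (appₗ (K.d p (p + 1)) V) →ₗ[Γ(S, V)] Γ(K.homology p, V) :=
  (appₗ (K.homologyπ p) V).comp (cycSecEquiv K p V).symm.toLinearMap

lemma res_mem_ker {V W : S.Opens} (h : W ≤ V)
    (z : LinearMap.ker (appₗ (K.d p (p + 1)) V)) :
    QCohMod.res (K.X p) h z.1 ∈ LinearMap.ker (appₗ (K.d p (p + 1)) W) := by
  change (K.d p (p + 1)).app W (QCohMod.res (K.X p) h z.1) = 0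
  rw [← res_app, show (K.d p (p + 1)).app V z.1 = 0 from z.2, map_zero]

lemma θ_iCycles (V : S.Opens) (c : Γ(K.cycles p, V)) :
    θ K p V (cycSecEquiv K p V c) = (K.homologyπ p).app V c := by
  change (K.homologyπ p).app V ((cycSecEquiv K p V).symm (cycSecEquiv K p V c)) = _
  rw [LinearEquiv.symm_apply_apply]

lemma θ_res {V W : S.Opens} (h : W ≤ V) (z : LinearMap.ker (appₗ (K.d p (p + 1)) V)) :
    QCohMod.res (K.homology p) h (θ K p V z) =
      θ K p W ⟨QCohMod.res (K.X p) h z.1, res_mem_ker K p h z⟩ := by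
  obtain ⟨c, rfl⟩ := (cycSecEquiv K p V).surjective z
  rw [θ_iCycles, res_app, ← θ_iCycles]
  congr 1
  apply Subtype.ext
  exact (res_app (K.iCycles p) h c).symm

lemma θ_exists_local {V : S.Opens} (s : Γ(K.homology p, V)) (x : S) (hx : x ∈ V) :
    ∃ (W : S.Opens) (h : W ≤ V) (z : LinearMap.ker (appₗ (K.d p (p + 1)) W)),
      x ∈ W ∧ θ K p W z = QCohMod.res (K.homology p) h s := by
  obtain ⟨W, h, c, hxW, hc⟩ := exists_local_preimage (K.homologyπ p) s x hx
  exact ⟨W, h, cycSecEquiv K p W c, hxW, (θ_iCycles K p W c).trans hc⟩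

/-- The local coboundaries are the kernel. -/
lemma θ_zero_local {V : S.Opens} (z : LinearMap.ker (appₗ (K.d p (p + 1)) V)) :
    θ K p V z = 0 ↔ ∀ x ∈ V, ∃ (W : S.Opens) (h : W ≤ V) (_ : x ∈ W)
      (w : Γ(K.X ((ComplexShape.up ℕ).prev p), W)),
      (K.d _ p).app W w = QCohMod.res (K.X p) h z.1 := by
  let T := ShortComplex.mk (K.toCycles ((ComplexShape.up ℕ).prev p) p) (K.homologyπ p)
    (K.toCycles_comp_homologyπ _ _)
  have hT : T.Exact :=
    ShortComplex.exact_of_g_is_cokernel _ (K.homologyIsCokernel _ p rfl)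
  constructor
  · intro hz x hx
    obtain ⟨c, rfl⟩ := (cycSecEquiv K p V).surjective z
    rw [θ_iCycles] at hz
    obtain ⟨c', hc'⟩ := exists_app_eq_of_kernel (kernel.ι (K.homologyπ p)) (K.homologyπ p)
      (kernel.condition _) (ShortComplex.exact_of_f_is_kernel _ (kernelIsKernel _)) V c hz
    have : Epi (kernel.lift (K.homologyπ p) (K.toCycles _ p) T.zero) :=
      (ShortComplex.exact_iff_epi_kernel_lift T).1 hT
    obtain ⟨W, h, w, hxW, hw⟩ :=
      exists_local_preimage (kernel.lift (K.homologyπ p) (K.toCycles _ p) T.zero) c' x hx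
    refine ⟨W, h, hxW, w, ?_⟩
    have e : K.d ((ComplexShape.up ℕ).prev p) p =
        kernel.lift (K.homologyπ p) (K.toCycles _ p) T.zero ≫ kernel.ι _ ≫ K.iCycles p := by
      rw [kernel.lift_ι_assoc, K.toCycles_i]
    rw [e]
    refine (congrArg (fun t => (K.iCycles p).app W ((kernel.ι (K.homologyπ p)).app W t)) hw).trans ?_
    rw [← res_app, ← res_app, hc']
    rfl
  · intro hz
    refine CohTwo.eq_of_local (K.homology p) _ _ fun x hx => ?_
    obtain ⟨W, h, hxW, w, hw⟩ := hz x hx
    refine ⟨W, h, hxW, ?_⟩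
    change QCohMod.res (K.homology p) h (θ K p V z) = QCohMod.res (K.homology p) h 0
    rw [θ_res, map_zero]
    have e : (⟨QCohMod.res (K.X p) h z.1, res_mem_ker K p h z⟩ :
        LinearMap.ker (appₗ (K.d p (p + 1)) W)) =
        cycSecEquiv K p W ((K.toCycles _ p).app W w) := by
      apply Subtype.ext
      refine hw.symm.trans ?_
      exact congr($(congrArg (fun γ : K.X _ ⟶ K.X p => γ.app W) (K.toCycles_i _ p).symm) w)
    rw [e, θ_iCycles]
    exact congr($(congrArg (fun γ : K.X _ ⟶ K.homology p => γ.app W) T.zero) w)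

end Hom

end Groth.CohBase
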