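import Groth.Agent.CohBase.MayerVietoris
import Groth.Agent.CohBase.SecHomology
import Groth.Agent.CohBase.GlobalSections
import Groth.Agent.QCohMod.Affine
import Groth.Agent.Ega2Proj.Spans

/-!
# First cohomology of a union of two opens, and spans of global sections on affine opens
-/

set_option autoImplicit false
set_option backward.isDefEq.respectTransparency.types false

universe u

open CategoryTheory CategoryTheory.Limits TopologicalSpace Opposite
open CategoryTheory.Abelian (Ext)

namespace Groth.CohBase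

variable {X : TopCat.{u}}

/-- Degree one vanishing on a union when restrictions jointly surject onto the intersection. -/
theorem hVanish_one_sup {F : AbSheaf X} {U V : Opens X} (hU : HVanish F 1 U) (hV : HVanish F 1 V)
    (h : ∀ t : F.obj.obj (op (U ⊓ V)), ∃ (a : F.obj.obj (op U)) (b : F.obj.obj (op V)),
      t = F.obj.map (homOfLE inf_le_left).op a + F.obj.map (homOfLE inf_le_right).op b) :
    HVanish F 1 (U ⊔ V) := by
  have hS := (Opens.mayerVietorisSquare U V).shortComplex_shortExact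
  refine subsingleton_of_forall_eq 0 fun x => ?_
  have hb : Subsingleton (Ext (Opens.mayerVietorisSquare U V).shortComplex.X₂ F 1) := by
    have : Subsingleton (Ext (freeOpen U) F 1) := hU
    have : Subsingleton (Ext (freeOpen V) F 1) := hV
    exact (Ext.biprodAddEquiv (X₁ := freeOpen U) (X₂ := freeOpen V)).toEquiv.subsingleton
  obtain ⟨y, hy⟩ := Ext.contravariant_sequence_exact₃ hS F x (Subsingleton.elim _ _)
    (n₀ := 0) (Nat.add_comm 1 0)
  obtain ⟨φ, rfl⟩ := (Ext.mk₀_bijective _ _).2 y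
  obtain ⟨a, b, hab⟩ := h (homFreeOpen (U ⊓ V) F φ)
  let ψ : (Opens.mayerVietorisSquare U V).shortComplex.X₂ ⟶ F :=
    biprod.desc ((homFreeOpen U F).symm a) (-((homFreeOpen V F).symm b))
  have hφ : φ = (Opens.mayerVietorisSquare U V).shortComplex.f ≫ ψ := by
    have e : (Opens.mayerVietorisSquare U V).shortComplex.f ≫ ψ =
        freeMap (inf_le_left : U ⊓ V ≤ U) ≫ (homFreeOpen U F).symm a +
          freeMap (inf_le_right : U ⊓ V ≤ V) ≫ (homFreeOpen V F).symm b := by
      dsimp only [ψ, GrothendieckTopology.MayerVietorisSquare.shortComplex]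
      erw [biprod.lift_desc]
      erw [Preadditive.neg_comp, Preadditive.comp_neg, neg_neg]
      rfl
    apply (homFreeOpen (U ⊓ V) F).injective
    rw [e, map_add, homFreeOpen_freeMap, homFreeOpen_freeMap, AddEquiv.apply_symm_apply,
      AddEquiv.apply_symm_apply]
    exact hab
  rw [← hy, hφ, ← Ext.mk₀_comp_mk₀, ← Ext.comp_assoc_of_second_deg_zero]
  rw [hS.extClass_comp, Ext.zero_comp]
  rfl

end Groth.CohBase

namespace Groth.Ega2Proj

open AlgebraicGeometry

variable {X : Scheme.{u}}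

/-- Global sections spanning the stalks span the sections over affine opens. -/
theorem span_sections_eq_top {F : X.Modules} [F.IsQuasicoherent] (h : SpansStalks F) {U : X.Opens}
    (hU : IsAffineOpen U) :
    Submodule.span Γ(X, U) (Set.range (Groth.PicAux.res F (le_top : U ≤ ⊤))) = ⊤ := by
  set N := Submodule.span Γ(X, U) (Set.range (Groth.PicAux.res F (le_top : U ≤ ⊤)))
  rw [eq_top_iff]
  rintro m -
  let J : Ideal Γ(X, U) := N.comap (LinearMap.toSpanSingleton Γ(X, U) Γ(F, U) m)
  suffices hJ : J = ⊤ by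
    have h1 : (1 : Γ(X, U)) • m ∈ N := show (1 : Γ(X, U)) ∈ J from hJ ▸ Submodule.mem_top
    rwa [one_smul] at h1
  by_contra hJ
  obtain ⟨p, hp, hJp⟩ := Ideal.exists_le_maximal J hJ
  obtain ⟨x, hx, hxp⟩ : ∃ (x : X) (hx : x ∈ U), hU.primeIdealOf ⟨x, hx⟩ = ⟨p, hp.isPrime⟩ := by
    have hy : hU.fromSpec ⟨p, hp.isPrime⟩ ∈ U := by
      change hU.fromSpec _ ∈ (U : Set X)
      rw [← hU.range_fromSpec]
      exact ⟨_, rfl⟩
    exact ⟨_, hy, hU.fromSpec.isOpenEmbedding.injective (hU.fromSpec_primeIdealOf ⟨_, hy⟩)⟩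
  let P := (hU.primeIdealOf ⟨x, hx⟩).asIdeal
  have hP : P = p := congrArg PrimeSpectrum.asIdeal hxp
  let _ := Groth.QCohMod.stalkModule F x hx
  have := Groth.QCohMod.isLocalizedModule_germ F hU x hx
  letI : Algebra Γ(X, U) (X.presheaf.stalk x) := (X.presheaf.germ U x hx).hom.toAlgebra
  have := hU.isLocalization_stalk ⟨x, hx⟩
  have key : ∀ v ∈ Submodule.span (X.presheaf.stalk x) (Set.range fun t : Γ(F, (⊤ : X.Opens)) =>
      Groth.QCohMod.germ F x (Set.mem_univ x : x ∈ (⊤ : X.Opens)) t),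
      ∃ s : P.primeCompl, ∃ n ∈ N,
        X.presheaf.germ U x hx s.1 • v = Groth.QCohMod.germ F x hx n := by
    intro v hv
    induction hv using Submodule.span_induction with
    | mem v hv =>
      obtain ⟨t, rfl⟩ := hv
      refine ⟨1, _, Submodule.subset_span ⟨t, rfl⟩, ?_⟩
      rw [OneMemClass.coe_one, map_one, one_smul]
      exact (Groth.QCohMod.germ_res F le_top x hx t).symm
    | zero => exact ⟨1, 0, Submodule.zero_mem _, by simp⟩
    | add a b _ _ ha hb =>
      obtain ⟨s, n, hn, ha⟩ := ha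
      obtain ⟨s', n', hn', hb⟩ := hb
      refine ⟨s * s', s'.1 • n + s.1 • n', add_mem (N.smul_mem _ hn) (N.smul_mem _ hn'), ?_⟩
      rw [map_add, Groth.QCohMod.germ_smul, Groth.QCohMod.germ_smul, ← ha, ← hb, smul_smul, smul_smul,
        smul_add, Submonoid.coe_mul, map_mul]
      rw [mul_comm (X.presheaf.germ U x hx s'.1)]
    | smul c a _ ha =>
      obtain ⟨s, n, hn, ha⟩ := ha
      obtain ⟨⟨r, s₀⟩, hc⟩ := IsLocalization.surj P.primeCompl c
      change c * X.presheaf.germ U x hx s₀.1 = X.presheaf.germ U x hx r at hc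
      refine ⟨s₀ * s, r • n, N.smul_mem _ hn, ?_⟩
      rw [Groth.QCohMod.germ_smul, ← ha, ← hc, smul_smul, smul_smul, Submonoid.coe_mul, map_mul]
      congr 1
      ring
  obtain ⟨s, n, hn, hs⟩ := key (Groth.QCohMod.germ F x hx m) ((h x).ge Submodule.mem_top)
  rw [← Groth.QCohMod.germ_smul] at hs
  obtain ⟨t, ht⟩ := (IsLocalizedModule.eq_iff_exists P.primeCompl
    (Groth.QCohMod.germₗ F x hx)).1 (show Groth.QCohMod.germₗ F x hx (s.1 • m) =
      Groth.QCohMod.germₗ F x hx n from hs)
  have hmem : t.1 * s.1 ∈ J := by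
    change (t.1 * s.1) • m ∈ N
    rw [mul_smul]
    exact (show t.1 • (s.1 • m) = t.1 • n from ht) ▸ N.smul_mem _ hn
  have h2 : t.1 * s.1 ∈ P := (SetLike.ext_iff.1 hP _).2 (hJp hmem)
  exact (P.primeCompl.mul_mem t.2 s.2) h2

end Groth.Ega2Proj
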