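import Mathlib.CategoryTheory.Sites.SheafCohomology.Cech
import Mathlib.Algebra.Category.Grp.Limits
import Mathlib.Algebra.Category.Grp.Colimits
import Mathlib.Algebra.Category.Grp.Abelian
import Mathlib.Algebra.Homology.ShortComplex.HomologicalComplex
import Mathlib.Algebra.Homology.ShortComplex.Ab
import Mathlib.Topology.Sheaves.AddCommGrpCat
import Mathlib.Topology.Sheaves.Stalks

/-!
# Čech cochains of a presheaf of abelian groups, written elementwise
-/

universe u

open CategoryTheory Limits TopologicalSpace Opposite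

namespace Groth.CohBase

variable {X : TopCat.{u}} {ι : Type u} (U : ι → Opens X)

/-- The intersection attached to a tuple of indices. -/
def inter {n : ℕ} (x : Fin n → ι) : Opens X := ⨅ a, U (x a)

lemma inter_le {n : ℕ} (x : Fin n → ι) (a : Fin n) : inter U x ≤ U (x a) :=
  iInf_le _ a

lemma inter_comp {n m : ℕ} (x : Fin n → ι) (g : Fin m → Fin n) :
    inter U x ≤ inter U (x ∘ g) :=
  le_iInf fun a => iInf_le _ (g a)

lemma inter_one (x : Fin 1 → ι) : inter U x = U (x 0) :=
  le_antisymm (inter_le U x 0) (le_iInf fun a => by rw [Subsingleton.elim a 0])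

lemma inter_cons {n : ℕ} (k : ι) (x : Fin n → ι) :
    inter U (Fin.cons k x : Fin (n + 1) → ι) = U k ⊓ inter U x := by
  apply le_antisymm
  · refine le_inf (iInf_le_of_le 0 (by simp)) (le_iInf fun a => iInf_le_of_le a.succ (by simp))
  · refine le_iInf fun a => ?_
    cases a using Fin.cases with
    | zero => simp
    | succ a =>
      rw [Fin.cons_succ]
      exact le_trans inf_le_right (iInf_le _ a)

variable (F : TopCat.Presheaf AddCommGrpCat.{u} X)

/-- Restriction, as an additive map. -/
def res {V W : Opens X} (h : V ≤ W) : F.obj (op W) →+ F.obj (op V) :=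
  (F.map (homOfLE h).op).hom

@[simp]
lemma res_res {V W T : Opens X} (h : V ≤ W) (h' : W ≤ T) (s : F.obj (op T)) :
    res F h (res F h' s) = res F (h.trans h') s :=
  (F.map_comp_apply (homOfLE h').op (homOfLE h).op s).symm

@[simp]
lemma res_self {V : Opens X} (s : F.obj (op V)) : res F (le_refl V) s = s := by
  change F.map (𝟙 _) s = s
  simp

lemma res_bijective_of_eq {V W : Opens X} (h : V ≤ W) (h' : W ≤ V) :
    Function.Bijective (res F h) :=
  ⟨fun a b e => by simpa using congrArg (res F h') e, fun b => ⟨res F h' b, by simp⟩⟩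

lemma res_naturality {G : TopCat.Presheaf AddCommGrpCat.{u} X} (φ : F ⟶ G) {V W : Opens X}
    (h : V ≤ W) (s : F.obj (op W)) : φ.app (op V) (res F h s) = res G h (φ.app (op W) s) :=
  NatTrans.naturality_apply φ (homOfLE h).op s

/-- Čech cochains: one section for each tuple of indices. -/
abbrev Coch (n : ℕ) : Type u := ∀ x : Fin (n + 1) → ι, F.obj (op (inter U x))

/-- Re-indexing a cochain along an equality of tuples. -/
lemma Coch.congr_res {n : ℕ} (s : Coch U F n) {x y : Fin (n + 1) → ι} (h : x = y) {V : Opens X}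
    (hx : V ≤ inter U x) (hy : V ≤ inter U y) : res F hx (s x) = res F hy (s y) := by
  subst h
  rfl

/-- The Čech differential. -/
def dCoch (n : ℕ) : Coch U F n →+ Coch U F (n + 1) where
  toFun s x := ∑ a : Fin (n + 2),
    ((-1 : ℤ) ^ (a : ℕ)) • res F (inter_comp U x a.succAbove) (s (x ∘ a.succAbove))
  map_zero' := by ext x; simp
  map_add' s t := by ext x; simp [Finset.sum_add_distrib, smul_add]

lemma dCoch_apply {n : ℕ} (s : Coch U F n) (x : Fin (n + 2) → ι) :
    dCoch U F n s x = ∑ a : Fin (n + 2),
      ((-1 : ℤ) ^ (a : ℕ)) • res F (inter_comp U x a.succAbove) (s (x ∘ a.succAbove)) := rfl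

/-- Vanishing of Čech cohomology in degree `p + 1`. -/
def CechExact (p : ℕ) : Prop :=
  ∀ s : Coch U F (p + 1), dCoch U F (p + 1) s = 0 → ∃ t : Coch U F p, dCoch U F p t = s

/-- The product of a finite family of opens is below their intersection and conversely. -/
lemma pi_eq_inter {n : ℕ} (x : Fin n → ι) : ∏ᶜ (U ∘ x) = inter U x :=
  le_antisymm (le_iInf fun a => (Pi.π (U ∘ x) a).le)
    (Pi.lift (f := U ∘ x) fun a => homOfLE (inter_le U x a)).le

/-- The Čech complex of Mathlib. -/
noncomputable abbrev cechCx : CochainComplex AddCommGrpCat.{u} ℕ :=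
  (cechComplexFunctor (A := AddCommGrpCat.{u}) U).obj F

/-- The evaluation functor of a presheaf on formal coproducts, in this situation. -/
noncomputable abbrev tupleObj (n : ℕ) : (Fin (n + 1) → ι) → AddCommGrpCat.{u} :=
  fun x => F.obj (op (∏ᶜ (U ∘ x)))

noncomputable def cochIso (n : ℕ) :
    (cechCx U F).X n ≅ AddCommGrpCat.of (Coch U F n) where
  hom := AddCommGrpCat.ofHom (X := ↥(∏ᶜ tupleObj U F n : AddCommGrpCat))
    { toFun := fun s x => res F (pi_eq_inter U x).ge (Pi.π (tupleObj U F n) x s)
      map_zero' := by ext x; simp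
      map_add' := fun s t => by ext x; simp }
  inv := Pi.lift (f := tupleObj U F n) fun x => AddCommGrpCat.ofHom
    ((res F (pi_eq_inter U x).le).comp (Pi.evalAddMonoidHom _ x))
  hom_inv_id := by
    refine Pi.hom_ext (f := tupleObj U F n) _ _ fun x => ?_
    erw [Category.assoc, Pi.lift_π, Category.id_comp]
    ext s
    exact (res_res F _ _ _).trans (res_self F _)
  inv_hom_id := by
    ext s x
    change res F _ (Pi.π (tupleObj U F n) x (Pi.lift (f := tupleObj U F n) _ s)) = s x
    rw [← ConcreteCategory.comp_apply, Pi.lift_π]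
    exact (res_res F _ _ _).trans (res_self F _)

lemma cochIso_hom_apply {n : ℕ} (s : (cechCx U F).X n) (x : Fin (n + 1) → ι) :
    (cochIso U F n).hom s x = res F (pi_eq_inter U x).ge (Pi.π (tupleObj U F n) x s) := rfl

lemma hom_sum_apply {α : Type*} {A B : AddCommGrpCat.{u}} (s : Finset α) (f : α → (A ⟶ B))
    (x : A) : (∑ a ∈ s, f a) x = ∑ a ∈ s, f a x :=
  map_sum (({ toFun := fun φ => φ x, map_zero' := rfl, map_add' := fun _ _ => rfl } :
    (A ⟶ B) →+ B)) f s

lemma hom_zsmul_apply {A B : AddCommGrpCat.{u}} (c : ℤ) (f : A ⟶ B) (x : A) :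
    (c • f) x = c • f x := rfl

lemma cochIso_d (n : ℕ) (s : (cechCx U F).X n) :
    (cochIso U F (n + 1)).hom ((cechCx U F).d n (n + 1) s) =
      dCoch U F n ((cochIso U F n).hom s) := by
  funext x
  rw [cochIso_hom_apply, dCoch_apply]
  have hd : (cechCx U F).d n (n + 1) =
      AlgebraicTopology.AlternatingCofaceMapComplex.objD
        ((FormalCoproduct.cosimplicialObjectFunctor (FormalCoproduct.mk _ U).cech).obj F) n :=
    CochainComplex.of_d _ (AlgebraicTopology.AlternatingCofaceMapComplex.objD
      ((FormalCoproduct.cosimplicialObjectFunctor (FormalCoproduct.mk _ U).cech).obj F)) n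
  rw [hd, AlgebraicTopology.AlternatingCofaceMapComplex.objD]
  erw [hom_sum_apply, map_sum, map_sum]
  refine Finset.sum_congr rfl fun a _ => ?_
  erw [hom_zsmul_apply, map_zsmul, map_zsmul]
  congr 1
  have h : ((FormalCoproduct.cosimplicialObjectFunctor (FormalCoproduct.mk _ U).cech).obj F).δ a ≫
      Pi.π (tupleObj U F (n + 1)) x = Pi.π (tupleObj U F n) (x ∘ a.succAbove) ≫
        F.map (homOfLE ((pi_eq_inter U x).le.trans ((inter_comp U x a.succAbove).trans
          (pi_eq_inter U (x ∘ a.succAbove)).ge))).op := by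
    exact Pi.lift_π _ _
  refine (congrArg (res F (pi_eq_inter U x).ge) (ConcreteCategory.congr_hom h s)).trans ?_
  rw [cochIso_hom_apply, res_res]
  exact res_res F _ _ _

lemma cochIso_surjective (n : ℕ) : Function.Surjective (cochIso U F n).hom :=
  fun y => ⟨(cochIso U F n).inv y, ConcreteCategory.congr_hom (cochIso U F n).inv_hom_id y⟩

lemma cochIso_injective (n : ℕ) : Function.Injective (cochIso U F n).hom :=
  fun a b h => by
    simpa [← ConcreteCategory.comp_apply] using congrArg (cochIso U F n).inv h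

lemma dCoch_dCoch {n : ℕ} (s : Coch U F n) : dCoch U F (n + 1) (dCoch U F n s) = 0 := by
  obtain ⟨s, rfl⟩ := cochIso_surjective U F n s
  rw [← cochIso_d, ← cochIso_d, ← ConcreteCategory.comp_apply ((cechCx U F).d n (n + 1)),
    HomologicalComplex.d_comp_d]
  exact map_zero (cochIso U F (n + 2)).hom.hom

lemma isZero_homology_iff (p : ℕ) :
    IsZero ((cechCx U F).homology (p + 1)) ↔ CechExact U F p := by
  rw [← HomologicalComplex.exactAt_iff_isZero_homology,
    HomologicalComplex.exactAt_iff' _ p (p + 1) (p + 2) (by simp) (by simp),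
    ShortComplex.ab_exact_iff]
  constructor
  · intro h s hs
    obtain ⟨s, rfl⟩ := cochIso_surjective U F (p + 1) s
    rw [← cochIso_d] at hs
    obtain ⟨t, ht⟩ := h s (cochIso_injective U F (p + 2) (hs.trans (map_zero _).symm))
    exact ⟨_, (cochIso_d U F p t).symm.trans (congrArg _ ht)⟩
  · intro h s hs
    obtain ⟨t, ht⟩ := h _ ((cochIso_d U F (p + 1) s).symm.trans
      ((congrArg _ hs).trans (map_zero _)))
    obtain ⟨t, rfl⟩ := cochIso_surjective U F p t
    exact ⟨t, cochIso_injective U F (p + 1) ((cochIso_d U F p t).trans ht)⟩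

section Functoriality

variable {U F} {G : TopCat.Presheaf AddCommGrpCat.{u} X} (φ : F ⟶ G)

/-- The map on cochains induced by a map of presheaves. -/
def mapCoch (n : ℕ) : Coch U F n →+ Coch U G n where
  toFun s x := φ.app (op (inter U x)) (s x)
  map_zero' := by ext x; exact map_zero _
  map_add' s t := by ext x; exact map_add _ _ _

lemma mapCoch_apply {n : ℕ} (s : Coch U F n) (x : Fin (n + 1) → ι) :
    mapCoch φ n s x = φ.app (op (inter U x)) (s x) := rfl

lemma mapCoch_d {n : ℕ} (s : Coch U F n) :
    mapCoch φ (n + 1) (dCoch U F n s) = dCoch U G n (mapCoch φ n s) := by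
  ext x
  rw [mapCoch_apply, dCoch_apply, dCoch_apply, map_sum]
  refine Finset.sum_congr rfl fun a _ => ?_
  rw [map_zsmul, res_naturality]
  rfl

/-- Exactness of the Čech complex passes to retracts. -/
lemma CechExact.retract {p : ℕ} (h : CechExact U G p) (ψ : G ⟶ F) (hφψ : φ ≫ ψ = 𝟙 F) :
    CechExact U F p := by
  intro s hs
  obtain ⟨t, ht⟩ := h (mapCoch φ _ s) (by rw [← mapCoch_d, hs, map_zero])
  refine ⟨mapCoch ψ _ t, ?_⟩
  rw [← mapCoch_d, ht]
  ext x
  exact ConcreteCategory.congr_hom (congrArg (fun α => NatTrans.app α (op (inter U x))) hφψ) (s x)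

end Functoriality

section ShortExact

variable {U} {F I Q : TopCat.Presheaf AddCommGrpCat.{u} X} (α : F ⟶ I) (β : I ⟶ Q)

/-- Left exactness of the sections on all intersections of the family. -/
structure InterLeftExact : Prop where
  inj : ∀ {n : ℕ} (x : Fin (n + 1) → ι), Function.Injective (α.app (op (inter U x)))
  exact : ∀ {n : ℕ} (x : Fin (n + 1) → ι),
    Function.Exact (α.app (op (inter U x))) (β.app (op (inter U x)))

/-- Exactness of the sections on all intersections of the family. -/
structure InterExact : Prop extends InterLeftExact (U := U) α β where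
  surj : ∀ {n : ℕ} (x : Fin (n + 1) → ι), Function.Surjective (β.app (op (inter U x)))

variable {α β}

lemma InterLeftExact.mapCoch_injective (h : InterLeftExact (U := U) α β) (n : ℕ) :
    Function.Injective (mapCoch (U := U) α n) :=
  fun _ _ e => funext fun x => h.inj x (congrFun e x)

lemma InterLeftExact.mem (h : InterLeftExact (U := U) α β) {n : ℕ} {i : Coch U I n}
    (hi : mapCoch β n i = 0) : ∃ a, mapCoch α n a = i := by
  have := fun x => (h.exact x (i x)).mp (congrFun hi x)
  exact ⟨fun x => (this x).choose, funext fun x => (this x).choose_spec⟩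

lemma InterLeftExact.mapCoch_comp (h : InterLeftExact (U := U) α β) {n : ℕ} (a : Coch U F n) :
    mapCoch β n (mapCoch α n a) = 0 :=
  funext fun x => (h.exact x).apply_apply_eq_zero (a x)

lemma InterExact.lift (h : InterExact (U := U) α β) {n : ℕ} (q : Coch U Q n) :
    ∃ i, mapCoch β n i = q :=
  ⟨fun x => (h.surj x (q x)).choose, funext fun x => (h.surj x (q x)).choose_spec⟩

/-- Dimension shifting: exactness for the middle term in degree `p` and for the sub in degree
`p + 1` gives exactness for the quotient in degree `p`. -/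
lemma InterExact.cechExact_quotient (h : InterExact (U := U) α β) {p : ℕ} (hI : CechExact U I p)
    (hF : CechExact U F (p + 1)) : CechExact U Q p := by
  intro q hq
  obtain ⟨i, rfl⟩ := h.lift q
  obtain ⟨a, ha⟩ := h.mem (i := dCoch U I (p + 1) i) (by rw [mapCoch_d, hq])
  obtain ⟨a', rfl⟩ := hF a (h.mapCoch_injective _ (by rw [mapCoch_d, ha, dCoch_dCoch, map_zero]))
  obtain ⟨b, hb⟩ := hI (i - mapCoch α (p + 1) a') (by rw [map_sub, ← mapCoch_d, ha, sub_self])
  refine ⟨mapCoch β p b, ?_⟩
  rw [← mapCoch_d, hb, map_sub, h.mapCoch_comp, sub_zero]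

end ShortExact

end Groth.CohBase
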