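import Groth.Agent.CohBase.Cech
import Mathlib.Topology.Sheaves.SheafOfFunctions
import Mathlib.CategoryTheory.Sites.LocallyInjective
import Mathlib.CategoryTheory.Preadditive.Injective.Basic
import Mathlib.Algebra.Category.Grp.FilteredColimits
import Mathlib.CategoryTheory.Sites.Abelian

/-!
# Čech exactness of injective sheaves, and lifting sections
-/

universe u

open CategoryTheory Limits TopologicalSpace Opposite

namespace Groth.CohBase

/-- Abelian sheaves on a space, as sheaves on the site of its opens. -/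
abbrev AbSheaf (X : TopCat.{u}) : Type (u + 1) :=
  CategoryTheory.Sheaf (Opens.grothendieckTopology X) AddCommGrpCat.{u}

variable {X : TopCat.{u}} {ι : Type u} {U : ι → Opens X}

section Lift

variable {F I Q : AbSheaf X} {α : F ⟶ I} {β : I ⟶ Q}

/-- If the first Čech group of `F` vanishes for a family covering `W`, then a section of the
quotient on `W` lifts as soon as it lifts on each member of the family. -/
lemma InterLeftExact.exists_lift_of_cechExact (h : InterLeftExact (U := U) α.hom β.hom)
    (hF : CechExact U F.obj 0) (W : Opens X) (hle : ∀ i, U i ≤ W) (hcov : W ≤ ⨆ i, U i)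
    (q : Q.obj.obj (op W))
    (hq : ∀ k, ∃ s, β.hom.app (op (U k)) s = res Q.obj (hle k) q) :
    ∃ t, β.hom.app (op W) t = q := by
  choose s₀ hs₀ using hq
  let q₀ : Coch U Q.obj 0 := fun x => res Q.obj ((inter_le U x 0).trans (hle _)) q
  let i : Coch U I.obj 0 := fun x => res I.obj (inter_le U x 0) (s₀ (x 0))
  have hi : mapCoch β.hom 0 i = q₀ := by
    ext x
    rw [mapCoch_apply, res_naturality, hs₀, res_res]
  have hdq : dCoch U Q.obj 0 q₀ = 0 := by
    ext x
    rw [dCoch_apply, Fin.sum_univ_two]
    simp [q₀]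
    exact add_neg_eq_zero.mpr (res_res Q.obj _ _ _)
  obtain ⟨a, ha⟩ := h.mem (i := dCoch U I.obj 0 i) (by rw [mapCoch_d, hi, hdq])
  obtain ⟨a', rfl⟩ := hF a (h.mapCoch_injective _ (by rw [mapCoch_d, ha, dCoch_dCoch, map_zero]))
  obtain ⟨s, hs, hs'⟩ : ∃ s : Coch U I.obj 0,
      dCoch U I.obj 0 s = 0 ∧ mapCoch β.hom 0 s = q₀ :=
    ⟨i - mapCoch α.hom 0 a', by rw [map_sub, ← mapCoch_d, ha, sub_self],
      by rw [map_sub, h.mapCoch_comp, hi, sub_zero]⟩
  let v : ∀ k, Opens X := fun k => inter U (fun _ : Fin 1 => k)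
  obtain ⟨t, ht, -⟩ := TopCat.Sheaf.existsUnique_gluing' (X := X) I v W
    (fun k => homOfLE ((inter_le U _ 0).trans (hle k)))
    (by simpa [v, inter_one] using hcov) (fun k => s fun _ => k) (by
      intro k l
      have h0 := congrFun hs (Fin.cons k (fun _ => l))
      rw [dCoch_apply, Fin.sum_univ_two] at h0
      simp only [Fin.val_zero, pow_zero, one_smul, Fin.val_one, pow_one, neg_smul,
        Pi.zero_apply] at h0
      rw [add_neg_eq_zero] at h0
      have hle' : v k ⊓ v l ≤ inter U (Fin.cons k (fun _ : Fin 1 => l)) := by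
        rw [inter_cons]
        exact inf_le_inf_right _ (inter_le U _ 0)
      have h1 := congrArg (res I.obj hle') h0
      rw [res_res, res_res] at h1
      refine ((Coch.congr_res U I.obj s (V := v k ⊓ v l) ?_ inf_le_left (hle'.trans
        (inter_comp U _ _))).trans h1.symm).trans
        (Coch.congr_res U I.obj s (V := v k ⊓ v l) ?_ _ inf_le_right)
      · funext a
        obtain rfl := Fin.fin_one_eq_zero a
        rfl
      · funext a
        obtain rfl := Fin.fin_one_eq_zero a
        rfl)
  refine ⟨t, ?_⟩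
  refine TopCat.Sheaf.eq_of_locally_eq' Q v W
    (fun k => homOfLE ((inter_le U _ 0).trans (hle k))) (by simpa [v, inter_one] using hcov) _ _
    fun k => ?_
  have := congrFun hs' (fun _ => k)
  rw [mapCoch_apply, ← ht k] at this
  exact (NatTrans.naturality_apply β.hom _ t).symm.trans this

end Lift

section Godement

variable (A : X → AddCommGrpCat.{u})

/-- The presheaf of all dependent functions with values in a family of abelian groups. -/
def funPresheaf : TopCat.Presheaf AddCommGrpCat.{u} X where
  obj V := AddCommGrpCat.of (∀ x : (Opposite.unop V : Opens X), A x.1)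
  map f := AddCommGrpCat.ofHom
    { toFun := fun s x => s ⟨x.1, f.unop.le x.2⟩
      map_zero' := rfl
      map_add' := fun _ _ => rfl }
  map_id _ := rfl
  map_comp _ _ := rfl

lemma funPresheaf_isSheaf : (funPresheaf A).IsSheaf :=
  (TopCat.Presheaf.isSheaf_iff_isSheaf_comp (CategoryTheory.forget AddCommGrpCat.{u}) _).mpr
    (TopCat.Presheaf.isSheaf_of_iso (by exact Iso.refl _)
      (TopCat.Presheaf.toTypes_isSheaf X (fun x => A x)))

/-- Dependent functions have no higher Čech cohomology, for any family of opens. -/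
lemma funPresheaf_cechExact (U : ι → Opens X) (p : ℕ) : CechExact U (funPresheaf A) p := by
  classical
  intro s hs
  have hmem : ∀ (x : Fin (p + 1) → ι) (y : inter U x), ∃ k, y.1 ∈ U k :=
    fun x y => ⟨x 0, inter_le U x 0 y.2⟩
  -- a choice of index depending only on the point
  let k : ∀ y : X, (∃ k, y ∈ U k) → ι := fun y h => h.choose
  have hk : ∀ y h, y ∈ U (k y h) := fun y h => h.choose_spec
  let t : Coch U (funPresheaf A) p := fun x y =>
    s (Fin.cons (k y.1 (hmem x y)) x) ⟨y.1, by rw [inter_cons]; exact ⟨hk _ _, y.2⟩⟩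
  refine ⟨t, funext fun x => funext fun y => ?_⟩
  have he : ∃ k, y.1 ∈ U k := ⟨x 0, inter_le U x 0 y.2⟩
  let ev : (funPresheaf A).obj (op (inter U x)) →+ A y.1 :=
    Pi.evalAddMonoidHom (fun z : (inter U x : Opens X) => A z.1) y
  have hy : y.1 ∈ inter U (Fin.cons (k y.1 he) x : Fin (p + 3) → ι) := by
    rw [inter_cons]; exact ⟨hk _ _, y.2⟩
  let ev' : (funPresheaf A).obj (op (inter U (Fin.cons (k y.1 he) x : Fin (p + 3) → ι))) →+ A y.1 :=
    Pi.evalAddMonoidHom (fun z : (inter U (Fin.cons (k y.1 he) x : Fin (p + 3) → ι) : Opens X) =>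
      A z.1) ⟨y.1, hy⟩
  have hL : ev (dCoch U _ p t x) = ∑ a : Fin (p + 2), ((-1 : ℤ) ^ (a : ℕ)) •
      ev (res _ (inter_comp U x a.succAbove) (t (x ∘ a.succAbove))) := by
    rw [dCoch_apply, map_sum]
    simp only [map_zsmul]
  have hR := congrArg ev' (congrFun hs (Fin.cons (k y.1 he) x))
  rw [dCoch_apply, map_sum, Fin.sum_univ_succ] at hR
  simp only [map_zsmul, Pi.zero_apply, map_zero, Fin.val_zero, pow_zero, one_smul,
    Fin.val_succ, pow_succ, mul_neg, mul_one, neg_smul, map_neg, Finset.sum_neg_distrib] at hR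
  rw [add_neg_eq_zero] at hR
  have eval_congr : ∀ {n : ℕ} (w : Coch U (funPresheaf A) n) {a b : Fin (n + 1) → ι} (h : a = b)
      (ha : y.1 ∈ inter U a) (hb : y.1 ∈ inter U b), w a ⟨y.1, ha⟩ = w b ⟨y.1, hb⟩ := by
    intro n w a b h ha hb
    subst h
    rfl
  change ev (dCoch U _ p t x) = ev (s x)
  rw [hL]
  refine Eq.trans ?_ (hR.symm.trans ?_)
  · refine Finset.sum_congr rfl fun a _ => congrArg _ ?_
    refine eval_congr s ?_ _ _
    funext b
    cases b using Fin.cases <;> simp
  · refine eval_congr s ?_ _ y.2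
    funext b
    simp

end Godement

/-- The product of the stalks of a presheaf. -/
noncomputable def toFunPresheaf (F : TopCat.Presheaf AddCommGrpCat.{u} X) :
    F ⟶ funPresheaf (fun x => F.stalk x) where
  app V := AddCommGrpCat.ofHom
    { toFun := fun s x => F.germ V.unop x.1 x.2 s
      map_zero' := funext fun x => map_zero _
      map_add' := fun s t => funext fun x => map_add _ s t }
  naturality {V W} f := by
    ext s
    funext x
    exact TopCat.Presheaf.germ_res_apply F f.unop x.1 x.2 s

/-- Injective sheaves have no higher Čech cohomology, for any family of opens. -/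
theorem cechExact_of_injective (I : AbSheaf X) [Injective I]
    (U : ι → Opens X) (p : ℕ) : CechExact U I.obj p := by
  let G : AbSheaf X :=
    ⟨funPresheaf (fun x => TopCat.Presheaf.stalk (X := X) I.obj x), funPresheaf_isSheaf _⟩
  let φ : I ⟶ G := ⟨toFunPresheaf I.obj⟩
  have : Mono φ := by
    have : Mono φ.hom := by
      rw [NatTrans.mono_iff_mono_app]
      intro V
      rw [AddCommGrpCat.mono_iff_injective]
      intro s t h
      exact TopCat.Presheaf.section_ext (X := X) I V.unop s t fun x hx => congrFun h ⟨x, hx⟩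
    exact (sheafToPresheaf _ _).mono_of_mono_map this
  refine CechExact.retract φ.hom (funPresheaf_cechExact _ U p) (Injective.factorThru (𝟙 I) φ).hom ?_
  exact congrArg (fun γ => γ.hom) (Injective.comp_factorThru (𝟙 I) φ)

end Groth.CohBase
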