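import Groth.Agent.CohBase.GlobalSections
import Mathlib.Algebra.Homology.HomologicalComplexAbelian
import Mathlib.Algebra.Homology.HomologySequence
import Mathlib.GroupTheory.QuotientGroup.Basic
import Mathlib.GroupTheory.QuotientGroup.Finite

/-!
# Čech cohomology of a covering with acyclic intersections is sheaf cohomology
-/

universe u

open CategoryTheory Limits TopologicalSpace Opposite
open CategoryTheory.Abelian (Ext)

namespace Groth.CohBase

variable {X : TopCat.{u}} {ι : Type u} (U : ι → Opens X)

lemma cochIso_naturality {F G : TopCat.Presheaf AddCommGrpCat.{u} X} (φ : F ⟶ G) (n : ℕ)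
    (s : (cechCx U F).X n) :
    (cochIso U G n).hom (((cechComplexFunctor (A := AddCommGrpCat.{u}) U).map φ).f n s) =
      mapCoch φ n ((cochIso U F n).hom s) := by
  funext x
  rw [cochIso_hom_apply, mapCoch_apply, cochIso_hom_apply, res_naturality]
  congr 1
  have h : (((cechComplexFunctor (A := AddCommGrpCat.{u}) U).map φ).f n ≫
      Pi.π (tupleObj U G n) x : (cechCx U F).X n ⟶ tupleObj U G n x) =
      ((Pi.π (tupleObj U F n) x : (cechCx U F).X n ⟶ tupleObj U F n x) ≫
        φ.app (op (∏ᶜ (U ∘ x)))) := by
    exact Pi.map_π (f := tupleObj U F n) (g := tupleObj U G n) (fun x => φ.app (op (∏ᶜ (U ∘ x)))) x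
  exact ConcreteCategory.congr_hom h s

section Aug

variable (W : Opens X) (hle : ∀ i, U i ≤ W)

/-- The augmentation of the Čech complex. -/
noncomputable def augHom (F : TopCat.Presheaf AddCommGrpCat.{u} X) :
    F.obj (op W) →+ Coch U F 0 where
  toFun s x := res F ((inter_le U x 0).trans (hle _)) s
  map_zero' := by ext x; simp
  map_add' s t := by ext x; simp

/-- The augmentation of the Čech complex, as a morphism. -/
noncomputable def aug (F : TopCat.Presheaf AddCommGrpCat.{u} X) :
    F.obj (op W) ⟶ (cechCx U F).X 0 :=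
  AddCommGrpCat.ofHom (augHom U W hle F) ≫ (cochIso U F 0).inv

lemma cochIso_aug (F : TopCat.Presheaf AddCommGrpCat.{u} X) (s : F.obj (op W)) :
    (cochIso U F 0).hom (aug U W hle F s) = augHom U W hle F s :=
  ConcreteCategory.congr_hom (cochIso U F 0).inv_hom_id (augHom U W hle F s)

lemma aug_d (F : TopCat.Presheaf AddCommGrpCat.{u} X) :
    aug U W hle F ≫ (cechCx U F).d 0 1 = 0 := by
  ext s
  apply cochIso_injective U F 1
  refine (cochIso_d U F 0 (aug U W hle F s)).trans ?_
  rw [cochIso_aug]
  refine Eq.trans ?_ (map_zero (cochIso U F 1).hom.hom).symm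
  funext x
  rw [dCoch_apply, Fin.sum_univ_two]
  simp [augHom]
  exact add_neg_eq_zero.mpr (res_res F _ _ _)

lemma aug_naturality {F G : TopCat.Presheaf AddCommGrpCat.{u} X} (φ : F ⟶ G) :
    aug U W hle F ≫ ((cechComplexFunctor (A := AddCommGrpCat.{u}) U).map φ).f 0 =
      φ.app (op W) ≫ aug U W hle G := by
  ext s
  apply cochIso_injective U G 0
  refine (cochIso_naturality U φ 0 (aug U W hle F s)).trans ?_
  rw [cochIso_aug]
  refine Eq.trans ?_ (cochIso_aug U W hle G (φ.app (op W) s)).symm
  funext x
  exact res_naturality F φ _ s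

/-- Sections map to Čech cohomology in degree zero. -/
noncomputable def toH0 (F : TopCat.Presheaf AddCommGrpCat.{u} X) :
    F.obj (op W) ⟶ (cechCx U F).homology 0 :=
  (cechCx U F).liftCycles (aug U W hle F) 1 (by simp) (aug_d U W hle F) ≫
    (cechCx U F).homologyπ 0

lemma toH0_naturality {F G : TopCat.Presheaf AddCommGrpCat.{u} X} (φ : F ⟶ G) :
    toH0 U W hle F ≫
        HomologicalComplex.homologyMap ((cechComplexFunctor (A := AddCommGrpCat.{u}) U).map φ) 0 =
      φ.app (op W) ≫ toH0 U W hle G := by
  rw [toH0, toH0, Category.assoc, HomologicalComplex.homologyπ_naturality, ← Category.assoc,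
    HomologicalComplex.liftCycles_comp_cyclesMap, ← Category.assoc]
  congr 1
  rw [← cancel_mono ((cechCx U G).iCycles 0), Category.assoc,
    HomologicalComplex.liftCycles_i, HomologicalComplex.liftCycles_i, aug_naturality]

lemma toH0_bijective (F : AbSheaf X) (hcov : W ≤ ⨆ i, U i) :
    Function.Bijective (toH0 U W hle F.obj) := by
  have hπ : Function.Bijective ((cechCx U F.obj).homologyπ 0) :=
    ConcreteCategory.bijective_of_isIso _
  have hi : Function.Injective ((cechCx U F.obj).iCycles 0) :=
    (AddCommGrpCat.mono_iff_injective _).mp inferInstance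
  let v : ι → Opens X := fun k => inter U (fun _ : Fin 1 => k)
  have hv : W ≤ ⨆ k, v k := by simpa [v, inter_one] using hcov
  refine hπ.comp ⟨fun s t h => ?_, fun c => ?_⟩
  · have h' := congrArg ((cechCx U F.obj).iCycles 0) h
    have hli := HomologicalComplex.liftCycles_i (cechCx U F.obj) (aug U W hle F.obj) 1 (by simp)
      (aug_d U W hle F.obj)
    have h'' := congrArg (cochIso U F.obj 0).hom
      (((ConcreteCategory.congr_hom hli s).symm.trans h').trans (ConcreteCategory.congr_hom hli t))
    rw [cochIso_aug, cochIso_aug] at h''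
    refine TopCat.Sheaf.eq_of_locally_eq' (X := X) F v W
      (fun k => homOfLE ((inter_le U _ 0).trans (hle k))) hv _ _ fun k => ?_
    exact congrFun h'' fun _ => k
  · obtain ⟨s, hs⟩ : ∃ s, augHom U W hle F.obj s =
        (cochIso U F.obj 0).hom ((cechCx U F.obj).iCycles 0 c) := by
      have hd : dCoch U F.obj 0 ((cochIso U F.obj 0).hom ((cechCx U F.obj).iCycles 0 c)) = 0 := by
        rw [← cochIso_d, ← ConcreteCategory.comp_apply ((cechCx U F.obj).iCycles 0),
          HomologicalComplex.iCycles_d]
        exact map_zero (cochIso U F.obj 1).hom.hom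
      generalize (cochIso U F.obj 0).hom ((cechCx U F.obj).iCycles 0 c) = q at hd ⊢
      obtain ⟨t, ht, -⟩ := TopCat.Sheaf.existsUnique_gluing' (X := X) F v W
        (fun k => homOfLE ((inter_le U _ 0).trans (hle k))) hv (fun k => q fun _ => k) (by
          intro k l
          have h0 := congrFun hd (Fin.cons k (fun _ => l))
          rw [dCoch_apply, Fin.sum_univ_two] at h0
          simp only [Fin.val_zero, pow_zero, one_smul, Fin.val_one, pow_one, neg_smul,
            Pi.zero_apply] at h0
          rw [add_neg_eq_zero] at h0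
          have hle' : v k ⊓ v l ≤ inter U (Fin.cons k (fun _ : Fin 1 => l)) := by
            rw [inter_cons]
            exact inf_le_inf_right _ (inter_le U _ 0)
          have h1 := congrArg (res F.obj hle') h0
          rw [res_res, res_res] at h1
          refine ((Coch.congr_res U F.obj q (V := v k ⊓ v l) ?_ inf_le_left (hle'.trans
            (inter_comp U _ _))).trans h1.symm).trans
            (Coch.congr_res U F.obj q (V := v k ⊓ v l) ?_ _ inf_le_right)
          · funext a
            obtain rfl := Fin.fin_one_eq_zero a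
            rfl
          · funext a
            obtain rfl := Fin.fin_one_eq_zero a
            rfl)
      refine ⟨t, funext fun x => ?_⟩
      obtain ⟨k, rfl⟩ : ∃ k, x = fun _ => k := ⟨x 0, funext fun a => by rw [Fin.fin_one_eq_zero a]⟩
      exact ht k
    refine ⟨s, hi ?_⟩
    refine (ConcreteCategory.congr_hom (HomologicalComplex.liftCycles_i (cechCx U F.obj)
      (aug U W hle F.obj) 1 (by simp) (aug_d U W hle F.obj)) s).trans ?_
    apply cochIso_injective U F.obj 0
    rw [cochIso_aug, hs]

end Aug

section Shift

variable {U} {F I Q : TopCat.Presheaf AddCommGrpCat.{u} X} {α : F ⟶ I} {β : I ⟶ Q}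

/-- The short complex of Čech complexes attached to two composable maps. -/
noncomputable def cechShortComplex (w : α ≫ β = 0) :
    ShortComplex (CochainComplex AddCommGrpCat.{u} ℕ) :=
  ShortComplex.mk ((cechComplexFunctor (A := AddCommGrpCat.{u}) U).map α)
    ((cechComplexFunctor (A := AddCommGrpCat.{u}) U).map β) (by
      ext n s
      apply cochIso_injective U Q n
      change (cochIso U Q n).hom (((cechComplexFunctor (A := AddCommGrpCat.{u}) U).map β).f n
        (((cechComplexFunctor (A := AddCommGrpCat.{u}) U).map α).f n s)) = _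
      rw [cochIso_naturality, cochIso_naturality]
      refine Eq.trans ?_ (map_zero (cochIso U Q n).hom.hom).symm
      funext x
      exact ConcreteCategory.congr_hom (congrArg (fun γ => NatTrans.app γ (op (inter U x))) w) _)

lemma cechShortComplex_shortExact (h : InterExact (U := U) α β) (w : α ≫ β = 0) :
    (cechShortComplex (U := U) w).ShortExact := by
  refine HomologicalComplex.shortExact_of_degreewise_shortExact _ fun n => ?_
  have hinj : Function.Injective (((cechComplexFunctor (A := AddCommGrpCat.{u}) U).map α).f n) :=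
    fun a b e => cochIso_injective U F n (h.mapCoch_injective n (by
      rw [← cochIso_naturality, ← cochIso_naturality, e]))
  have hsurj : Function.Surjective (((cechComplexFunctor (A := AddCommGrpCat.{u}) U).map β).f n) := by
    intro q
    obtain ⟨i, hi⟩ := h.lift ((cochIso U Q n).hom q)
    obtain ⟨i, rfl⟩ := cochIso_surjective U I n i
    exact ⟨i, cochIso_injective U Q n ((cochIso_naturality U β n i).trans hi)⟩
  refine ShortComplex.ShortExact.mk' ?_ ((AddCommGrpCat.mono_iff_injective _).mpr hinj)
    ((AddCommGrpCat.epi_iff_surjective _).mpr hsurj)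
  rw [ShortComplex.ab_exact_iff]
  intro (i : (cechCx U I).X n) hi
  obtain ⟨a, ha⟩ := h.mem (i := (cochIso U I n).hom i)
    ((cochIso_naturality U β n i).symm.trans
      ((congrArg (cochIso U Q n).hom hi).trans (map_zero (cochIso U Q n).hom.hom)))
  obtain ⟨a, rfl⟩ := cochIso_surjective U F n a
  exact ⟨a, cochIso_injective U I n ((cochIso_naturality U α n a).trans ha)⟩

end Shift

/-- Two surjections with the same kernel have isomorphic targets. -/
noncomputable def addEquivOfSameKer {A B C : Type*} [AddCommGroup A] [AddCommGroup B]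
    [AddCommGroup C] (f : A →+ B) (g : A →+ C) (hf : Function.Surjective f)
    (hg : Function.Surjective g) (h : f.ker = g.ker) : B ≃+ C :=
  ((QuotientAddGroup.quotientKerEquivOfSurjective f hf).symm.trans
    (QuotientAddGroup.quotientAddEquivOfEq h)).trans
    (QuotientAddGroup.quotientKerEquivOfSurjective g hg)

lemma hVanish_quotient {S : ShortComplex (AbSheaf X)} (hS : S.ShortExact) [Injective S.X₂]
    {W : Opens X} {n : ℕ} (h : HVanish S.X₁ (n + 2) W) : HVanish S.X₃ (n + 1) W :=
  subsingleton_of_forall_eq 0 fun x => by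
    obtain ⟨y, rfl⟩ := Ext.covariant_sequence_exact₃ (freeOpen W) hS x (n₁ := n + 2) rfl
      (h.elim _ _)
    rw [Ext.eq_zero_of_injective y, Ext.zero_comp]
    rfl

/-- Cohomology is invariant under shifting along an injective presentation. -/
noncomputable def equivHShift {S : ShortComplex (AbSheaf X)} (hS : S.ShortExact)
    [Injective S.X₂] (W : Opens X) (n : ℕ) :
    (Sheaf.H' S.X₃ (n + 1) W : Type u) ≃+ (Sheaf.H' S.X₁ (n + 2) W : Type u) :=
  AddEquiv.ofBijective (hS.extClass.postcomp (freeOpen W) (rfl : n + 1 + 1 = n + 2))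
    ⟨(injective_iff_map_eq_zero _).mpr fun x hx => by
      obtain ⟨y, rfl⟩ := Ext.covariant_sequence_exact₃ (freeOpen W) hS x (n₁ := n + 2) rfl hx
      rw [Ext.eq_zero_of_injective y, Ext.zero_comp]
      rfl,
    fun x => Ext.covariant_sequence_exact₁ (freeOpen W) hS x (Ext.eq_zero_of_injective _) rfl⟩

/-- All intersections of the family are acyclic for the sheaf. -/
def InterAcyclic (F : AbSheaf X) : Prop :=
  ∀ ⦃n : ℕ⦄ (x : Fin (n + 1) → ι) (q : ℕ), HVanish F (q + 1) (inter U x)

variable (W : Opens X)

/-- Leray's theorem: Čech cohomology of a covering with acyclic intersections. -/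
theorem nonempty_cech_equiv_H' (hle : ∀ i, U i ≤ W) (hcov : W ≤ ⨆ i, U i) (p : ℕ) :
    ∀ F : AbSheaf X, InterAcyclic U F →
      Nonempty (((cechCx U F.obj).homology p : Type u) ≃+ (Sheaf.H' F p W : Type u)) := by
  have h0 : ∀ F : AbSheaf X, ((cechCx U F.obj).homology 0 : Type u) ≃+ F.obj.obj (op W) :=
    fun F => (AddEquiv.ofBijective (toH0 U W hle F.obj).hom (toH0_bijective U W hle F hcov)).symm
  have w : ∀ F : AbSheaf X, (injPres F).f.hom ≫ (injPres F).g.hom = 0 :=
    fun F => congrArg (fun γ => γ.hom) (injPres F).zero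
  have hex : ∀ F : AbSheaf X, InterAcyclic U F →
      InterExact (U := U) (injPres F).f.hom (injPres F).g.hom := fun F hF =>
    ⟨interLeftExact (injPres_shortExact F) U, fun x => sections_surjective (injPres_shortExact F)
      (hF x 0)⟩
  have hsh : ∀ (F : AbSheaf X) (hF : InterAcyclic U F),
      (cechShortComplex (U := U) (w F)).ShortExact := fun F hF =>
    cechShortComplex_shortExact (hex F hF) (w F)
  have hIz : ∀ (F : AbSheaf X) (q : ℕ),
      IsZero ((cechShortComplex (U := U) (w F)).X₂.homology (q + 1)) := fun F q =>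
    (isZero_homology_iff U _ q).mpr (cechExact_of_injective _ U q)
  have hQ : ∀ (F : AbSheaf X), InterAcyclic U F → InterAcyclic U (injPres F).X₃ :=
    fun F hF n x q => hVanish_quotient (injPres_shortExact F) (hF x (q + 1))
  induction p with
  | zero => exact fun F _ => ⟨(h0 F).trans (Ext.addEquiv₀.trans (homFreeOpen W F)).symm⟩
  | succ p ih =>
    intro F hF
    rcases p with _ | p
    · have hS := injPres_shortExact F
      -- the two boundary maps on the sections of the quotient
      let a : (injPres F).X₃.obj.obj (op W) →+ ((cechCx U F.obj).homology 1 : Type u) :=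
        (toH0 U W hle _ ≫ (hsh F hF).δ 0 1 rfl).hom
      let b : (injPres F).X₃.obj.obj (op W) →+ (Sheaf.H' F 1 W : Type u) :=
        (hS.extClass.postcomp (freeOpen W) (zero_add 1)).comp
          (Ext.addEquiv₀.trans (homFreeOpen W (injPres F).X₃)).symm.toAddMonoidHom
      refine ⟨addEquivOfSameKer a b ?_ ?_ ?_⟩
      · have : Epi ((hsh F hF).δ 0 1 rfl) := (hsh F hF).epi_δ 0 1 rfl (hIz F 0)
        exact ((AddCommGrpCat.epi_iff_surjective _).mp this).comp
          (toH0_bijective U W hle _ hcov).2
      · intro y
        obtain ⟨z, hz⟩ := Ext.covariant_sequence_exact₁ (freeOpen W) hS y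
          (Ext.eq_zero_of_injective _) (zero_add 1)
        exact ⟨(Ext.addEquiv₀.trans (homFreeOpen W _)) z,
          (congrArg (hS.extClass.postcomp (freeOpen W) (zero_add 1))
            ((Ext.addEquiv₀.trans (homFreeOpen W (injPres F).X₃)).symm_apply_apply z)).trans hz⟩
      · have e1 : ∀ q, q ∈ a.ker ↔ ∃ s, (injPres F).g.hom.app (op W) s = q := by
          intro q
          constructor
          · intro hq
            obtain ⟨z, hz⟩ := (ShortComplex.ab_exact_iff _).mp
              ((hsh F hF).homology_exact₃ 0 1 rfl) (toH0 U W hle _ q) hq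
            obtain ⟨s, rfl⟩ := (toH0_bijective U W hle (injPres F).X₂ hcov).2 z
            refine ⟨s, (toH0_bijective U W hle (injPres F).X₃ hcov).1 ?_⟩
            exact (ConcreteCategory.congr_hom (toH0_naturality U W hle (injPres F).g.hom) s).symm.trans hz
          · rintro ⟨s, rfl⟩
            change ((injPres F).g.hom.app (op W) ≫ toH0 U W hle _ ≫ (hsh F hF).δ 0 1 rfl) s = 0
            have hz : (injPres F).g.hom.app (op W) ≫ toH0 U W hle _ ≫ (hsh F hF).δ 0 1 rfl = 0 :=
              (Category.assoc _ _ _).symm.trans
                ((congrArg (· ≫ (hsh F hF).δ 0 1 rfl) (toH0_naturality U W hle _).symm).trans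
                  ((Category.assoc _ _ _).trans
                    ((congrArg (toH0 U W hle _ ≫ ·) ((hsh F hF).comp_δ 0 1 rfl)).trans comp_zero)))
            exact ConcreteCategory.congr_hom hz s
        have e2 : ∀ q, q ∈ b.ker ↔ ∃ s, (injPres F).g.hom.app (op W) s = q := by
          intro q
          constructor
          · intro hq
            obtain ⟨z, hz⟩ := Ext.covariant_sequence_exact₃ (freeOpen W) hS _ (zero_add 1) hq
            refine ⟨homFreeOpen W _ (Ext.addEquiv₀ z), ?_⟩
            rw [← homFreeOpen_comp]
            refine Eq.trans (congrArg (homFreeOpen W _) ?_)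
              ((Ext.addEquiv₀.trans (homFreeOpen W (injPres F).X₃)).apply_symm_apply q)
            refine Eq.trans ?_ (congrArg Ext.addEquiv₀ hz)
            apply (Ext.mk₀_bijective _ _).injective
            rw [← Ext.mk₀_comp_mk₀, Ext.mk₀_addEquiv₀_apply, Ext.mk₀_addEquiv₀_apply]
          · rintro ⟨s, rfl⟩
            change Ext.comp (Ext.mk₀ ((homFreeOpen W _).symm ((injPres F).g.hom.app (op W) s)))
              hS.extClass (zero_add 1) = 0
            rw [show (homFreeOpen W _).symm ((injPres F).g.hom.app (op W) s) =
              (homFreeOpen W _).symm s ≫ (injPres F).g from (homFreeOpen W _).injective (by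
                rw [homFreeOpen_comp, AddEquiv.apply_symm_apply, AddEquiv.apply_symm_apply]),
              ← Ext.mk₀_comp_mk₀, Ext.comp_assoc_of_second_deg_zero, hS.comp_extClass,
              Ext.comp_zero]
        ext q
        rw [e1, e2]
    · obtain ⟨e⟩ := ih (injPres F).X₃ (hQ F hF)
      exact ⟨(((hsh F hF).δIso (p + 1) (p + 2) rfl (hIz F p)
        (hIz F (p + 1))).addCommGroupIsoToAddEquiv.symm.trans e).trans
          (equivHShift (injPres_shortExact F) W p)⟩

end Groth.CohBase
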