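import Groth.Agent.CohBase.SecHomology

/-!
# Higher direct images: sections over affines, quasi-coherence, comparison with abelian sheaves
-/

universe u

open CategoryTheory Limits AlgebraicGeometry TopologicalSpace Opposite
open CategoryTheory.Abelian (Ext)
open Groth.QCohMod (resFun resFun_resFun resFun_self res_app appₗ)

namespace Groth.CohBase

variable {X S : Scheme.{u}} (f : X ⟶ S) {M : X.Modules} (I : InjectiveResolution M) (p : ℕ)

/-- The direct image of a resolution. -/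
noncomputable abbrev pushCx : CochainComplex S.Modules ℕ :=
  ((Coh.push f).mapHomologicalComplex (ComplexShape.up ℕ)).obj I.cocomplex

/-- Cocycles over a preimage as cocycles of the direct image. -/
noncomputable def pushCyc (V : S.Opens) :
    (Res.ofInjective I).Cyc (f ⁻¹ᵁ V) p →+
      LinearMap.ker (appₗ ((pushCx f I).d p (p + 1)) V) where
  toFun z := ⟨z.1, z.2⟩
  map_zero' := rfl
  map_add' _ _ := rfl

lemma pushCyc_bijective (V : S.Opens) : Function.Bijective (pushCyc f I p V) :=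
  ⟨fun _ _ h => Subtype.ext (congrArg Subtype.val h :), fun z => ⟨⟨z.1, z.2⟩, rfl⟩⟩

lemma mem_range_d_iff (W : S.Opens) (z : Γ((pushCx f I).X p, W)) :
    (∃ w, ((pushCx f I).d ((ComplexShape.up ℕ).prev p) p).app W w = z) ↔
      (show Γ(I.cocomplex.X p, f ⁻¹ᵁ W) from z) ∈ (Res.ofInjective I).Bd (f ⁻¹ᵁ W) p := by
  cases p with
  | zero =>
    refine Iff.trans ?_ (Res.mem_bd_zero (R := Res.ofInjective I)).symm
    have h0 : (pushCx f I).d ((ComplexShape.up ℕ).prev 0) 0 = 0 :=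
      (pushCx f I).shape _ _ (by simp)
    rw [h0]
    exact ⟨fun ⟨_, hw⟩ => hw.symm, fun h => ⟨0, h.symm⟩⟩
  | succ p =>
    suffices h : ∀ i, i = p → ((∃ w, ((pushCx f I).d i (p + 1)).app W w = z) ↔
        (show Γ(I.cocomplex.X (p + 1), f ⁻¹ᵁ W) from z) ∈
          (Res.ofInjective I).Bd (f ⁻¹ᵁ W) (p + 1)) from h _ (CochainComplex.prev_nat_succ p)
    rintro i rfl
    exact Iff.rfl

/-- The class of a cocycle in the sections of the homology of the direct image. -/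
noncomputable def θH (V : S.Opens) :
    (Res.ofInjective I).Cyc (f ⁻¹ᵁ V) p →+ Γ((pushCx f I).homology p, V) :=
  (θ (pushCx f I) p V).toAddMonoidHom.comp (pushCyc f I p V)

lemma θH_res {V W : S.Opens} (h : W ≤ V) (z : (Res.ofInjective I).Cyc (f ⁻¹ᵁ V) p) :
    QCohMod.res ((pushCx f I).homology p) h (θH f I p V z) =
      θH f I p W ⟨QCohMod.res _ (f.preimage_mono h) z.1, Res.res_mem_cyc _ z.2⟩ :=
  θ_res (pushCx f I) p h _

lemma θH_smul (V : S.Opens) (r : Γ(S, V)) (z : (Res.ofInjective I).Cyc (f ⁻¹ᵁ V) p) :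
    θH f I p V ((f.app V).hom r • z) = r • θH f I p V z := by
  refine Eq.trans ?_ ((θ (pushCx f I) p V).map_smul r (pushCyc f I p V z))
  exact congrArg (θ (pushCx f I) p V) (Subtype.ext rfl)

lemma θH_exists_local {V : S.Opens} (s : Γ((pushCx f I).homology p, V)) (x : S) (hx : x ∈ V) :
    ∃ (W : S.Opens) (h : W ≤ V) (z : (Res.ofInjective I).Cyc (f ⁻¹ᵁ W) p),
      x ∈ W ∧ θH f I p W z = QCohMod.res ((pushCx f I).homology p) h s := by
  obtain ⟨W, h, z, hxW, hz⟩ := θ_exists_local (pushCx f I) p s x hx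
  obtain ⟨z, rfl⟩ := (pushCyc_bijective f I p W).2 z
  exact ⟨W, h, z, hxW, hz⟩

lemma θH_eq_zero_iff {V : S.Opens} (z : (Res.ofInjective I).Cyc (f ⁻¹ᵁ V) p) :
    θH f I p V z = 0 ↔ ∀ x ∈ V, ∃ (W : S.Opens) (h : W ≤ V), x ∈ W ∧
      QCohMod.res _ (f.preimage_mono h) z.1 ∈ (Res.ofInjective I).Bd (f ⁻¹ᵁ W) p := by
  refine (θ_zero_local (pushCx f I) p (pushCyc f I p V z)).trans ?_
  refine forall₂_congr fun x _ => exists_congr fun W => exists_congr fun h => ?_
  exact ⟨fun ⟨hx, hw⟩ => ⟨hx, (mem_range_d_iff f I p W _).1 hw⟩,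
    fun ⟨hx, hw⟩ => ⟨hx, (mem_range_d_iff f I p W _).2 hw⟩⟩

lemma θH_eq_zero_of_bd {V : S.Opens} (z : (Res.ofInjective I).Cyc (f ⁻¹ᵁ V) p)
    (h : z.1 ∈ (Res.ofInjective I).Bd (f ⁻¹ᵁ V) p) : θH f I p V z = 0 :=
  (θH_eq_zero_iff f I p z).2 fun x hx => ⟨V, le_rfl, hx, Res.res_mem_bd _ h⟩

section QCQS

variable [QuasiCompact f] [QuasiSeparated f] [M.IsQuasicoherent]

lemma locAt_preimage {V : S.Opens} (hV : IsAffineOpen V) :
    (Res.ofInjective I).LocAt (f ⁻¹ᵁ V) := by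
  have : (Res.ofInjective I).Y.IsQuasicoherent := inferInstanceAs M.IsQuasicoherent
  refine Res.locAt_of_isCompact (flasque_ofInjective I) _
    (QuasiCompact.isCompact_preimage _ V.2 hV.isCompact) ?_
  have : IsAffine V.toScheme := hV
  have : QuasiSeparatedSpace (f ⁻¹ᵁ V).toScheme := quasiSeparatedSpace_of_quasiSeparated (f ∣_ V)
  exact (isQuasiSeparated_iff_quasiSeparatedSpace ((f ⁻¹ᵁ V : X.Opens) : Set X) (f ⁻¹ᵁ V).2).mpr this

lemma locPair_preimage {V : S.Opens} (hV : IsAffineOpen V) (g : Γ(S, V)) :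
    (Res.ofInjective I).LocPair (f.preimage_mono (S.basicOpen_le g)) ((f.app V).hom g) p :=
  locAt_preimage f I hV _ _ _ (Scheme.preimage_basicOpen f g) p

lemma resFun_app {V W : S.Opens} (h : W ≤ V) (g : Γ(S, V)) :
    (f.app W).hom (resFun S h g) = resFun X (f.preimage_mono h) ((f.app V).hom g) :=
  ConcreteCategory.congr_hom (f.naturality (homOfLE h).op) g

/-- Over an affine open the kernel consists of coboundaries. -/
lemma θH_ker {V : S.Opens} (hV : IsAffineOpen V) (z : (Res.ofInjective I).Cyc (f ⁻¹ᵁ V) p)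
    (hz : θH f I p V z = 0) : z.1 ∈ (Res.ofInjective I).Bd (f ⁻¹ᵁ V) p := by
  let J : Ideal Γ(S, V) := Ideal.comap (f.app V).hom
    (((Res.ofInjective I).Bd (f ⁻¹ᵁ V) p).comap
      (LinearMap.toSpanSingleton Γ(X, f ⁻¹ᵁ V) _ z.1))
  suffices hJ : J = ⊤ by
    have h1 : ((f.app V).hom 1) • z.1 ∈ (Res.ofInjective I).Bd (f ⁻¹ᵁ V) p :=
      (hJ.ge (Submodule.mem_top : (1 : Γ(S, V)) ∈ ⊤) :)
    rwa [map_one, one_smul] at h1
  have hloc : ∀ x : V, ∃ g : Γ(S, V), x.1 ∈ S.basicOpen g ∧ ∃ n : ℕ, g ^ n ∈ J := fun x => by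
    obtain ⟨W, h, hxW, hW⟩ := (θH_eq_zero_iff f I p z).1 hz x.1 x.2
    obtain ⟨g, hgW, hxg⟩ := hV.exists_basicOpen_le (V := W) ⟨x.1, hxW⟩ x.2
    refine ⟨g, hxg, ?_⟩
    obtain ⟨n, hn⟩ := (locPair_preimage f I p hV g).inj z.1 z.2 (by
      have := Res.res_mem_bd (f.preimage_mono hgW) hW
      rwa [QCohMod.res_res] at this)
    refine ⟨n, ?_⟩
    change ((f.app V).hom (g ^ n)) • z.1 ∈ (Res.ofInjective I).Bd (f ⁻¹ᵁ V) p
    rwa [map_pow]
  choose g hgx hg using hloc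
  have hspan : Ideal.span (Set.range g) = ⊤ :=
    hV.self_le_iSup_basicOpen_iff.mp fun x hx =>
      Opens.mem_iSup.mpr ⟨⟨g ⟨x, hx⟩, ⟨x, hx⟩, rfl⟩, hgx ⟨x, hx⟩⟩
  refine Ideal.radical_eq_top.mp (top_le_iff.mp (hspan.ge.trans (Ideal.span_le.2 ?_)))
  rintro _ ⟨x, rfl⟩
  exact hg x

/-- Over an affine open every section of the homology comes from a cocycle. -/
lemma θH_surjective {V : S.Opens} (hV : IsAffineOpen V) :
    Function.Surjective (θH f I p V) := by
  intro s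
  let J : Ideal Γ(S, V) :=
    { carrier := {r | ∃ z, θH f I p V z = r • s}
      add_mem' := fun ⟨a, ha⟩ ⟨b, hb⟩ => ⟨a + b, by rw [map_add, ha, hb, add_smul]⟩
      zero_mem' := ⟨0, by rw [map_zero, zero_smul]⟩
      smul_mem' := fun c r ⟨a, ha⟩ =>
        ⟨(f.app V).hom c • a, by rw [θH_smul, ha, smul_eq_mul, mul_smul]⟩ }
  suffices hJ : J = ⊤ by
    obtain ⟨z, hz⟩ := (hJ.ge (Submodule.mem_top : (1 : Γ(S, V)) ∈ ⊤) :)
    exact ⟨z, hz.trans (one_smul _ s)⟩
  have hloc : ∀ x : V, ∃ g : Γ(S, V), x.1 ∈ S.basicOpen g ∧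
      ∃ η, θH f I p (S.basicOpen g) η = QCohMod.res _ (S.basicOpen_le g) s := fun x => by
    obtain ⟨W, h, z, hxW, hz⟩ := θH_exists_local f I p s x.1 x.2
    obtain ⟨g, hgW, hxg⟩ := hV.exists_basicOpen_le (V := W) ⟨x.1, hxW⟩ x.2
    refine ⟨g, hxg, ⟨_, Res.res_mem_cyc (f.preimage_mono hgW) z.2⟩, ?_⟩
    rw [← θH_res f I p hgW, hz, QCohMod.res_res]
  choose g hgx η hη using hloc
  obtain ⟨t, ht⟩ := hV.isCompact.elim_finite_subcover (fun x : V => (S.basicOpen (g x) : Set S))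
    (fun x => (S.basicOpen (g x)).2) (fun x hx => Set.mem_iUnion.mpr ⟨⟨x, hx⟩, hgx ⟨x, hx⟩⟩)
  -- a section vanishing on a basic open is killed by a power
  have kill : ∀ (g₀ : Γ(S, V)) (e : Γ((pushCx f I).homology p, V))
      (_ : ∀ x : V, ∃ η', θH f I p (S.basicOpen (g x)) η' =
        QCohMod.res _ (S.basicOpen_le (g x)) e),
      QCohMod.res _ (S.basicOpen_le g₀) e = 0 → ∃ m : ℕ, g₀ ^ m • e = 0 := by
    intro g₀ e hloc he
    choose η' hη' using hloc
    have hm : ∀ x : V, ∃ m : ℕ,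
        QCohMod.res _ (S.basicOpen_le (g x)) (g₀ ^ m • e) = 0 := by
      intro x
      let g₁ := resFun S (S.basicOpen_le (g x)) g₀
      have hb : S.basicOpen g₁ ≤ S.basicOpen g₀ := by
        rw [show S.basicOpen g₁ = S.basicOpen (g x) ⊓ S.basicOpen g₀ from S.basicOpen_res _ _]
        exact inf_le_right
      have h0 := θH_ker f I p ((hV.basicOpen (g x)).basicOpen g₁) _
        ((θH_res f I p (S.basicOpen_le g₁) (η' x)).symm.trans (by
          rw [hη' x, QCohMod.res_res, ← QCohMod.res_res _ (S.basicOpen_le g₀) hb, he, map_zero]))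
      obtain ⟨m, hm⟩ := (locPair_preimage f I p (hV.basicOpen (g x)) g₁).inj _ (η' x).2 h0
      refine ⟨m, ?_⟩
      rw [QCohMod.res_smul, map_pow, ← hη' x, ← θH_smul]
      refine θH_eq_zero_of_bd f I p _ ?_
      change (f.app _).hom (g₁ ^ m) • (η' x).1 ∈ _
      rwa [map_pow]
    choose m hm using hm
    refine ⟨t.sup m, CohTwo.eq_of_local _ _ _ fun y hy => ?_⟩
    obtain ⟨x, hx, hyx⟩ := Set.mem_iUnion₂.mp (ht hy)
    refine ⟨S.basicOpen (g x), S.basicOpen_le _, hyx, ?_⟩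
    change QCohMod.res _ (S.basicOpen_le (g x)) _ = QCohMod.res _ (S.basicOpen_le (g x)) 0
    obtain ⟨k, hk⟩ := Nat.le.dest (Finset.le_sup (f := m) hx)
    rw [map_zero, ← hk, pow_add, mul_comm, mul_smul, QCohMod.res_smul, hm x, smul_zero]
  have hg : ∀ x : V, g x ∈ J.radical := by
    intro x
    obtain ⟨n, y, hy, hyb⟩ := (locPair_preimage f I p hV (g x)).surj (η x).1 (η x).2
    let r := resFun S (S.basicOpen_le (g x)) (g x)
    have e0 : QCohMod.res _ (S.basicOpen_le (g x)) (θH f I p V ⟨y, hy⟩ - g x ^ n • s) = 0 := by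
      rw [map_sub, θH_res, QCohMod.res_smul, ← hη x, ← θH_smul, ← map_sub]
      refine θH_eq_zero_of_bd f I p _ ?_
      change QCohMod.res _ _ y -
        (f.app (S.basicOpen (g x))).hom (resFun S (S.basicOpen_le (g x)) (g x ^ n)) • (η x).1 ∈ _
      rw [resFun_app, map_pow, map_pow]
      exact hyb
    obtain ⟨m, hm⟩ := kill (g x) (θH f I p V ⟨y, hy⟩ - g x ^ n • s) (fun x' =>
      ⟨⟨_, Res.res_mem_cyc (f.preimage_mono (S.basicOpen_le (g x'))) hy⟩ -
        (f.app (S.basicOpen (g x'))).hom (resFun S (S.basicOpen_le (g x')) (g x ^ n)) • η x', by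
      rw [map_sub, map_sub, θH_res, QCohMod.res_smul, θH_smul, hη x']⟩) e0
    refine ⟨m + n, (f.app V).hom (g x ^ m) • ⟨y, hy⟩, ?_⟩
    rw [θH_smul, pow_add, mul_smul]
    rw [smul_sub, sub_eq_zero] at hm
    exact hm
  have hspan : Ideal.span (Set.range g) = ⊤ :=
    hV.self_le_iSup_basicOpen_iff.mp fun x hx =>
      Opens.mem_iSup.mpr ⟨⟨g ⟨x, hx⟩, ⟨x, hx⟩, rfl⟩, hgx ⟨x, hx⟩⟩
  refine Ideal.radical_eq_top.mp (top_le_iff.mp (hspan.ge.trans (Ideal.span_le.2 ?_)))
  rintro _ ⟨x, rfl⟩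
  exact hg x

/-- The homology of the direct image is quasi-coherent. -/
theorem isQCoh_homology_pushCx : ((pushCx f I).homology p).IsQuasicoherent := by
  refine QCohMod.isQCoh_of_forall_affine _ (fun V hV g s => ?_) (fun V hV g t ht => ?_)
  · obtain ⟨η, rfl⟩ := θH_surjective f I p (hV.basicOpen g) s
    obtain ⟨n, y, hy, hyb⟩ := (locPair_preimage f I p hV g).surj η.1 η.2
    refine ⟨n, θH f I p V ⟨y, hy⟩, sub_eq_zero.1 ?_⟩
    rw [θH_res, ← map_pow, ← θH_smul, ← map_sub]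
    refine θH_eq_zero_of_bd f I p _ ?_
    change QCohMod.res _ _ y - (f.app (S.basicOpen g)).hom
      (resFun S (S.basicOpen_le g) (g ^ n)) • η.1 ∈ _
    rw [resFun_app, map_pow, map_pow]
    exact hyb
  · obtain ⟨z, rfl⟩ := θH_surjective f I p hV t
    obtain ⟨n, hn⟩ := (locPair_preimage f I p hV g).inj z.1 z.2
      (θH_ker f I p (hV.basicOpen g) _ ((θH_res f I p (S.basicOpen_le g) z).symm.trans ht))
    refine ⟨n, ?_⟩
    rw [← θH_smul]
    refine θH_eq_zero_of_bd f I p _ ?_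
    change (f.app V).hom (g ^ n) • z.1 ∈ _
    rwa [map_pow]

/-- The sections over an affine open of the higher direct image. -/
theorem nonempty_sections_equiv {V : S.Opens} (hV : IsAffineOpen V) :
    Nonempty (Γ((pushCx f I).homology p, V) ≃+
      (Sheaf.H' (abSheaf M) p (f ⁻¹ᵁ V) : Type u)) := by
  refine ⟨addEquivOfSameKer (θH f I p V) (Res.clsH (Res.ofInjective I) (f ⁻¹ᵁ V) p)
    (θH_surjective f I p hV) (Res.clsH_surjective (flasque_ofInjective I) _ _) ?_⟩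
  ext z
  exact ⟨fun h => (Res.clsH_eq_zero_iff (flasque_ofInjective I) _ _ z).2 (θH_ker f I p hV z h),
    fun h => θH_eq_zero_of_bd f I p z
      ((Res.clsH_eq_zero_iff (flasque_ofInjective I) _ _ z).1 h)⟩

/-- The higher direct image vanishes when the cohomology of the preimages of a cover does. -/
theorem isZero_homology_pushCx
    (h : ∀ x : S, ∃ V : S.Opens, IsAffineOpen V ∧ x ∈ V ∧
      HVanish (X := X.toTopCat) (abSheaf M) p (f ⁻¹ᵁ V)) :
    IsZero ((pushCx f I).homology p) := by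
  have := isQCoh_homology_pushCx f I p
  refine (QCohMod.isZero_iff_stalk _).2 fun x => ?_
  obtain ⟨V, hV, hx, hvan⟩ := h x
  obtain ⟨e⟩ := nonempty_sections_equiv f I p hV
  have : Subsingleton Γ((pushCx f I).homology p, V) := @Equiv.subsingleton _ _ e.toEquiv hvan
  refine @AddCommGrpCat.isZero_of_subsingleton _ (subsingleton_of_forall_eq 0
    fun (t : ((pushCx f I).homology p).presheaf.stalk x) => ?_)
  obtain ⟨a, s, ha, hs⟩ := QCohMod.exists_smul_germ_eq ((pushCx f I).homology p) hV x hx t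
  rw [Subsingleton.elim s 0, map_zero] at hs
  obtain ⟨v, hv⟩ := (Scheme.mem_basicOpen S a x hx).1 ha
  rw [← one_smul (S.presheaf.stalk x) t, ← v.inv_mul, mul_smul, hv]
  exact (congrArg (fun b : ((pushCx f I).homology p).presheaf.stalk x =>
    (↑v⁻¹ : S.presheaf.stalk x) • b) hs).trans (smul_zero _)

end QCQS

end Groth.CohBase
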