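import Groth.Agent.CohBase.FlatBC.TauAffine
import Groth.Agent.CohBase.FlatBC.Glue
import Groth.Agent.QCohMod.QCQS

/-!
# Base change for affine morphisms
-/

universe u

open CategoryTheory Limits AlgebraicGeometry TopologicalSpace Opposite
open scoped TensorProduct
open Groth.QCohMod (sectionsAlg)
open Groth.PicAux (pullSec)

namespace Groth.CohBase.AffineBC

variable {X S X' S' : Scheme.{u}} {f : X ⟶ S} {g : S' ⟶ S} {g' : X' ⟶ X} {f' : X' ⟶ S'}

/-- The adjoint of the base change map. -/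
noncomputable def gamma (w : g' ≫ f = f' ≫ g) (M : X.Modules) :
    (Scheme.Modules.pushforward f).obj M ⟶ (Scheme.Modules.pushforward g).obj
      ((Scheme.Modules.pushforward f').obj ((Scheme.Modules.pullback g').obj M)) :=
  (Scheme.Modules.pushforward f).map ((Scheme.Modules.pullbackPushforwardAdjunction g').unit.app M) ≫
    (Scheme.Modules.pushforwardComp g' f).hom.app _ ≫
      (Scheme.Modules.pushforwardCongr w).hom.app _ ≫
        (Scheme.Modules.pushforwardComp f' g).inv.app _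

/-- The base change map. -/
noncomputable def bcHom (w : g' ≫ f = f' ≫ g) (M : X.Modules) :
    (Scheme.Modules.pullback g).obj ((Scheme.Modules.pushforward f).obj M) ⟶
      (Scheme.Modules.pushforward f').obj ((Scheme.Modules.pullback g').obj M) :=
  ((Scheme.Modules.pullbackPushforwardAdjunction g).homEquiv _ _).symm (gamma w M)

lemma bcHom_pullSec (w : g' ≫ f = f' ≫ g) (M : X.Modules) {V : S.Opens} {V' : S'.Opens}
    (e : V' ≤ g ⁻¹ᵁ V) (e₁ : f' ⁻¹ᵁ V' ≤ g' ⁻¹ᵁ (f ⁻¹ᵁ V)) (s : Γ(M, f ⁻¹ᵁ V)) :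
    (bcHom w M).app V' (QCohMod.res _ e (pullSec g ((Scheme.Modules.pushforward f).obj M) s)) =
      QCohMod.res ((Scheme.Modules.pullback g').obj M) e₁ (pullSec g' M s) := by
  have hu := ((Scheme.Modules.pullbackPushforwardAdjunction g).homEquiv_unit
      (f := bcHom w M)).symm.trans
    (((Scheme.Modules.pullbackPushforwardAdjunction g).homEquiv _ _).apply_symm_apply (gamma w M))
  have h1 : (bcHom w M).app (g ⁻¹ᵁ V) (pullSec g ((Scheme.Modules.pushforward f).obj M) s) =
      (gamma w M).app V s :=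
    ConcreteCategory.congr_hom (congrArg (fun γ => Scheme.Modules.Hom.app γ V) hu) s
  refine (QCohMod.res_app (bcHom w M) e _).symm.trans ((congrArg _ h1).trans ?_)
  exact QCohMod.res_res ((Scheme.Modules.pullback g').obj M) _ (f'.preimage_mono e) _

/-- Base change for affine morphisms. -/
theorem nonempty_affine_bc (sq : IsPullback g' f' f g) [IsAffineHom f] (M : X.Modules)
    [M.IsQuasicoherent] :
    Nonempty ((Scheme.Modules.pullback g).obj ((Scheme.Modules.pushforward f).obj M) ≅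
      (Scheme.Modules.pushforward f').obj ((Scheme.Modules.pullback g').obj M)) := by
  have : IsAffineHom f' := MorphismProperty.of_isPullback sq inferInstance
  have := QCohMod.isQCoh_pushforward M f
  suffices IsIso (bcHom sq.w M) from ⟨asIso (bcHom sq.w M)⟩
  refine FlatBC.isIso_of_local_bijective _ fun x W hxW => ?_
  obtain ⟨_, ⟨V, hV, rfl⟩, hxV, -⟩ :=
    S.isBasis_affineOpens.exists_subset_of_mem_open (Set.mem_univ (g x)) isOpen_univ
  obtain ⟨_, ⟨V', hV', rfl⟩, hxV', hle⟩ :=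
    S'.isBasis_affineOpens.exists_subset_of_mem_open (show x ∈ W ⊓ g ⁻¹ᵁ V from ⟨hxW, hxV⟩)
      (W ⊓ g ⁻¹ᵁ V).2
  refine ⟨V', fun y hy => (hle hy).1, hxV', ?_⟩
  have e : V' ≤ g ⁻¹ᵁ V := fun y hy => (hle hy).2
  let U := f ⁻¹ᵁ V
  let U' := f' ⁻¹ᵁ V'
  have hU : IsAffineOpen U := hV.preimage f
  have hU'a : IsAffineOpen U' := hV'.preimage f'
  have eU : U ≤ f ⁻¹ᵁ V := le_rfl
  have e₂ : U' ≤ f' ⁻¹ᵁ V' := le_rfl
  have e₁ : U' ≤ g' ⁻¹ᵁ U := FlatBC.preimage_le sq e
  have hU' : U' = g' ⁻¹ᵁ U ⊓ f' ⁻¹ᵁ V' := (inf_eq_right.2 e₁).symm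
  have hp := (isIso_pushoutSection_iff sq e eU hU').1
    (isIso_pushoutSection_of_isAffineOpen sq e eU hU' hV hV' hU)
  let := sectionsAlg f eU
  let := sectionsAlg g e
  let := sectionsAlg g' e₁
  let := sectionsAlg f' e₂
  let : Algebra Γ(S, V) Γ(X', U') :=
    ((g'.appLE U U' e₁).hom.comp (f.appLE V U eU).hom).toAlgebra
  have : IsScalarTower Γ(S, V) Γ(X, U) Γ(X', U') := .of_algebraMap_eq fun _ => rfl
  have : IsScalarTower Γ(S, V) Γ(S', V') Γ(X', U') :=
    .of_algebraMap_eq fun r => (FlatBC.appLE_sq sq.w e eU e₁ e₂ r).symm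
  have hp' : Algebra.IsPushout Γ(S, V) Γ(X, U) Γ(S', V') Γ(X', U') :=
    CommRingCat.isPushout_iff_isPushout.1 hp
  have : Algebra.IsPushout Γ(S, V) Γ(S', V') Γ(X, U) Γ(X', U') := hp'.symm
  let P := (Scheme.Modules.pushforward f).obj M
  let N := (Scheme.Modules.pullback g').obj M
  let T := (Scheme.Modules.pushforward f').obj N
  have hsm : ∀ (r : Γ(S, V)) (s : Γ(P, V)), (show Γ(M, U) from r • s) =
      f.appLE V U eU r • (show Γ(M, U) from s) := fun r s => by
    rw [Scheme.Hom.appLE_eq_app]; rfl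
  have hsm' : ∀ (b : Γ(S', V')) (s : Γ(T, V')), (show Γ(N, U') from b • s) =
      f'.appLE V' U' e₂ b • (show Γ(N, U') from s) := fun r s => by
    rw [Scheme.Hom.appLE_eq_app]; rfl
  let : Module Γ(S, V) Γ(M, U) := Module.compHom _ (f.appLE V U eU).hom
  have : IsScalarTower Γ(S, V) Γ(X, U) Γ(M, U) := .of_algebraMap_smul fun _ _ => rfl
  let ident : Γ(P, V) ≃ₗ[Γ(S, V)] Γ(M, U) :=
    { AddEquiv.refl Γ(M, U) with map_smul' := fun r s => hsm r s }
  let c := LinearEquiv.lTensor Γ(S', V') ident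
  let a := (Algebra.IsPushout.cancelBaseChange Γ(S, V) Γ(S', V') Γ(X, U) Γ(X', U') Γ(M, U)).symm
  have key : ∀ z : Γ(S', V') ⊗[Γ(S, V)] Γ(P, V),
      (bcHom sq.w M).app V' (QCohMod.pullSecTensor g P e z) =
        QCohMod.pullSecTensor g' M e₁ (a (c z)) := by
    intro z
    induction z using TensorProduct.induction_on with
    | zero =>
      simp only [map_zero]
      rfl
    | add p q hp hq =>
      simp only [map_add]
      rw [hp, hq]
      rfl
    | tmul b s =>
      rw [QCohMod.pullSecTensor_tmul, Scheme.Modules.Hom.app_smul, bcHom_pullSec sq.w M e e₁]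
      refine (hsm' b _).trans ?_
      change _ = QCohMod.pullSecTensor g' M e₁ (a (b ⊗ₜ (show Γ(M, U) from s)))
      rw [Algebra.IsPushout.cancelBaseChange_symm_tmul, QCohMod.pullSecTensor_tmul]
      rfl
  have h1 : Function.Bijective
      ((QCohMod.pullSecTensor g' M e₁) ∘ (fun z => a (c z))) :=
    (QCohMod.pullSecTensor_bijective g' M e₁ hU hU'a).comp (a.bijective.comp c.bijective)
  have h2 : Function.Bijective (((bcHom sq.w M).app V') ∘ QCohMod.pullSecTensor g P e) := by
    rw [show (((bcHom sq.w M).app V') ∘ QCohMod.pullSecTensor g P e : _ → _) =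
      (QCohMod.pullSecTensor g' M e₁) ∘ (fun z => a (c z)) from funext key]
    exact h1
  exact ((QCohMod.pullSecTensor_bijective g P e hV hV').of_comp_iff _).1 h2

end Groth.CohBase.AffineBC
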