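import Groth.Agent.CohBase.LinearSec
import Groth.Agent.CohBase.CechScheme
import Groth.Agent.CohTwo.Glue

/-!
# The Čech resolution of a module, natural in the module
-/

universe u

open CategoryTheory Limits AlgebraicGeometry TopologicalSpace Opposite
open CategoryTheory.Abelian (Ext)
open Groth.QCohMod (resFun resFun_resFun resFun_self res_app appₗ)

namespace Groth.CohBase

section Contract

variable {T : TopCat.{u}} {ι : Type u} (U : ι → Opens T) (G : TopCat.Presheaf AddCommGrpCat.{u} T)

lemma inter_cons_le {n : ℕ} (k : ι) (x : Fin n → ι) :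
    inter U (Fin.cons k x : Fin (n + 1) → ι) ≤ inter U x := by
  rw [inter_cons]; exact inf_le_right

/-- A cochain complex on whose intersections one index can be inserted is exact. -/
theorem cechExact_of_insert (k : ι)
    (h : ∀ {n : ℕ} (x : Fin (n + 1) → ι), Function.Bijective (res G (inter_cons_le U k x))) (p : ℕ) :
    CechExact U G p := by
  intro s hs
  choose t ht using fun x : Fin (p + 1) → ι => (h x).2 (s (Fin.cons k x))
  refine ⟨t, funext fun x => (h x).1 ?_⟩
  have h0 : dCoch U G (p + 1) s (Fin.cons k x) = 0 := congrFun hs _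
  rw [dCoch_apply, Fin.sum_univ_succ] at h0
  have hs0 : ((Fin.cons k x : Fin (p + 1 + 2) → ι)) ∘ (0 : Fin (p + 1 + 2)).succAbove = x := by
    funext b; simp
  have e0 : res G (inter_comp U (Fin.cons k x) (0 : Fin (p + 1 + 2)).succAbove)
      (s ((Fin.cons k x : Fin (p + 1 + 2) → ι) ∘ (0 : Fin (p + 1 + 2)).succAbove)) =
      res G (inter_cons_le U k x) (s x) :=
    Coch.congr_res U G s hs0 _ _
  rw [e0] at h0
  simp only [Fin.val_zero, pow_zero, one_smul] at h0
  rw [dCoch_apply, map_sum, eq_neg_of_add_eq_zero_left h0, ← Finset.sum_neg_distrib]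
  refine Finset.sum_congr rfl fun a _ => ?_
  have hsa : ((Fin.cons k x : Fin (p + 1 + 2) → ι)) ∘ a.succ.succAbove =
      Fin.cons k (x ∘ a.succAbove) := by
    funext b
    cases b using Fin.cases with
    | zero => simp
    | succ b => simp [Fin.succ_succAbove_succ]
  have hle : inter U (Fin.cons k x : Fin (p + 1 + 2) → ι) ≤
      inter U (Fin.cons k (x ∘ a.succAbove) : Fin (p + 2) → ι) :=
    hsa ▸ inter_comp U _ _
  rw [map_zsmul, res_res, Coch.congr_res U G s hsa _ hle, ← ht, res_res, ← neg_smul, Fin.val_succ,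
    pow_succ]
  simp

end Contract

variable {X : Scheme.{u}} {ι : Type u} (U : ι → X.Opens)

/-- The intersection of a tuple of the family, as an open of the scheme. -/
abbrev tupOpen {n : ℕ} (x : Fin n → ι) : X.Opens := inter (X := X.toTopCat) U x

variable (F : X.Modules)

/-- The sections of `F` on `W ⊓ -`, as a presheaf. -/
noncomputable def leftInf (W : X.Opens) : TopCat.Presheaf AddCommGrpCat.{u} X.toTopCat :=
  (Monotone.functor (f := fun V : X.Opens => W ⊓ V) fun _ _ h => inf_le_inf_left W h).op ⋙
    F.presheaf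

/-- The sections of `F` on `- ⊓ V`, as a presheaf. -/
noncomputable def rightInf (V : X.Opens) : TopCat.Presheaf AddCommGrpCat.{u} X.toTopCat :=
  (Monotone.functor (f := fun W : X.Opens => W ⊓ V) fun _ _ h => inf_le_inf_right V h).op ⋙
    F.presheaf

/-- Sections of the Čech sheaves. -/
abbrev CsSec (n : ℕ) (W : X.Opens) : Type u := ∀ x : Fin (n + 1) → ι, Γ(F, W ⊓ tupOpen U x)

/-- The underlying presheaf of the Čech sheaf. -/
noncomputable def csAb (n : ℕ) : (Opens X)ᵒᵖ ⥤ AddCommGrpCat.{u} where
  obj W := AddCommGrpCat.of (CsSec U F n W.unop)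
  map {W W'} i := AddCommGrpCat.ofHom
    (AddMonoidHom.mk' (fun (s : CsSec U F n W.unop) x =>
        QCohMod.res F (inf_le_inf_right _ (leOfHom i.unop)) (s x))
      fun s t => funext fun x => map_add _ _ _)
  map_id W := by
    ext (s : CsSec U F n W.unop) x
    exact QCohMod.res_self F _
  map_comp i j := by
    ext s x
    exact (QCohMod.res_res F _ _ _).symm

/-- The action of a function on sections of the Čech sheaf. -/
noncomputable def csSmul (n : ℕ) (W : X.Opens) (r : Γ(X, W)) (s : CsSec U F n W) : CsSec U F n W :=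
  fun x => resFun X (inf_le_left : W ⊓ tupOpen U x ≤ W) r • s x

/-- Functions act on the sections of the Čech sheaf. -/
@[reducible] noncomputable def csModule (n : ℕ) (W : X.Opens) : Module Γ(X, W) (CsSec U F n W) where
  smul := csSmul U F n W
  one_smul s := funext fun x => show csSmul U F n W 1 s x = s x by
    rw [csSmul, map_one, one_smul]
  mul_smul r r' s := funext fun x =>
    show csSmul U F n W (r * r') s x = csSmul U F n W r (csSmul U F n W r' s) x by
    rw [csSmul, csSmul, csSmul, map_mul, mul_smul]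
  smul_zero r := funext fun x => show csSmul U F n W r 0 x = 0 by
    rw [csSmul, Pi.zero_apply, smul_zero]
  smul_add r s t := funext fun x =>
    show csSmul U F n W r (s + t) x = csSmul U F n W r s x + csSmul U F n W r t x by
    rw [csSmul, csSmul, csSmul, Pi.add_apply, smul_add]
  add_smul r r' s := funext fun x =>
    show csSmul U F n W (r + r') s x = csSmul U F n W r s x + csSmul U F n W r' s x by
    rw [csSmul, csSmul, csSmul, map_add, add_smul]
  zero_smul s := funext fun x => show csSmul U F n W 0 s x = 0 by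
    rw [csSmul, map_zero, zero_smul]

noncomputable instance (n : ℕ) (W : (Opens X)ᵒᵖ) :
    Module (X.ringCatSheaf.obj.obj W) ((csAb U F n).obj W) :=
  csModule U F n W.unop

/-- The Čech sheaf of degree `n`. -/
noncomputable def csMod (n : ℕ) : X.Modules where
  val := PresheafOfModules.ofPresheaf (csAb U F n) fun W W' i (r : Γ(X, W.unop)) (s : CsSec U F n W.unop) => by
    funext x
    change QCohMod.res F (inf_le_inf_right _ (leOfHom i.unop))
        (resFun X (inf_le_left : W.unop ⊓ tupOpen U x ≤ W.unop) r • s x) =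
      resFun X (inf_le_left : W'.unop ⊓ tupOpen U x ≤ W'.unop) (resFun X (leOfHom i.unop) r) •
        QCohMod.res F (inf_le_inf_right _ (leOfHom i.unop)) (s x)
    rw [QCohMod.res_smul, resFun_resFun, resFun_resFun]
  isSheaf := by
    change TopCat.Presheaf.IsSheaf (X := X.toPresheafedSpace) (csAb U F n)
    rw [TopCat.Presheaf.isSheaf_iff_isSheafUniqueGluing]
    intro κ V sf hsf
    have hg : ∀ x : Fin (n + 1) → ι, ∃ s : Γ(F, iSup V ⊓ tupOpen U x), ∀ i,
        QCohMod.res F (inf_le_inf_right _ (le_iSup V i)) s = (show CsSec U F n (V i) from sf i) x := by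
      intro x
      refine CohTwo.exists_glue F (fun i => V i ⊓ tupOpen U x)
        (fun i => inf_le_inf_right _ (le_iSup V i)) (fun y hy => ?_) _ (fun i j => ?_)
      · obtain ⟨i, hi⟩ := Opens.mem_iSup.1 hy.1
        exact ⟨i, hi, hy.2⟩
      · have hle : (V i ⊓ tupOpen U x) ⊓ (V j ⊓ tupOpen U x) ≤ (V i ⊓ V j) ⊓ tupOpen U x :=
          le_inf (inf_le_inf inf_le_left inf_le_left) (inf_le_left.trans inf_le_right)
        have h := congrArg (QCohMod.res F hle)
          (congrFun (show (show CsSec U F n (V i ⊓ V j) from _) = _ from hsf i j) x)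
        change QCohMod.res F hle (QCohMod.res F _ _) = QCohMod.res F hle (QCohMod.res F _ _) at h
        rw [QCohMod.res_res, QCohMod.res_res] at h
        exact h
    choose s hs using hg
    refine ⟨s, fun i => funext fun x => hs x i, fun t ht => funext fun x => ?_⟩
    refine CohTwo.eq_of_local F _ _ fun y hy => ?_
    obtain ⟨i, hi⟩ := Opens.mem_iSup.1 hy.1
    exact ⟨V i ⊓ tupOpen U x, inf_le_inf_right _ (le_iSup V i), ⟨hi, hy.2⟩,
      (congrFun (ht i) x).trans (hs x i).symm⟩

lemma csMod_smul (n : ℕ) {W : X.Opens} (r : Γ(X, W)) (s : Γ(csMod U F n, W))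
    (x : Fin (n + 1) → ι) :
    (show CsSec U F n W from r • s) x =
      resFun X (inf_le_left : W ⊓ tupOpen U x ≤ W) r • (show CsSec U F n W from s) x := rfl

lemma csMod_res (n : ℕ) {W W' : X.Opens} (h : W' ≤ W) (s : Γ(csMod U F n, W))
    (x : Fin (n + 1) → ι) :
    (show CsSec U F n W' from QCohMod.res (csMod U F n) h s) x =
      QCohMod.res F (inf_le_inf_right _ h) ((show CsSec U F n W from s) x) := rfl

/-- The Čech differential on sections. -/
noncomputable def csd (n : ℕ) (W : X.Opens) : CsSec U F n W →+ CsSec U F (n + 1) W :=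
  dCoch (X := X.toTopCat) U (leftInf F W) n

lemma csd_apply {n : ℕ} {W : X.Opens} (s : CsSec U F n W) (x : Fin (n + 2) → ι) :
    csd U F n W s x = ∑ a : Fin (n + 2), ((-1 : ℤ) ^ (a : ℕ)) •
      QCohMod.res F (inf_le_inf_left W (inter_comp (X := X.toTopCat) U x a.succAbove))
        (s (x ∘ a.succAbove)) := rfl

lemma csd_res {n : ℕ} {W W' : X.Opens} (h : W' ≤ W) (s : CsSec U F n W) (x : Fin (n + 2) → ι) :
    QCohMod.res F (inf_le_inf_right (tupOpen U x) h) (csd U F n W s x) =
      csd U F n W' (fun y => QCohMod.res F (inf_le_inf_right (tupOpen U y) h) (s y)) x := by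
  rw [csd_apply, csd_apply, map_sum]
  refine Finset.sum_congr rfl fun a _ => ?_
  rw [map_zsmul, QCohMod.res_res, QCohMod.res_res]

lemma csd_smul {n : ℕ} {W : X.Opens} (r : Γ(X, W)) (s : CsSec U F n W) (x : Fin (n + 2) → ι) :
    csd U F n W (csSmul U F n W r s) x = csSmul U F (n + 1) W r (csd U F n W s) x := by
  rw [csSmul, csd_apply, csd_apply, Finset.smul_sum]
  refine Finset.sum_congr rfl fun a _ => ?_
  rw [smul_comm, csSmul, QCohMod.res_smul, resFun_resFun]

/-- The Čech differential on sheaves. -/
noncomputable def csD (n : ℕ) : csMod U F n ⟶ csMod U F (n + 1) :=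
  ⟨PresheafOfModules.homMk
    { app := fun W => AddCommGrpCat.ofHom (csd U F n W.unop)
      naturality := fun W W' i => by
        refine AddCommGrpCat.ext fun (s : CsSec U F n W.unop) => funext fun x => ?_
        exact (csd_res U F (leOfHom i.unop) s x).symm }
    (fun W r (s : CsSec U F n W.unop) => funext fun x => csd_smul U F r s x)⟩

lemma csD_app (n : ℕ) (W : X.Opens) (s : Γ(csMod U F n, W)) :
    (show CsSec U F (n + 1) W from (csD U F n).app W s) = csd U F n W s := rfl

/-- The augmentation of the Čech resolution. -/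
noncomputable def csι : F ⟶ csMod U F 0 :=
  ⟨PresheafOfModules.homMk
    { app := fun W => AddCommGrpCat.ofHom
        (AddMonoidHom.mk' (fun (s : Γ(F, W.unop)) x => QCohMod.res F inf_le_left s)
          fun s t => funext fun x => map_add _ _ _)
      naturality := fun W W' i => by
        refine AddCommGrpCat.ext fun (s : Γ(F, W.unop)) => funext fun x => ?_
        change QCohMod.res F _ (QCohMod.res F (leOfHom i.unop) s) =
          QCohMod.res F _ (QCohMod.res F _ s)
        rw [QCohMod.res_res, QCohMod.res_res] }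
    (fun W r (s : Γ(F, W.unop)) => by
      funext x
      exact QCohMod.res_smul F inf_le_left r s)⟩

lemma csι_app (W : X.Opens) (s : Γ(F, W)) (x : Fin 1 → ι) :
    (show CsSec U F 0 W from (csι U F).app W s) x = QCohMod.res F inf_le_left s := rfl

lemma csι_csD : csι U F ≫ csD U F 0 = 0 := by
  refine CohTwo.hom_ext_app fun W s => funext fun x => ?_
  change csd U F 0 W (fun y => QCohMod.res F inf_le_left s) x = (0 : Γ(F, W ⊓ tupOpen U x))
  rw [csd_apply, Fin.sum_univ_two, QCohMod.res_res, QCohMod.res_res]
  simp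

lemma csD_csD (n : ℕ) : csD U F n ≫ csD U F (n + 1) = 0 :=
  CohTwo.hom_ext_app fun W s => dCoch_dCoch (X := X.toTopCat) U (leftInf F W) s

/-- A complex of modules exact on small sections is exact. -/
lemma exact_of_local {A B C : X.Modules} (f : A ⟶ B) (g : B ⟶ C) (w : f ≫ g = 0)
    (h : ∀ y : X, ∃ V : X.Opens, y ∈ V ∧ ∀ W ≤ V, ∀ b, g.app W b = 0 → ∃ a, f.app W a = b) :
    (ShortComplex.mk f g w).Exact := by
  refine (QCohMod.exact_iff_stalk _).2 fun y => (ShortComplex.ab_exact_iff _).2 fun t ht => ?_
  obtain ⟨W, hy, b, rfl⟩ := QCohMod.exists_germ B y t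
  have ht' : QCohMod.germ C y hy (g.app W b) = QCohMod.germ C y hy 0 := by
    rw [map_zero]
    exact (QCohMod.stalk_map_germ g y hy b).symm.trans ht
  obtain ⟨W', hy', i₁, i₂, e⟩ := TopCat.Presheaf.germ_eq C.presheaf y hy hy _ _ ht'
  obtain ⟨V, hyV, hV⟩ := h y
  obtain ⟨a, ha⟩ := hV (W' ⊓ V) inf_le_right (QCohMod.res B (inf_le_left.trans i₁.le) b) (by
    rw [← res_app, ← QCohMod.res_res C i₁.le inf_le_left]
    exact (congrArg (QCohMod.res C inf_le_left) (e.trans (map_zero _))).trans (map_zero _))
  refine ⟨QCohMod.germ A y (⟨hy', hyV⟩ : y ∈ W' ⊓ V) a,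
    (QCohMod.stalk_map_germ f y _ a).trans ?_⟩
  rw [ha]
  exact QCohMod.germ_res B _ y _ b

variable (hcov : ⨆ i, U i = ⊤)
include hcov

/-- The Čech resolution. -/
noncomputable def cechRes : Res X.Modules where
  Y := F
  A := csMod U F
  d := csD U F
  ι := csι U F
  isRes :=
    { mono := by
        refine (CohTwo.mono_iff_app_injective _).2 fun W s t e => ?_
        refine CohTwo.eq_of_local F s t fun y hy => ?_
        obtain ⟨k, hk⟩ := Opens.mem_iSup.1 (hcov.ge (Opens.mem_top y))
        refine ⟨W ⊓ tupOpen U (fun _ : Fin 1 => k), inf_le_left,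
          ⟨hy, ?_⟩, congrFun e fun _ => k⟩
        rw [tupOpen, inter_one]; exact hk
      zero₀ := csι_csD U F
      exact₀ := exact_of_local _ _ _ fun y => by
        obtain ⟨k, hk⟩ := Opens.mem_iSup.1 (hcov.ge (Opens.mem_top y))
        refine ⟨U k, hk, fun W hW b hb => ?_⟩
        obtain ⟨b, rfl⟩ : ∃ b' : CsSec U F 0 W, b' = b := ⟨b, rfl⟩
        have hle : ∀ l : Fin 1 → ι, W ⊓ tupOpen U l ≤
            W ⊓ inter (X := X.toTopCat) U (Fin.cons k l : Fin 2 → ι) := by
          intro l
          rw [inter_cons]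
          exact le_inf inf_le_left (le_inf (inf_le_left.trans hW) inf_le_right)
        let k₁ : Fin 1 → ι := fun _ => k
        have hk₁ : W ≤ W ⊓ tupOpen U k₁ := by
          rw [tupOpen, inter_one]; exact le_inf le_rfl hW
        refine ⟨QCohMod.res F hk₁ (b k₁), funext fun l => ?_⟩
        have h0 := congrArg (QCohMod.res F (hle l))
          (congrFun (show csd U F 0 W b = 0 from hb) (Fin.cons k l))
        rw [csd_apply, Fin.sum_univ_two] at h0
        have e0 : (Fin.cons k l : Fin 2 → ι) ∘ (0 : Fin 2).succAbove = l := by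
          funext a; simp
        have e1 : (Fin.cons k l : Fin 2 → ι) ∘ (1 : Fin 2).succAbove = k₁ := by
          funext a; fin_cases a; rfl
        have g : ∀ {l' l'' : Fin 1 → ι} (e : l' = l'') (h' : W ⊓ tupOpen U l ≤ W ⊓ tupOpen U l')
            (h'' : W ⊓ tupOpen U l ≤ W ⊓ tupOpen U l''),
            QCohMod.res F h' (b l') =
              QCohMod.res F h'' (b l'') := by
          rintro l' l'' rfl h' h''; rfl
        simp only [Fin.val_zero, Fin.val_one, pow_zero, pow_one, one_smul, neg_smul, map_add,
          map_neg, QCohMod.res_res, Pi.zero_apply, map_zero] at h0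
        rw [g e0 _ le_rfl, g e1 _ (le_inf inf_le_left (inf_le_left.trans
          (hk₁.trans inf_le_right))), QCohMod.res_self, ← sub_eq_add_neg, sub_eq_zero] at h0
        change QCohMod.res F inf_le_left (QCohMod.res F hk₁ _) = _
        rw [QCohMod.res_res, h0]
      zero := csD_csD U F
      exact := fun n => exact_of_local _ _ _ fun y => by
        obtain ⟨k, hk⟩ := Opens.mem_iSup.1 (hcov.ge (Opens.mem_top y))
        refine ⟨U k, hk, fun W hW b hb => ?_⟩
        refine cechExact_of_insert (T := X.toTopCat) U (leftInf F W) k (fun {m} x => ?_) n b hb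
        refine res_bijective_of_eq (X := X.toTopCat) F.presheaf _ ?_
        refine le_inf inf_le_left ?_
        rw [inter_cons]
        exact le_inf (inf_le_left.trans hW) inf_le_right }

omit hcov

/-- The map of Čech sheaves induced by a map of modules. -/
noncomputable def csMap {F G : X.Modules} (φ : F ⟶ G) (n : ℕ) : csMod U F n ⟶ csMod U G n :=
  ⟨PresheafOfModules.homMk
    { app := fun W => AddCommGrpCat.ofHom
        (AddMonoidHom.mk' (fun (s : CsSec U F n W.unop) x => φ.app (W.unop ⊓ tupOpen U x) (s x))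
          fun s t => funext fun x => map_add _ _ _)
      naturality := fun W W' i => by
        refine AddCommGrpCat.ext fun (s : CsSec U F n W.unop) => funext fun x => ?_
        exact (res_app φ _ (s x)).symm }
    (fun W r (s : CsSec U F n W.unop) => funext fun x => φ.app_smul _ _)⟩

/-- The map of Čech resolutions induced by a map of modules. -/
noncomputable def cechResMap {F G : X.Modules} (φ : F ⟶ G) :
    Res.Hom (cechRes U F hcov) (cechRes U G hcov) where
  f₀ := φ
  f := csMap U φ
  comm₀ := CohTwo.hom_ext_app fun W s => funext fun x => (res_app φ _ s).symm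
  comm n := CohTwo.hom_ext_app fun W (s : CsSec U F n W) => funext fun x => by
    change φ.app (W ⊓ tupOpen U x) (csd U F n W s x) =
      csd U G n W (fun y => φ.app (W ⊓ tupOpen U y) (s y)) x
    rw [csd_apply, csd_apply, map_sum]
    refine Finset.sum_congr rfl fun a _ => ?_
    rw [map_zsmul]
    congr 1
    exact (res_app φ _ (s _)).symm

/-- The Čech sheaves are quasi-coherent. -/
theorem isQCoh_csMod [Finite ι] [F.IsQuasicoherent]
    (hU : ∀ (W : X.Opens), IsAffineOpen W → ∀ {n : ℕ} (x : Fin (n + 1) → ι),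
      IsAffineOpen (W ⊓ tupOpen U x)) (n : ℕ) : (csMod U F n).IsQuasicoherent := by
  have hb : ∀ {W : X.Opens} (g : Γ(X, W)) (x : Fin (n + 1) → ι),
      X.basicOpen g ⊓ tupOpen U x =
        X.basicOpen (resFun X (inf_le_left : W ⊓ tupOpen U x ≤ W) g) := by
    intro W g x
    rw [show X.basicOpen (resFun X (inf_le_left : W ⊓ tupOpen U x ≤ W) g) =
      (W ⊓ tupOpen U x) ⊓ X.basicOpen g from X.basicOpen_res _ _]
    rw [inf_right_comm, inf_eq_right.2 (X.basicOpen_le g)]
  classical
  refine QCohMod.isQCoh_of_forall_affine _ (fun W hW g s => ?_) (fun W hW g t ht => ?_)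
  · have : ∀ x : Fin (n + 1) → ι, ∃ (m : ℕ) (t : Γ(F, W ⊓ tupOpen U x)),
        QCohMod.res F (inf_le_inf_right _ (X.basicOpen_le g)) t =
          resFun X (inf_le_left.trans (X.basicOpen_le g) :
              X.basicOpen g ⊓ tupOpen U x ≤ W) g ^ m •
            (show CsSec U F n (X.basicOpen g) from s) x := by
      intro x
      obtain ⟨m, t, ht⟩ := QCohMod.exists_pow_smul_eq_res F (hU W hW x) _
        (QCohMod.res F (hb g x).ge ((show CsSec U F n (X.basicOpen g) from s) x))
      refine ⟨m, t, ?_⟩
      have := congrArg (QCohMod.res F (hb g x).le) ht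
      rw [QCohMod.res_res, QCohMod.res_smul, QCohMod.res_res, QCohMod.res_self, map_pow,
        resFun_resFun, resFun_resFun] at this
      exact this
    choose m t ht using this
    have := Fintype.ofFinite ι
    refine ⟨Finset.univ.sup m, fun x =>
      resFun X (inf_le_left : W ⊓ tupOpen U x ≤ W) g ^ (Finset.univ.sup m - m x) • t x,
      funext fun x => ?_⟩
    refine (csMod_res U F n (X.basicOpen_le g) _ x).trans ?_
    refine Eq.trans ?_ (csMod_smul U F n _ s x).symm
    change QCohMod.res F (inf_le_inf_right _ (X.basicOpen_le g))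
      (resFun X (inf_le_left : W ⊓ tupOpen U x ≤ W) g ^ (Finset.univ.sup m - m x) • t x) = _
    rw [QCohMod.res_smul, ht x, map_pow, resFun_resFun, map_pow, resFun_resFun, smul_smul,
      ← pow_add, Nat.sub_add_cancel (Finset.le_sup (Finset.mem_univ x))]
  · have : ∀ x : Fin (n + 1) → ι, ∃ m : ℕ,
        resFun X (inf_le_left : W ⊓ tupOpen U x ≤ W) g ^ m •
          (show CsSec U F n W from t) x = 0 := by
      intro x
      refine QCohMod.exists_pow_smul_eq_zero F (hU W hW x) _ _ ?_
      have := congrArg (QCohMod.res F (hb g x).ge)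
        (show QCohMod.res F _ ((show CsSec U F n W from t) x) = 0 from congrFun ht x)
      rwa [QCohMod.res_res, map_zero] at this
    choose m hm using this
    have := Fintype.ofFinite ι
    refine ⟨Finset.univ.sup m, funext fun x => ?_⟩
    refine (csMod_smul U F n _ t x).trans ?_
    rw [map_pow, ← Nat.sub_add_cancel (Finset.le_sup (f := m) (Finset.mem_univ x)), pow_add,
      mul_smul, hm x, smul_zero]
    rfl

lemma dCoch_csMod (n q : ℕ) (s : Coch (X := X.toTopCat) U (csMod U F n).presheaf q)
    (z : Fin (q + 2) → ι) (x : Fin (n + 1) → ι) :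
    (show CsSec U F n (tupOpen U z) from dCoch (X := X.toTopCat) U (csMod U F n).presheaf q s z) x =
      dCoch (X := X.toTopCat) U (rightInf F (tupOpen U x)) q
        (fun y => (show CsSec U F n (tupOpen U y) from s y) x) z :=
  Finset.sum_apply (M := fun x : Fin (n + 1) → ι => Γ(F, tupOpen U z ⊓ tupOpen U x)) x Finset.univ
    fun a : Fin (q + 2) => ((-1 : ℤ) ^ (a : ℕ)) •
      (show CsSec U F n (tupOpen U z) from res (X := X.toTopCat) (csMod U F n).presheaf
        (inter_comp (X := X.toTopCat) U z a.succAbove) (s (z ∘ a.succAbove)))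

/-- The Čech sheaves have no higher cohomology. -/
theorem hVanish_csMod [Finite ι] [F.IsQuasicoherent] (hcov : ⨆ i, U i = ⊤)
    (hUa : ∀ {n : ℕ} (x : Fin (n + 1) → ι), IsAffineOpen (tupOpen U x))
    (hU : ∀ (W : X.Opens), IsAffineOpen W → ∀ {n : ℕ} (x : Fin (n + 1) → ι),
      IsAffineOpen (W ⊓ tupOpen U x)) (n q : ℕ) :
    HVanish (X := X.toTopCat) (abSheaf (csMod U F n)) (q + 1) ⊤ := by
  have := isQCoh_csMod U F hU n
  obtain ⟨e⟩ := nonempty_cech_equiv_H U hcov hUa (csMod U F n) (q + 1)
  rw [← subsingleton_H_iff]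
  refine @Equiv.subsingleton _ _ e.toEquiv.symm ?_
  refine AddCommGrpCat.subsingleton_of_isZero ((isZero_homology_iff _ _ q).2 ?_)
  intro s hs
  choose t ht using fun x : Fin (n + 1) → ι =>
    cechExact_of_insert (T := X.toTopCat) U (rightInf F (tupOpen U x)) (x 0)
      (fun {m} y => res_bijective_of_eq (X := X.toTopCat) F.presheaf _ (by
        refine le_inf ?_ inf_le_right
        rw [inter_cons]
        exact le_inf (inf_le_right.trans (inter_le _ x 0)) inf_le_left))
      q (fun y => (show CsSec U F n (tupOpen U y) from s y) x)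
      (funext fun z => (dCoch_csMod U F n (q + 1) s z x).symm.trans (congrFun
        (show (show CsSec U F n (tupOpen U z) from _) = 0 from congrFun hs z) x))
  refine ⟨fun y => (fun x => t x y : CsSec U F n (tupOpen U y)), funext fun z => funext fun x => ?_⟩
  exact (dCoch_csMod U F n q _ z x).trans (congrFun (ht x) z)

end Groth.CohBase
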