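import Groth.Agent.Limits.TopDegreeFibre
import Groth.Agent.FlatStrata.ClosedImm
import Groth.Agent.CohC3.Smul
import Groth.Agent.CohC3.Affines
import Groth.Agent.CohBase.GlobalSections
import Groth.Agent.SpecFerrand.BasisTools
import Groth.Agent.CohBase.FiniteBC.PushNat
import Groth.Agent.PicAux.SeesawReduced

/-!
# Lifting sections from a closed fibre in top degree one
-/

universe u

open CategoryTheory Limits AlgebraicGeometry TopologicalSpace Opposite
open scoped TensorProduct Pointwise
open Groth.PicAux (pullSec pullSec_smul res_pullSec)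

set_option maxHeartbeats 800000
set_option backward.isDefEq.respectTransparency false
set_option backward.defeqAttrib.useBackward true
set_option backward.isDefEq.respectTransparency.types false

noncomputable section

namespace Groth.CohBase.ClosedFibreLift

section Surj

variable {B K : Type u} [CommRing B] [CommRing K] [Algebra B K] {X Z : Scheme.{u}}
  [X.Over (Spec (CommRingCat.of B))] [Z.Over (Spec (CommRingCat.of K))] {i : Z ⟶ X}

lemma mem_smul_of_one_tmul_eq_zero {M : Type u} [AddCommGroup M] [Module B M]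
    (hs : Function.Surjective (algebraMap B K)) {m : M} (h : (1 : K) ⊗ₜ[B] m = 0) :
    m ∈ RingHom.ker (algebraMap B K) • (⊤ : Submodule B M) := by
  let I := RingHom.ker (algebraMap B K)
  let e : (B ⧸ I) ≃ₐ[B] K := Ideal.quotientKerAlgEquivOfSurjective (f := Algebra.ofId B K) hs
  let θ : (B ⧸ I) ⊗[B] M ≃ₗ[B] K ⊗[B] M := LinearEquiv.rTensor M e.toLinearEquiv
  have h1 : θ ((1 : B ⧸ I) ⊗ₜ[B] m) = 0 := by
    simp only [θ, LinearEquiv.rTensor_tmul, AlgEquiv.toLinearEquiv_apply, map_one]
    exact h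
  rw [LinearEquiv.map_eq_zero_iff] at h1
  have h2 := congrArg (TensorProduct.quotTensorEquivQuotSMul M I) h1
  rwa [map_zero, ← map_one (Ideal.Quotient.mk I), TensorProduct.quotTensorEquivQuotSMul_mk_tmul,
    one_smul, Submodule.Quotient.mk_eq_zero] at h2

/-- Cohomology of a finite sum of copies. -/
lemma subsingleton_HH_biproduct (F : X.Modules) (ι : Type u) [Finite ι] (p : ℕ) (h : Subsingleton (Coh.HH X F p)) :
    Subsingleton (Coh.HH X (⨁ fun _ : ι => F) p) := by
  classical
  let _ := Fintype.ofFinite ι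
  let G : X.Modules ⥤ _ := CohBase.toAbF X ⋙ Sheaf.functorH (Opens.grothendieckTopology X) p
  refine subsingleton_of_forall_eq 0 fun x => ?_
  have e : (G.map (𝟙 (⨁ fun _ : ι => F))).hom x = x :=
    congr(($(G.map_id (⨁ fun _ : ι => F))).hom x)
  have et : ∑ j : ι, biproduct.π (fun _ : ι => F) j ≫ biproduct.ι (fun _ : ι => F) j =
      𝟙 (⨁ fun _ : ι => F) := CategoryTheory.Limits.IsBilimit.total (biproduct.isBilimit _)
  rw [← e, show G.map (𝟙 (⨁ fun _ : ι => F)) = _ from congrArg G.map et.symm, Functor.map_sum]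
  simp only [Functor.map_comp]
  let ev : (G.obj (⨁ fun _ : ι => F) ⟶ G.obj (⨁ fun _ : ι => F)) →+ (G.obj (⨁ fun _ : ι => F) : Type u) :=
    AddMonoidHom.mk' (fun φ => φ x) (fun _ _ => rfl)
  change ev _ = 0
  rw [map_sum ev]
  refine Finset.sum_eq_zero fun j _ => ?_
  change (G.map _ ≫ G.map _) x = 0
  rw [AddCommGrpCat.comp_apply]
  exact (congrArg _ (@Subsingleton.elim (Coh.HH X F p) h _ 0)).trans (map_zero _)

/-- Sections on the closed fibre lift when `H¹` vanishes and `H²` vanishes identically. -/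
theorem pullSec_surjective_of_h1 (hsq : IsBC (A := B) (A' := K) i)
    (hs : Function.Surjective (algebraMap B K)) (hfg : (RingHom.ker (algebraMap B K)).FG)
    (F : X.Modules) [F.IsQuasicoherent] (h1 : Subsingleton (Coh.HH X F 1))
    (h2 : ∀ (N : X.Modules) [N.IsQuasicoherent], Subsingleton (Coh.HH X N 2)) :
    Function.Surjective (fun s : Γ(F, (⊤ : X.Opens)) => pullSec i F s) := by
  have : IsClosedImmersion (Spec.map (CommRingCat.ofHom (algebraMap B K))) :=
    IsClosedImmersion.spec_of_surjective _ hs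
  have : IsClosedImmersion i := MorphismProperty.of_isPullback hsq.flip ‹_›
  haveI : ((Scheme.Modules.pullback i).obj F).IsQuasicoherent := QCohMod.isQCoh_pullback_obj i F
  let R := (Scheme.Modules.pushforward i).obj ((Scheme.Modules.pullback i).obj F)
  haveI : R.IsQuasicoherent := QCohMod.isQCoh_pushforward _ i
  let u : F ⟶ R := (Scheme.Modules.pullbackPushforwardAdjunction i).unit.app F
  haveI : Epi u := CohC3.epi_of_cover u fun x => by
    obtain ⟨W, hW, hx⟩ := QCohMod.exists_affine_mem x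
    exact ⟨W, hW, hx, SpecFerrand.pullSec_surjective i F hW⟩
  haveI : (kernel u).IsQuasicoherent := QCohMod.isQCoh_kernel _
  obtain ⟨n, b₀, hb₀⟩ := Submodule.fg_iff_exists_fin_generating_family.1 hfg
  let b : ULift.{u} (Fin n) → B := fun j => b₀ j.down
  have hb : Submodule.span B (Set.range b) = RingHom.ker (algebraMap B K) := by
    rw [← hb₀]
    congr 1
    exact Set.ext fun x => ⟨fun ⟨j, h⟩ => ⟨j.down, h⟩, fun ⟨j, h⟩ => ⟨⟨j⟩, h⟩⟩
  have hb0 : ∀ j, algebraMap B K (b j) = 0 := fun j =>
    RingHom.mem_ker.1 (hb ▸ Submodule.subset_span ⟨j, rfl⟩)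
  have hkill : ∀ j, Formal.smulMod B F (b j) ≫ u = 0 := fun j => by
    ext W s
    rw [Scheme.Modules.Hom.comp_app, ConcreteCategory.comp_apply, CohC3.smulMod_app]
    change pullSec i F (toSec B W (b j) • s) = 0
    rw [pullSec_smul, app_toSec hsq, hb0, map_zero, zero_smul]
  let lift' : ULift.{u} (Fin n) → (F ⟶ kernel u) := fun j => kernel.lift u (Formal.smulMod B F (b j)) (hkill j)
  let q : (⨁ fun _ : ULift.{u} (Fin n) => F) ⟶ kernel u := biproduct.desc lift'
  haveI : (⨁ fun _ : ULift.{u} (Fin n) => F).IsQuasicoherent :=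
    (QCohMod.isQCoh_iff_of_iso (biproduct.isoCoproduct _)).2 inferInstance
  haveI : Epi q := CohC3.epi_of_cover q fun x => by
    obtain ⟨W, hW, hx⟩ := QCohMod.exists_affine_mem x
    refine ⟨W, hW, hx, fun t => ?_⟩
    let s : Γ(F, W) := (kernel.ι u).app W t
    have h0 : pullSec i F s = 0 := congr($(kernel.condition u).app W t)
    have h1' : FlatStrata.bcLin hsq F W (1 ⊗ₜ (show secA B F W from s)) = 0 :=
      (FlatStrata.bcLin_one_tmul hsq F W s).trans h0
    have hmem := mem_smul_of_one_tmul_eq_zero hs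
      ((FlatStrata.bcLin_affine_bijective hsq F hW).1 (h1'.trans (map_zero _).symm))
    rw [← hb, ← Submodule.span_univ, Submodule.span_smul_span] at hmem
    have hall : ∀ y : secA B F W, y ∈ Submodule.span B (Set.range b • (Set.univ : Set (secA B F W))) →
        ∃ m, (kernel.ι u).app W (q.app W m) = (show Γ(F, W) from y) := by
      intro y hy
      induction hy using Submodule.span_induction with
      | mem y hy =>
        obtain ⟨_, ⟨j, rfl⟩, m, -, rfl⟩ := hy
        refine ⟨(biproduct.ι (fun _ : ULift.{u} (Fin n) => F) j).app W (show Γ(F, W) from m), ?_⟩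
        have e : biproduct.ι (fun _ : ULift.{u} (Fin n) => F) j ≫ q ≫ kernel.ι u = Formal.smulMod B F (b j) := by
          rw [biproduct.ι_desc_assoc, kernel.lift_ι]
        exact (congr($(e).app W (show Γ(F, W) from m))).trans rfl
      | zero => exact ⟨0, by rw [map_zero, map_zero]⟩
      | add y y' _ _ hy hy' =>
        obtain ⟨m, hm⟩ := hy
        obtain ⟨m', hm'⟩ := hy'
        exact ⟨m + m', by rw [map_add, map_add, hm, hm']⟩
      | smul a y _ hy =>
        obtain ⟨m, hm⟩ := hy
        refine ⟨toSec B W a • m, ?_⟩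
        rw [Scheme.Modules.Hom.app_smul, Scheme.Modules.Hom.app_smul, hm]
        rfl
    obtain ⟨m, hm⟩ := hall _ hmem
    exact ⟨m, QCohMod.app_injective_of_mono (kernel.ι u) W hm⟩
  haveI : (kernel q).IsQuasicoherent := QCohMod.isQCoh_kernel _
  have hker : Subsingleton (Coh.HH X (kernel u) 1) := by
    haveI := subsingleton_HH_biproduct F (ULift.{u} (Fin n)) 1 h1
    haveI := h2 (kernel q)
    have hS : (ShortComplex.mk (kernel.ι q) q (kernel.condition q)).ShortExact :=
      ShortComplex.ShortExact.mk' (ShortComplex.exact_of_f_is_kernel _ (kernelIsKernel q))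
        inferInstance inferInstance
    refine subsingleton_of_forall_eq 0 fun x => ?_
    obtain ⟨y, rfl⟩ := CohC3.exists_of_hdelta_eq_zero (A := B) hS x (Subsingleton.elim _ _)
    rw [Subsingleton.elim y 0, map_zero]
  have hS : (ShortComplex.mk (kernel.ι u) u (kernel.condition u)).ShortExact :=
    ShortComplex.ShortExact.mk' (ShortComplex.exact_of_f_is_kernel _ (kernelIsKernel u))
      inferInstance inferInstance
  intro t
  exact CohBase.sections_surjective (CohBase.shortExact_toAb hS) (U := (⊤ : Opens X))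
    (@Equiv.subsingleton _ _ (CohBase.equivHTop _ 1).symm.toEquiv hker) t

end Surj

section Span

variable {A B : Type u} [CommRing A] [CommRing B] [Algebra A B] [Module.Flat A B] [IsLocalRing B]
  [IsNoetherianRing B] {X Z : Scheme.{u}} [X.Over (Spec (CommRingCat.of A))]
  [IsProper (X ↘ Spec (CommRingCat.of A))]
  [Algebra A (IsLocalRing.ResidueField B)] [IsScalarTower A B (IsLocalRing.ResidueField B)]
  [Z.Over (Spec (CommRingCat.of (IsLocalRing.ResidueField B)))] {gk : Z ⟶ X}

/-- Over a fibre with vanishing `H¹` the sections are spanned by global sections. -/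
theorem mem_span_range_pullSec (hsq : IsBC (A := A) (A' := IsLocalRing.ResidueField B) gk)
    (hd : ∀ P, topologicalKrullDim ↥((X ↘ Spec (CommRingCat.of A)).fiber P) ≤ 1)
    (F : X.Modules) (hF : Coh.IsCoh F)
    (hk : Subsingleton (Coh.HH Z ((Scheme.Modules.pullback gk).obj F) 1))
    (σ : secA (IsLocalRing.ResidueField B) ((Scheme.Modules.pullback gk).obj F) (gk ⁻¹ᵁ ⊤)) :
    σ ∈ Submodule.span (IsLocalRing.ResidueField B)
      (Set.range fun s : Γ(F, (⊤ : X.Opens)) =>
        (show secA (IsLocalRing.ResidueField B) ((Scheme.Modules.pullback gk).obj F) (gk ⁻¹ᵁ ⊤)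
          from pullSec gk F s)) := by
  haveI : F.IsQuasicoherent := hF.1
  haveI : CompactSpace X := CohFin.compactSpace_of_proper (X ↘ Spec (CommRingCat.of A))
  haveI : X.IsSeparated := CohFin.isSeparated_of_proper (X ↘ Spec (CommRingCat.of A))
  let K := IsLocalRing.ResidueField B
  let j : Spec (CommRingCat.of B) ⟶ Spec (CommRingCat.of A) :=
    Spec.map (CommRingCat.ofHom (algebraMap A B))
  let X' : Scheme.{u} := pullback (X ↘ Spec (CommRingCat.of A)) j
  let g : X' ⟶ X := pullback.fst _ j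
  letI : X'.Over (Spec (CommRingCat.of B)) := ⟨pullback.snd _ j⟩
  have hg : IsBC (A := A) (A' := B) g := IsPullback.of_hasPullback _ j
  haveI : IsAffineHom g := isAffineHom_of_bc hg
  haveI : X'.IsSeparated := isSeparated_of_bc hg
  haveI : CompactSpace X' := QuasiCompact.compactSpace_of_compactSpace g
  haveI := QCohMod.isQCoh_pullback_obj g F
  let m : Spec (CommRingCat.of K) ⟶ Spec (CommRingCat.of B) :=
    Spec.map (CommRingCat.ofHom (algebraMap B K))
  have hmj : m ≫ j = Spec.map (CommRingCat.ofHom (algebraMap A K)) := by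
    rw [← Spec.map_comp]
    congr 1
    ext a
    exact (IsScalarTower.algebraMap_apply A B K a).symm
  let i : Z ⟶ X' := pullback.lift gk ((Z ↘ Spec (CommRingCat.of K)) ≫ m) (by
    rw [Category.assoc, hmj]; exact hsq.w)
  have hig : i ≫ g = gk := pullback.lift_fst _ _ _
  have hi : IsBC (A := B) (A' := K) i := by
    refine IsPullback.of_right ?_ (pullback.lift_snd _ _ _) hg
    rw [hmj, hig]
    exact hsq
  have h2 : ∀ (N : X'.Modules) [N.IsQuasicoherent], Subsingleton (Coh.HH X' N 2) := fun N _ => by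
    haveI := QCohMod.isQCoh_pushforward N g
    have hX := Groth.Limits.FibreVanishing.subsingleton_HH_of_dim_fiber_le (A := A) 1 hd
      ((Scheme.Modules.pushforward g).obj N) 2 Nat.one_lt_two
    exact (@Equiv.subsingleton _ _ (FiniteBC.pushHA g (X ↘ Spec (CommRingCat.of A))
      (X' ↘ Spec (CommRingCat.of B)) N 2).symm.toEquiv hX : Subsingleton (CohFin.HA _ N 2))
  have h1 : Subsingleton (Coh.HH X' ((Scheme.Modules.pullback g).obj F) 1) := by
    refine Groth.Limits.FibreVanishing.subsingleton_HH_of_killed 1 hd F hg fun h => ?_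
    obtain ⟨s, hs, hsh⟩ :=
      Groth.Limits.FibreVanishing.exists_smul_eq_zero_of_fibre 1 hd F hF K hsq hk h
    refine ⟨s, IsLocalRing.residue_ne_zero_iff_isUnit _ |>.1 ?_, hsh⟩
    rwa [IsScalarTower.algebraMap_apply A B K] at hs
  obtain ⟨ε, hε⟩ : ∃ ε : (Scheme.Modules.pullback i).obj ((Scheme.Modules.pullback g).obj F) ≅
      (Scheme.Modules.pullback gk).obj F, ∀ {U : X.Opens} (s : Γ(F, U)) (hU : gk ⁻¹ᵁ U ≤ i ⁻¹ᵁ g ⁻¹ᵁ U),
        Groth.PicAux.res _ hU (ε.hom.app (i ⁻¹ᵁ g ⁻¹ᵁ U) (pullSec i _ (pullSec g F s))) =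
          pullSec gk F s := Groth.PicAux.Seesaw.exists_triangle_iso i g hig F
  obtain ⟨t, ht⟩ := pullSec_surjective_of_h1 hi IsLocalRing.residue_surjective
    (IsNoetherian.noetherian _) _ h1 h2 (ε.inv.app _ (show Γ((Scheme.Modules.pullback gk).obj F, gk ⁻¹ᵁ (⊤ : X.Opens)) from σ))
  obtain ⟨z, hz⟩ := (FlatStrata.bcBij_of_flat hg F).2 (show secA B _ (g ⁻¹ᵁ ⊤) from t)
  let Φ : TensorProduct A B (secA A F ⊤) →+
      Γ((Scheme.Modules.pullback gk).obj F, i ⁻¹ᵁ (g ⁻¹ᵁ (⊤ : X.Opens))) :=
    ((ε.hom.app (i ⁻¹ᵁ (g ⁻¹ᵁ (⊤ : X.Opens)))).hom.comp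
      (((Scheme.Modules.pullbackPushforwardAdjunction i).unit.app _).app (g ⁻¹ᵁ (⊤ : X.Opens))).hom).comp
      (FlatStrata.bcLin hg F ⊤).toAddMonoidHom
  have hσ : σ = (show Γ((Scheme.Modules.pullback gk).obj F, gk ⁻¹ᵁ (⊤ : X.Opens)) from Φ z) := by
    change _ = ε.hom.app _ (pullSec i _ (FlatStrata.bcLin hg F ⊤ z))
    rw [hz]
    refine Eq.trans ?_ (congrArg (fun v => ε.hom.app _ v) ht).symm
    exact (congr($(ε.inv_hom_id).app _ σ)).symm
  rw [hσ]
  clear hσ ht hz
  induction z using TensorProduct.induction_on with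
  | zero => rw [map_zero Φ]; exact zero_mem _
  | add a b ha hb => rw [map_add Φ]; exact add_mem ha hb
  | tmul b s =>
    change (ε.hom.app _ (pullSec i _ (FlatStrata.bcLin hg F ⊤ (b ⊗ₜ s))) : _) ∈ _
    rw [FlatStrata.bcLin_tmul]
    have e1 : pullSec i ((Scheme.Modules.pullback g).obj F)
        (toSec B (g ⁻¹ᵁ ⊤) b • pullSec g F (show Γ(F, (⊤ : X.Opens)) from s)) =
        toSec K (i ⁻¹ᵁ (g ⁻¹ᵁ (⊤ : X.Opens))) (algebraMap B K b) • pullSec i _ (pullSec g F (show Γ(F, (⊤ : X.Opens)) from s)) := by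
      rw [pullSec_smul, app_toSec hi]
    erw [e1]
    rw [Scheme.Modules.Hom.app_smul]
    change algebraMap B K b • (show secA K ((Scheme.Modules.pullback gk).obj F) (gk ⁻¹ᵁ (⊤ : X.Opens))
      from ε.hom.app _ (pullSec i _ (pullSec g F (show Γ(F, (⊤ : X.Opens)) from s)))) ∈ _
    refine Submodule.smul_mem _ (algebraMap B K b) (Submodule.subset_span ⟨s, ?_⟩)
    exact (hε (show Γ(F, (⊤ : X.Opens)) from s) le_rfl).symm.trans (Groth.PicAux.res_self _ _)

end Span

end Groth.CohBase.ClosedFibreLift
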