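import Groth.Agent.CohTwo.ComposeCoh

/-!
A left exact functor applied to a complex of acyclic objects whose cohomology has derived images
in a class closed under kernels, cokernels and extensions.
-/

universe v u v' u'

open CategoryTheory CategoryTheory.Limits HomologicalComplex

namespace Groth.CohBase.ComposeAcyclic

open Groth.CohTwo.ComposeCoh

variable {C : Type u} [Category.{v} C] [Abelian C] [HasInjectiveResolutions C]
  {D : Type u'} [Category.{v'} D] [Abelian D] (F : C ⥤ D) [F.Additive] [PreservesFiniteLimits F]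
  {P : D → Prop} (hP : Closed P)
include hP

/-- The derived images of the cycles, and their degree zero part. -/
theorem derived_cycles (L : RDer.DerivedLES F) (K : CochainComplex C ℕ) (hK : ∀ i p, IsZero ((F.rightDerived (p + 1)).obj (K.X i)))
    (n : ℕ) (hH : ∀ j, j ≤ n → ∀ p, P ((F.rightDerived p).obj (K.homology j))) :
    ∀ j, j ≤ n → ∀ p, P ((F.rightDerived (p + 1)).obj (K.cycles j)) := by
  intro j
  induction j with
  | zero =>
    intro hj p
    exact hP.iso ((F.rightDerived (p + 1)).mapIso K.isoHomologyπ₀.symm) (hH 0 hj (p + 1))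
  | succ j ih =>
    intro hj p
    have hB : ∀ q, P ((F.rightDerived (q + 1)).obj (cokernel (K.iCycles j))) := fun q => by
      have h := cycSeq_shortExact K j
      have z₁ : IsZero ((F.rightDerived (q + 1)).obj (K.X j)) := hK j q
      have z₂ : IsZero ((F.rightDerived (q + 1 + 1)).obj (K.X j)) := hK j (q + 1)
      have hm : Mono (L.δ _ h (q + 1) (q + 1 + 1) rfl) :=
        (L.exact₃ _ h (q + 1) (q + 1 + 1) rfl).mono_g (z₁.eq_of_src _ _)
      have he : Epi (L.δ _ h (q + 1) (q + 1 + 1) rfl) :=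
        (L.exact₁ _ h (q + 1) (q + 1 + 1) rfl).epi_f (z₂.eq_of_tgt _ _)
      haveI := isIso_of_mono_of_epi (L.δ _ h (q + 1) (q + 1 + 1) rfl)
      exact hP.iso (asIso (L.δ _ h (q + 1) (q + 1 + 1) rfl)).symm (ih (by omega) (q + 1))
    have h := bdSeq_shortExact K j
    exact five hP _ _ _ _ (L.exact₁ _ h p (p + 1) rfl) (L.exact₂ _ h (p + 1))
      (L.exact₃ _ h (p + 1) (p + 2) rfl) (hH (j + 1) hj p) (hB p) (hH (j + 1) hj (p + 1)) (hB (p + 1))

theorem mem_homology_map (L : RDer.DerivedLES F) (K : CochainComplex C ℕ) (hK : ∀ i p, IsZero ((F.rightDerived (p + 1)).obj (K.X i)))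
    (n : ℕ) (hH : ∀ j, j ≤ n → ∀ p, P ((F.rightDerived p).obj (K.homology j))) (i : ℕ) (hi : i ≤ n) :
    P (((F.mapHomologicalComplex (ComplexShape.up ℕ)).obj K).homology i) := by
  let K' : CochainComplex D ℕ := (F.mapHomologicalComplex (ComplexShape.up ℕ)).obj K
  let e := F.rightDerivedZeroIsoSelf
  have hcyc : ∀ k, IsLimit (KernelFork.ofι (f := K'.d k (k + 1)) (F.map (K.iCycles k))
      ((F.map_comp _ _).symm.trans ((congrArg F.map (K.iCycles_d k (k + 1))).trans (F.map_zero _ _)))) :=
    fun k => KernelFork.mapIsLimit _ (K.cyclesIsKernel k (k + 1) (by simp)) F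
  match i with
  | 0 =>
    refine hP.iso (Iso.trans ?_ K'.isoHomologyπ₀) (hH 0 hi 0)
    refine (F.rightDerived 0).mapIso K.isoHomologyπ₀.symm ≪≫ e.app (K.cycles 0) ≪≫ ?_
    exact IsLimit.conePointUniqueUpToIso (hcyc 0) (K'.cyclesIsKernel 0 1 (by simp))
  | j + 1 =>
    let c : F.obj (K.cycles (j + 1)) ≅ K'.cycles (j + 1) :=
      IsLimit.conePointUniqueUpToIso (hcyc (j + 1)) (K'.cyclesIsKernel (j + 1) (j + 2) (by simp))
    have hc : c.hom ≫ K'.iCycles (j + 1) = F.map (K.iCycles (j + 1)) :=
      IsLimit.conePointUniqueUpToIso_hom_comp (hcyc (j + 1))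
        (K'.cyclesIsKernel (j + 1) (j + 2) (by simp)) WalkingParallelPair.zero
    have hto : F.map (K.toCycles j (j + 1)) ≫ c.hom = K'.toCycles j (j + 1) := by
      rw [← cancel_mono (K'.iCycles (j + 1)), Category.assoc, hc]
      exact (F.map_comp _ _).symm.trans ((congrArg F.map (K.toCycles_i j (j + 1))).trans
        (K'.toCycles_i j (j + 1)).symm)
    refine hP.iso ((cokernel.mapIso ((F.rightDerived 0).map (K.toCycles j (j + 1))) (K'.toCycles j (j + 1))
      (e.app _) (e.app _ ≪≫ c) ?_) ≪≫ (cokernelIsCokernel _).coconePointUniqueUpToIso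
        (K'.homologyIsCokernel j (j + 1) (by simp))) ?_
    · refine (Category.assoc _ _ _).symm.trans ?_
      refine (congrArg (· ≫ c.hom) (e.hom.naturality (K.toCycles j (j + 1)))).trans ?_
      exact (Category.assoc _ _ _).trans (congrArg (e.hom.app _ ≫ ·) hto)
    have hfac : K.toCycles j (j + 1) = cokernel.π (K.iCycles j) ≫ (bdSeq K j).f :=
      (cokernel.π_desc _ _ _).symm
    rw [hfac, Functor.map_comp]
    haveI : Mono ((F.rightDerived 0).map (bdSeq K j).f) := by
      haveI := (bdSeq_shortExact K j).mono_f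
      haveI : PreservesFiniteLimits (F.rightDerived 0) := preservesFiniteLimits_of_natIso e.symm
      infer_instance
    refine coker_comp hP _ _ ?_ ?_
    · have h := cycSeq_shortExact K j
      have z : IsZero ((F.rightDerived 1).obj (K.X j)) := hK j 0
      have he : Epi (L.δ _ h 0 1 rfl) := (L.exact₁ _ h 0 1 rfl).epi_f (z.eq_of_tgt _ _)
      exact hP.iso ((cokernelIsCokernel _).coconePointUniqueUpToIso
        (L.exact₃ _ h 0 1 rfl).gIsCokernel).symm (derived_cycles F hP L K hK n hH j (by omega) 0)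
    · have h := bdSeq_shortExact K j
      have hd : P ((F.rightDerived 1).obj (cokernel (K.iCycles j))) := by
        have h' := cycSeq_shortExact K j
        have z₁ : IsZero ((F.rightDerived 1).obj (K.X j)) := hK j 0
        have z₂ : IsZero ((F.rightDerived 2).obj (K.X j)) := hK j 1
        have hm : Mono (L.δ _ h' 1 2 rfl) := (L.exact₃ _ h' 1 2 rfl).mono_g (z₁.eq_of_src _ _)
        have he : Epi (L.δ _ h' 1 2 rfl) := (L.exact₁ _ h' 1 2 rfl).epi_f (z₂.eq_of_tgt _ _)
        haveI := isIso_of_mono_of_epi (L.δ _ h' 1 2 rfl)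
        exact hP.iso (asIso (L.δ _ h' 1 2 rfl)).symm (derived_cycles F hP L K hK n hH j (by omega) 1)
      have w : cokernel.desc ((F.rightDerived 0).map (bdSeq K j).f) ((F.rightDerived 0).map (bdSeq K j).g)
          (by rw [← Functor.map_comp, (bdSeq K j).zero, Functor.map_zero]) ≫ L.δ _ h 0 1 rfl = 0 := by
        rw [← cancel_epi (cokernel.π _)]
        simp only [cokernel.π_desc_assoc, comp_zero]
        exact L.comp_δ (bdSeq K j) h 0 1 rfl
      have hk : (ShortComplex.mk _ _ w).Exact := by
        rw [ShortComplex.exact_iff_exact_up_to_refinements]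
        intro T x hx
        obtain ⟨T', π, hπ, y, hy⟩ := (L.exact₃ _ h 0 1 rfl).exact_up_to_refinements x hx
        exact ⟨T', π, hπ, y ≫ cokernel.π _, by simpa using hy⟩
      haveI := (L.exact₂ _ h 0).mono_cokernelDesc
      exact hP.iso ((kernelIsKernel _).conePointUniqueUpToIso hk.fIsKernel)
        (hP.ker _ (hH (j + 1) hi 0) hd)

omit hP in
/-- Zero objects are closed under kernels, cokernels and extensions. -/
theorem closed_isZero : Closed (IsZero : D → Prop) where
  iso e h := h.of_iso e.symm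
  ker f h _ := IsZero.of_mono (kernel.ι f) h
  coker f _ h := IsZero.of_epi (cokernel.π f) h
  ext hS h₁ h₃ := hS.exact.isZero_of_both_zeros (h₁.eq_of_src _ _) (h₃.eq_of_tgt _ _)

omit hP in
/-- The functor commutes with the cohomology when its derived functors vanish on it. -/
theorem nonempty_homology_map_iso (L : RDer.DerivedLES F) (K : CochainComplex C ℕ)
    (hK : ∀ i p, IsZero ((F.rightDerived (p + 1)).obj (K.X i))) (n : ℕ)
    (hH : ∀ j, j ≤ n → ∀ p, IsZero ((F.rightDerived (p + 1)).obj (K.homology j))) :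
    Nonempty (((F.mapHomologicalComplex (ComplexShape.up ℕ)).obj K).homology n ≅
      F.obj (K.homology n)) := by
  let K' : CochainComplex D ℕ := (F.mapHomologicalComplex (ComplexShape.up ℕ)).obj K
  let e := F.rightDerivedZeroIsoSelf
  have hcyc : ∀ k, IsLimit (KernelFork.ofι (f := K'.d k (k + 1)) (F.map (K.iCycles k))
      ((F.map_comp _ _).symm.trans ((congrArg F.map (K.iCycles_d k (k + 1))).trans (F.map_zero _ _)))) :=
    fun k => KernelFork.mapIsLimit _ (K.cyclesIsKernel k (k + 1) (by simp)) F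
  have hcz : ∀ j, j ≤ n → ∀ q, IsZero ((F.rightDerived (q + 1)).obj (K.cycles j)) := by
    intro j
    induction j with
    | zero =>
      intro hj q
      exact (hH 0 hj q).of_iso ((F.rightDerived (q + 1)).mapIso K.isoHomologyπ₀)
    | succ j ih =>
      intro hj q
      have hB : IsZero ((F.rightDerived (q + 1)).obj (cokernel (K.iCycles j))) :=
        (L.exact₃ _ (cycSeq_shortExact K j) (q + 1) (q + 1 + 1) rfl).isZero_of_both_zeros
          ((hK j q).eq_of_src _ _) ((ih (by omega) (q + 1)).eq_of_tgt _ _)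
      exact (L.exact₂ _ (bdSeq_shortExact K j) (q + 1)).isZero_of_both_zeros
        (hB.eq_of_src _ _) ((hH (j + 1) hj q).eq_of_tgt _ _)
  cases n with
  | zero =>
    refine ⟨K'.isoHomologyπ₀.symm ≪≫
      ((hcyc 0).conePointUniqueUpToIso (K'.cyclesIsKernel 0 1 (by simp))).symm ≪≫
      F.mapIso K.isoHomologyπ₀⟩
  | succ j =>
    let c : F.obj (K.cycles (j + 1)) ≅ K'.cycles (j + 1) :=
      IsLimit.conePointUniqueUpToIso (hcyc (j + 1)) (K'.cyclesIsKernel (j + 1) (j + 2) (by simp))
    have hc : c.hom ≫ K'.iCycles (j + 1) = F.map (K.iCycles (j + 1)) :=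
      IsLimit.conePointUniqueUpToIso_hom_comp (hcyc (j + 1))
        (K'.cyclesIsKernel (j + 1) (j + 2) (by simp)) WalkingParallelPair.zero
    have hto : F.map (K.toCycles j (j + 1)) ≫ c.hom = K'.toCycles j (j + 1) := by
      rw [← cancel_mono (K'.iCycles (j + 1)), Category.assoc, hc]
      exact (F.map_comp _ _).symm.trans ((congrArg F.map (K.toCycles_i j (j + 1))).trans
        (K'.toCycles_i j (j + 1)).symm)
    have h := bdSeq_shortExact K j
    have h' := cycSeq_shortExact K j
    haveI : Epi ((F.rightDerived 0).map (cokernel.π (K.iCycles j))) :=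
      (L.exact₃ _ h' 0 1 rfl).epi_f ((hcz j (by omega) 0).eq_of_tgt _ _)
    have hB : IsZero ((F.rightDerived 1).obj (cokernel (K.iCycles j))) :=
      (L.exact₃ _ h' 1 2 rfl).isZero_of_both_zeros
        ((hK j 0).eq_of_src _ _) ((hcz j (by omega) 1).eq_of_tgt _ _)
    haveI : Epi ((F.rightDerived 0).map (bdSeq K j).g) :=
      (L.exact₃ _ h 0 1 rfl).epi_f (hB.eq_of_tgt _ _)
    have hfac : K.toCycles j (j + 1) = cokernel.π (K.iCycles j) ≫ (bdSeq K j).f :=
      (cokernel.π_desc _ _ _).symm
    let i₁ : cokernel ((F.rightDerived 0).map (K.toCycles j (j + 1))) ≅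
        cokernel (K'.toCycles j (j + 1)) :=
      cokernel.mapIso _ _ (e.app _) (e.app _ ≪≫ c) (by
        refine Eq.trans ?_ (congrArg (e.hom.app _ ≫ ·) hto)
        refine (Category.assoc _ _ _).symm.trans ?_
        exact (congrArg (· ≫ c.hom) (e.hom.naturality (K.toCycles j (j + 1)))).trans
          (Category.assoc _ _ _))
    let i₂ : cokernel ((F.rightDerived 0).map (K.toCycles j (j + 1))) ≅
        (F.rightDerived 0).obj (K.homology (j + 1)) :=
      cokernelIsoOfEq (by rw [hfac, Functor.map_comp]) ≪≫ cokernelEpiComp _ _ ≪≫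
        (cokernelIsCokernel _).coconePointUniqueUpToIso (L.exact₂ _ h 0).gIsCokernel
    exact ⟨(K'.homologyIsCokernel j (j + 1) (by simp)).coconePointUniqueUpToIso
      (cokernelIsCokernel _) ≪≫ i₁.symm ≪≫ i₂ ≪≫ e.app _⟩

end Groth.CohBase.ComposeAcyclic
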