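import Groth.Agent.CohBase.RankTheory
import Groth.Agent.FlatCxBase.BaseChange
import Mathlib.Algebra.Module.FinitePresentation

/-!
# Base change of a complex of finite free modules, in terms of `dq`
-/

universe u

open CategoryTheory CategoryTheory.Limits MonoidalCategory HomologicalComplex
open scoped TensorProduct

noncomputable section

set_option backward.isDefEq.respectTransparency.types false

namespace Groth.CohBase.CxRank

open Groth.FlatCxBase

section BC

variable {A : Type u} [CommRing A] (B : Type u) [CommRing B] [Algebra A B]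
  (L : CochainComplex (ModuleCat.{u} A) ℤ) (j : ℤ)

/-- The base change of a complex. -/
abbrev bcL : CochainComplex (ModuleCat.{u} B) ℤ := CohIII.bcCx (algebraMap A B) L

/-- The terms of the base change. -/
def xBC (i : ℤ) : (bcL B L).X i ≃ₗ[B] B ⊗[A] L.X i := extendEquiv B (L.X i)

lemma xBC_d (i k : ℤ) (x : (bcL B L).X i) :
    xBC B L k ((bcL B L).d i k x) = (L.d i k).hom.baseChange B (xBC B L i x) :=
  extendEquiv_bcCx_d B L i k x

/-- The cokernel commutes with base change. -/
def qcBC : Qc (bcL B L) j ≃ₗ[B] B ⊗[A] Qc L j := cokerBCEquiv B L (j - 1) j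

lemma qcBC_mk (x : (bcL B L).X j) :
    qcBC B L j (Submodule.Quotient.mk x) =
      (cokerπ L (j - 1) j).baseChange B (xBC B L j x) := rfl

lemma qcBC_dq (q : Qc (bcL B L) j) :
    xBC B L (j + 1) (dq (bcL B L) j q) =
      (dq L j).baseChange B (qcBC B L j q) := by
  obtain ⟨x, rfl⟩ := Submodule.Quotient.mk_surjective _ q
  rw [qcBC_mk]
  change xBC B L (j + 1) ((bcL B L).d j (j + 1) x) = _
  rw [xBC_d, ← LinearMap.comp_apply, ← LinearMap.baseChange_comp, dBar_comp]

/-- The cohomology of the base change. -/
def hkBC : Hk (bcL B L) j ≃ₗ[B] LinearMap.ker ((dq L j).baseChange B) :=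
  (qcBC B L j).ofSubmodules _ _ (by
    ext z
    constructor
    · rintro ⟨q, hq, rfl⟩
      exact (qcBC_dq B L j q).symm.trans ((congrArg _ hq).trans (map_zero _))
    · intro hz
      refine ⟨(qcBC B L j).symm z, ?_, LinearEquiv.apply_symm_apply _ z⟩
      apply (xBC B L (j + 1)).injective
      rw [map_zero, qcBC_dq, LinearEquiv.apply_symm_apply]
      exact hz)

/-- The kernels after a further base change. -/
def kerBC (K : Type u) [CommRing K] [Algebra A K] [Algebra B K] [IsScalarTower A B K] :
    LinearMap.ker ((dq (bcL B L) j).baseChange K) ≃ₗ[K] LinearMap.ker ((dq L j).baseChange K) :=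
  let eQ := ((qcBC B L j).baseChange B K _ _).trans
    (TensorProduct.AlgebraTensorModule.cancelBaseChange A B K K (Qc L j))
  let eX := ((xBC B L (j + 1)).baseChange B K _ _).trans
    (TensorProduct.AlgebraTensorModule.cancelBaseChange A B K K (L.X (j + 1)))
  eQ.ofSubmodules _ _ (by
    have key : ∀ z, eX ((dq (bcL B L) j).baseChange K z) = (dq L j).baseChange K (eQ z) := by
      intro z
      induction z using TensorProduct.induction_on with
      | zero => simp
      | add a b ha hb => simp only [map_add, ha, hb]
      | tmul k q =>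
        simp only [eX, eQ, LinearEquiv.trans_apply, LinearMap.baseChange_tmul,
          LinearEquiv.baseChange_tmul, qcBC_dq]
        generalize qcBC B L j q = w
        induction w using TensorProduct.induction_on with
        | zero => simp
        | add u v hu hv => simp only [map_add, TensorProduct.tmul_add, hu, hv]
        | tmul b x => simp
    ext z
    constructor
    · rintro ⟨q, hq, rfl⟩
      exact (key q).symm.trans ((congrArg _ hq).trans (map_zero _))
    · intro hz
      refine ⟨eQ.symm z, ?_, LinearEquiv.apply_symm_apply _ z⟩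
      apply eX.injective
      rw [map_zero, key, LinearEquiv.apply_symm_apply]
      exact hz)

/-- Vanishing of `T_j` passes to a base change. -/
theorem isZero_T_bc (h : ∀ N : ModuleCat.{u} A, IsZero (CohIII.T L j N)) (N : ModuleCat.{u} B) :
    IsZero (CohIII.T (bcL B L) j N) := by
  let : Module A N := Module.compHom N (algebraMap A B)
  have : IsScalarTower A B N := IsScalarTower.of_compHom A B N
  let e : ∀ i, (bcL B L).X i ⊗[B] N ≃+ L.X i ⊗[A] N := fun i =>
    (((TensorProduct.congr (xBC B L i) (LinearEquiv.refl B N)).trans
      (TensorProduct.comm B (B ⊗[A] L.X i) N)).trans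
        (TensorProduct.AlgebraTensorModule.cancelBaseChange A B B N (L.X i))).toAddEquiv.trans
      (TensorProduct.comm A N (L.X i)).toAddEquiv
  have he : ∀ i k z, e k (((bcL B L).d i k).hom.rTensor N z) = (L.d i k).hom.rTensor N (e i z) := by
    intro i k z
    induction z using TensorProduct.induction_on with
    | zero => simp
    | add a b ha hb => simp only [map_add, ha, hb]
    | tmul x n =>
      rw [LinearMap.rTensor_tmul]
      change TensorProduct.comm A N (L.X k) (TensorProduct.AlgebraTensorModule.cancelBaseChange A B B N
          (L.X k) (n ⊗ₜ[B] xBC B L k ((bcL B L).d i k x))) =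
        (L.d i k).hom.rTensor N (TensorProduct.comm A N (L.X i)
          (TensorProduct.AlgebraTensorModule.cancelBaseChange A B B N (L.X i) (n ⊗ₜ[B] xBC B L i x)))
      rw [xBC_d B L i k x]
      generalize xBC B L i x = w
      induction w using TensorProduct.induction_on with
      | zero => simp
      | add u v hu hv => simp only [map_add, TensorProduct.tmul_add, hu, hv]
      | tmul b y => simp
  refine (isZero_T_iff _ (cochain_prev j) (cochain_next j) N).2 fun z hz => ?_
  obtain ⟨w, hw⟩ := (isZero_T_iff L (cochain_prev j) (cochain_next j) (ModuleCat.of A N)).1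
    (h (ModuleCat.of A N)) (e j z) ((he j (j + 1) z).symm.trans ((congrArg _ hz).trans (map_zero _)))
  refine ⟨(e (j - 1)).symm w, (e j).injective ?_⟩
  rw [he, AddEquiv.apply_symm_apply]
  exact hw

lemma free_bc [Module.Free A (L.X j)] : Module.Free B ((bcL B L).X j) :=
  Module.Free.of_equiv (extendEquiv B (L.X j)).symm

lemma isZero_bc (h : IsZero (L.X j)) : IsZero ((bcL B L).X j) :=
  Functor.map_isZero (ModuleCat.extendScalars (algebraMap A B)) h

end BC

section Finite

variable {A : Type u} [CommRing A] (L : CochainComplex (ModuleCat.{u} A) ℤ)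
  [∀ i, Module.Finite A (L.X i)] (j : ℤ)

lemma finitePresentation_Qc [∀ i, Module.Free A (L.X i)] :
    Module.FinitePresentation A (Qc L j) := by
  have : Module.FinitePresentation A (L.X j) := Module.finitePresentation_of_projective _ _
  refine Module.finitePresentation_of_surjective (Submodule.mkQ _) (Submodule.mkQ_surjective _) ?_
  rw [Submodule.ker_mkQ]
  exact Module.Finite.iff_fg.1 inferInstance

variable [∀ i, Module.Free A (L.X i)]

/-- With flat cokernels the cohomology is finite projective. -/
theorem finite_projective_Hk (h : Module.Flat A (Qc L j)) (h' : Module.Flat A (Qc L (j + 1))) :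
    Module.Finite A (Hk L j) ∧ Module.Projective A (Hk L j) := by
  have := finitePresentation_Qc L j
  have := finitePresentation_Qc L (j + 1)
  have : Module.Projective A (Qc L j) := Module.Flat.projective_of_finitePresentation
  have : Module.Projective A (Qc L (j + 1)) := Module.Flat.projective_of_finitePresentation
  obtain ⟨s, hs⟩ := Module.projective_lifting_property (cokerπ L (j + 1 - 1) (j + 1)) LinearMap.id
    (Submodule.mkQ_surjective _)
  let p := (cokerDqEquiv L j).toLinearMap.comp (LinearMap.range (dq L j)).mkQ
  obtain ⟨s', hs'⟩ := Module.projective_lifting_property p LinearMap.id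
    ((cokerDqEquiv L j).surjective.comp (Submodule.mkQ_surjective _))
  have hmem : ∀ x, ((LinearMap.id : L.X (j + 1) →ₗ[A] L.X (j + 1)) - s'.comp p) x ∈ LinearMap.range (dq L j) := fun x => by
    have h0 : p (((LinearMap.id : L.X (j + 1) →ₗ[A] L.X (j + 1)) - s'.comp p) x) = 0 := by
      rw [LinearMap.sub_apply, map_sub]
      exact sub_eq_zero.2 (LinearMap.congr_fun hs' (p x)).symm
    exact (Submodule.Quotient.mk_eq_zero _).1 ((cokerDqEquiv L j).injective
      (h0.trans (map_zero _).symm))
  have : Module.Projective A (LinearMap.range (dq L j)) := by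
    refine Module.Projective.of_split (LinearMap.range (dq L j)).subtype
      (((LinearMap.id : L.X (j + 1) →ₗ[A] L.X (j + 1)) - s'.comp p).codRestrict _ hmem) (LinearMap.ext fun x => Subtype.ext ?_)
    change x.1 - s' (p x.1) = x.1
    rw [show p x.1 = 0 from (congrArg (cokerDqEquiv L j)
      ((Submodule.Quotient.mk_eq_zero _).2 x.2)).trans (map_zero _), map_zero, sub_zero]
  obtain ⟨t, ht⟩ := Module.projective_lifting_property (dq L j).rangeRestrict LinearMap.id
    (LinearMap.surjective_rangeRestrict _)
  have hk : ∀ x, ((LinearMap.id : Qc L j →ₗ[A] Qc L j) - t.comp (dq L j).rangeRestrict) x ∈ LinearMap.ker (dq L j) := by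
    intro x
    have := congrArg Subtype.val (LinearMap.congr_fun ht ((dq L j).rangeRestrict x))
    rw [LinearMap.mem_ker, LinearMap.sub_apply, map_sub, sub_eq_zero]
    exact this.symm
  let π := ((LinearMap.id : Qc L j →ₗ[A] Qc L j) - t.comp (dq L j).rangeRestrict).codRestrict _ hk
  have hπ : π.comp (LinearMap.ker (dq L j)).subtype = LinearMap.id := LinearMap.ext fun x =>
    Subtype.ext (by
      change x.1 - t ((dq L j).rangeRestrict x.1) = x.1
      rw [show (dq L j).rangeRestrict x.1 = 0 from Subtype.ext x.2, map_zero, sub_zero])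
  exact ⟨Module.Finite.of_surjective π fun x => ⟨x.1, LinearMap.congr_fun hπ x⟩,
    Module.Projective.of_split _ π hπ⟩

/-- Where the differential is injective on the fibre, the cohomology dies on a neighbourhood. -/
theorem exists_notMem_smul_eq_zero (x : PrimeSpectrum A)
    (h : Function.Injective ((dq L j).lTensor x.asIdeal.ResidueField)) :
    ∃ g, g ∉ x.asIdeal ∧ ∀ z : Hk L j, g • z = 0 := by
  let B := Localization.AtPrime x.asIdeal
  let k := IsLocalRing.ResidueField B
  let f := dq L j
  let f' := f.baseChange B
  have : Module.Finite B (B ⊗[A] Qc L j) := inferInstance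
  have hinj : Function.Injective (f'.lTensor k) := by
    let cX := TensorProduct.AlgebraTensorModule.cancelBaseChange A B k k (Qc L j)
    let cY := TensorProduct.AlgebraTensorModule.cancelBaseChange A B k k (L.X (j + 1))
    have key : ∀ z, cY (f'.lTensor k z) = f.lTensor k (cX z) := fun z => by
      induction z using TensorProduct.induction_on with
      | zero => simp
      | add a b ha hb => simp only [map_add, ha, hb]
      | tmul a w =>
        induction w using TensorProduct.induction_on with
        | zero => simp
        | add u v hu hv => simp only [TensorProduct.tmul_add, map_add, hu, hv]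
        | tmul b x => simp [cX, cY, f', f]
    intro a b hab
    exact cX.injective (h (by rw [← key, ← key, hab]))
  have : Module.Free B (B ⊗[A] L.X (j + 1)) := inferInstance
  obtain ⟨r, hr⟩ := (IsLocalRing.split_injective_iff_lTensor_residueField_injective f').2 hinj
  let loc := TensorProduct.mk A B (Qc L j) 1
  have : IsLocalizedModule x.asIdeal.primeCompl loc :=
    (isLocalizedModule_iff_isBaseChange x.asIdeal.primeCompl B _).2 (TensorProduct.isBaseChange A _ B)
  have : Module.FinitePresentation A (L.X (j + 1)) := Module.finitePresentation_of_projective _ _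
  obtain ⟨r₀, s, hs⟩ := Module.FinitePresentation.exists_lift_of_isLocalizedModule x.asIdeal.primeCompl
    loc ((r.restrictScalars A).comp (TensorProduct.mk A B (L.X (j + 1)) 1))
  let φ : Qc L j →ₗ[A] Qc L j := r₀.comp f - (s : A) • LinearMap.id
  have hφ : ∀ q, loc (φ q) = 0 := fun q => by
    have h1 : loc (r₀ (f q)) = (s : A) • r (1 ⊗ₜ[A] f q) := LinearMap.congr_fun hs (f q)
    have h2 : r (1 ⊗ₜ[A] f q) = 1 ⊗ₜ[A] q := LinearMap.congr_fun hr (1 ⊗ₜ[A] q)
    rw [LinearMap.sub_apply, map_sub, LinearMap.comp_apply, h1, h2, LinearMap.smul_apply,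
      LinearMap.id_apply, map_smul, sub_eq_zero]
    rfl
  obtain ⟨n, v, hv⟩ := Module.Finite.exists_fin (R := A) (M := Qc L j)
  choose c hc using fun i => (IsLocalizedModule.eq_zero_iff x.asIdeal.primeCompl loc).1 (hφ (v i))
  let g₀ := ∏ i, (c i : A)
  refine ⟨g₀ * s, x.asIdeal.primeCompl.mul_mem
    (prod_mem fun i _ => (c i).2) s.2, fun z => Subtype.ext ?_⟩
  have hann : g₀ • φ = 0 := LinearMap.ext_on_range hv fun i => by
    rw [LinearMap.smul_apply, LinearMap.zero_apply]
    change (∏ i, (c i : A)) • φ (v i) = 0
    rw [← Finset.prod_erase_mul _ _ (Finset.mem_univ i), mul_smul]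
    exact (congrArg (_ • ·) (hc i)).trans (smul_zero _)
  have hz := LinearMap.congr_fun hann z.1
  simp only [φ, LinearMap.smul_apply, LinearMap.sub_apply, LinearMap.comp_apply,
    LinearMap.id_apply, LinearMap.zero_apply, show f z.1 = 0 from z.2, map_zero, zero_sub,
    smul_neg, neg_eq_zero, smul_smul] at hz
  exact hz

end Finite

end Groth.CohBase.CxRank
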