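import Groth.Agent.FlatCxBase.Criteria
import Groth.Agent.FlatCxBase.Corep
import Mathlib.CategoryTheory.Functor.EpiMono

/-!
# Exchange criteria for cochain complexes of flat modules
-/

universe u

open CategoryTheory CategoryTheory.Limits MonoidalCategory HomologicalComplex Opposite
open scoped TensorProduct

namespace Groth.CohBase.CxExch

open Groth.FlatCxBase

variable {A : Type u} [CommRing A] (L : CochainComplex (ModuleCat.{u} A) ℤ)

/-- A cochain complex as a chain complex. -/
noncomputable def rev : ChainComplex (ModuleCat.{u} A) ℤ where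
  X i := L.X (-i)
  d i j := L.d (-i) (-j)
  shape i j h := L.shape _ _ fun e => h (by simp only [ComplexShape.up_Rel, ComplexShape.down_Rel] at e ⊢; omega)
  d_comp_d' i j k _ _ := L.d_comp_d _ _ _

instance [h : ∀ i, Module.Flat A (L.X i)] (i : ℤ) : Module.Flat A ((rev L).X i) := h (-i)

instance [h : ∀ i, Module.Finite A (L.X i)] (i : ℤ) : Module.Finite A ((rev L).X i) := h (-i)

/-- Re-indexing does not change the tensored homology. -/
noncomputable def revTIso (p q : ℤ) (h : -p = q) : CohIII.TFun L q ≅ CohIII.TFun (rev L) p :=
  NatIso.ofComponents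
    (fun M =>
      ShortComplex.homologyMapIso
        (ShortComplex.isoMk (S₁ := (CohIII.tensorObj L M).sc q)
          (S₂ := (CohIII.tensorObj (rev L) M).sc p)
          ((CohIII.tensorObj L M).XIsoOfEq (show (ComplexShape.up ℤ).prev q = -(ComplexShape.down ℤ).prev p by
            rw [cochain_prev, chain_prev]; omega))
          ((CohIII.tensorObj L M).XIsoOfEq (show q = -p by omega))
          ((CohIII.tensorObj L M).XIsoOfEq (show (ComplexShape.up ℤ).next q = -(ComplexShape.down ℤ).next p by
            rw [cochain_next, chain_next]; omega))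
          (by subst h; exact (XIsoOfEq_hom_comp_d (CohIII.tensorObj L M) _ _).trans (d_comp_XIsoOfEq_hom (CohIII.tensorObj L M) _ _).symm)
          (by subst h; exact (XIsoOfEq_hom_comp_d (CohIII.tensorObj L M) _ _).trans (d_comp_XIsoOfEq_hom (CohIII.tensorObj L M) _ _).symm)))
    fun {M N} g => by
      subst h
      change ShortComplex.homologyMap _ ≫ ShortComplex.homologyMap _ =
        ShortComplex.homologyMap _ ≫ ShortComplex.homologyMap _
      rw [← ShortComplex.homologyMap_comp, ← ShortComplex.homologyMap_comp]
      congr 1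
      have key : ∀ (i i' : ℤ) (e : i = i'), (CohIII.tensorMap L g).f i ≫
          ((CohIII.tensorObj L N).XIsoOfEq e).hom =
          ((CohIII.tensorObj L M).XIsoOfEq e).hom ≫ (CohIII.tensorMap L g).f i' := by
        rintro i _ rfl; simp
      ext1
      · exact key _ _ (by rw [cochain_prev, chain_prev]; omega)
      · exact key _ _ rfl
      · exact key _ _ (by rw [cochain_next, chain_next]; omega)

variable [∀ i, Module.Flat A (L.X i)] (p : ℤ)

lemma epi_iff_flat :
    (CohIII.TFun L p).PreservesEpimorphisms ↔ Module.Flat A (Coker L p (p + 1)) :=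
  preservesEpi_iff_flat L (cochain_prev p) (cochain_next p)

lemma mono_iff_flat :
    (CohIII.TFun L (p + 1)).PreservesMonomorphisms ↔ Module.Flat A (Coker L p (p + 1)) :=
  preservesMono_iff_flat L ((cochain_prev _).trans (by omega)) (cochain_next _)

lemma epi_iff_surjective [IsLocalRing A] [∀ i, Module.Finite A (L.X i)] :
    (CohIII.TFun L p).PreservesEpimorphisms ↔
      Function.Surjective ((CohIII.TFun L p).map
        (ModuleCat.ofHom (Algebra.linearMap A (IsLocalRing.ResidueField A)))) :=
  preservesEpi_iff_surjective_residueField L (cochain_prev p) (cochain_next p)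

variable [IsNoetherianRing A] [∀ i, Module.Finite A (L.X i)]

/-- The exchange property makes the next functor corepresentable by a finite module. -/
theorem exists_corep (h : (CohIII.TFun L p).PreservesEpimorphisms) :
    ∃ Q : ModuleCat.{u} A, Module.Finite A Q ∧
      Nonempty (CohIII.TFun L (p + 1) ≅ (linearCoyoneda A (ModuleCat.{u} A)).obj (op Q)) := by
  have hm : (CohIII.TFun L (p + 1)).PreservesMonomorphisms :=
    (mono_iff_flat L p).2 ((epi_iff_flat L p).1 h)
  have : (CohIII.TFun (rev L) (-(p + 1))).PreservesMonomorphisms :=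
    Functor.PreservesMonomorphisms.of_iso (revTIso L (-(p + 1)) (p + 1) (by omega))
  have : Module.Flat A (Chain.Q (rev L) (-(p + 1))) := (Chain.mono_iff (rev L) _).1 this
  refine ⟨corepObj (rev L) (-(p + 1)), ?_, ⟨revTIso L _ _ (by omega) ≪≫ corepIso (rev L) _⟩⟩
  have : Module.Projective A (Chain.Q (rev L) (-(p + 1))) := by
    have := Module.finitePresentation_of_finite A (Chain.Q (rev L) (-(p + 1)))
    exact Module.Flat.projective_of_finitePresentation
  infer_instance

omit [IsNoetherianRing A] [∀ i, Module.Finite A (L.X i)] in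
/-- A corepresentable next functor gives the exchange property. -/
theorem epi_of_preservesMono (h : (CohIII.TFun L (p + 1)).PreservesMonomorphisms) :
    (CohIII.TFun L p).PreservesEpimorphisms :=
  (epi_iff_flat L p).2 ((mono_iff_flat L p).1 h)

omit [∀ i, Module.Finite A (L.X i)] [IsNoetherianRing A] [∀ i, Module.Flat A (L.X i)] in
/-- Left exactness of the lowest degree. -/
theorem preservesEpi_of_isZero (h : ∀ M : ModuleCat.{u} A, IsZero (CohIII.T L p M)) :
    (CohIII.TFun L p).PreservesEpimorphisms :=
  ⟨fun {M N} _ _ => ⟨fun _ _ _ => (show IsZero ((CohIII.TFun L p).obj N) from h N).eq_of_src _ _⟩⟩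

end Groth.CohBase.CxExch
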