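import Mathlib.CategoryTheory.Abelian.RightDerived
import Mathlib.Algebra.Homology.Augment
import Mathlib.CategoryTheory.Preadditive.LeftExact
import Mathlib.Algebra.Homology.ShortComplex.Abelian
import Mathlib.Algebra.Homology.ShortComplex.ExactFunctor

/-!
# Splicing an injective resolution onto a short exact sequence; shifting right derived functors
-/

universe w v u v' u'

open CategoryTheory Limits

namespace Groth.CohBase

variable {C : Type u} [Category.{v} C] [Abelian C] {D : Type u'} [Category.{v'} D] [Abelian D]

/-- The augmentation of an injective resolution, with source the resolved object. -/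
noncomputable abbrev resι {Z : C} (R : InjectiveResolution Z) : Z ⟶ R.cocomplex.X 0 := R.ι.f 0

lemma resι_d {Z : C} (R : InjectiveResolution Z) : resι R ≫ R.cocomplex.d 0 1 = 0 :=
  R.ι_f_zero_comp_complex_d

lemma resι_exact {Z : C} (R : InjectiveResolution Z) :
    (ShortComplex.mk (resι R) (R.cocomplex.d 0 1) (resι_d R)).Exact :=
  ShortComplex.exact_of_f_is_kernel _ R.isLimitKernelFork

variable {S : ShortComplex C} (hS : S.ShortExact)

lemma splice_w (R : InjectiveResolution S.X₃) :
    (S.g ≫ resι R) ≫ R.cocomplex.d 0 1 = 0 := by
  rw [Category.assoc, resι_d, comp_zero]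

/-- The complex obtained by splicing a resolution of the quotient onto the middle term. -/
noncomputable abbrev spliceComplex (R : InjectiveResolution S.X₃) : CochainComplex C ℕ :=
  CochainComplex.augment R.cocomplex (S.g ≫ resι R) (splice_w R)

/-- An injective resolution of the first term of a short exact sequence with injective middle. -/
noncomputable def splice [Injective S.X₂] (R : InjectiveResolution S.X₃) :
    InjectiveResolution S.X₁ where
  cocomplex := spliceComplex R
  injective n := match n with
    | 0 => inferInstanceAs (Injective S.X₂)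
    | n + 1 => R.injective n
  ι := (CochainComplex.fromSingle₀Equiv _ _).symm ⟨S.f, by
    change S.f ≫ S.g ≫ resι R = 0
    rw [S.zero_assoc, zero_comp]⟩
  quasiIso := ⟨fun n => by
    have hS' := hS
    have := hS.mono_f
    have := hS.epi_g
    have hm : Mono (resι R) := inferInstanceAs (Mono (R.ι.f 0))
    cases n with
    | zero =>
      rw [CochainComplex.quasiIsoAt₀_iff, ShortComplex.quasiIso_iff_of_zeros]
      · refine (ShortComplex.exact_and_mono_f_iff_of_iso
          (S₂ := ShortComplex.mk S.f (S.g ≫ resι R) (by rw [S.zero_assoc, zero_comp])) ?_).2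
          ⟨?_, hS.mono_f⟩
        · exact ShortComplex.isoMk (Iso.refl _) (Iso.refl _) (Iso.refl _)
            (by
              refine (Category.id_comp S.f).trans ?_
              refine Eq.trans ?_ (Category.comp_id _).symm
              exact (CochainComplex.fromSingle₀Equiv_symm_apply_f_zero (C := spliceComplex R) S.f
                (S.zero_assoc (resι R) |>.trans zero_comp)).symm)
            (by exact (Category.id_comp _).trans (Category.comp_id _).symm)
        · let φ : S ⟶ ShortComplex.mk S.f (S.g ≫ resι R) (by rw [S.zero_assoc, zero_comp]) :=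
            { τ₁ := 𝟙 _, τ₂ := 𝟙 _, τ₃ := resι R }
          have : Epi φ.τ₁ := inferInstanceAs (Epi (𝟙 _))
          have : IsIso φ.τ₂ := inferInstanceAs (IsIso (𝟙 _))
          have : Mono φ.τ₃ := hm
          exact (ShortComplex.exact_iff_of_epi_of_isIso_of_mono φ).mp hS.exact
      all_goals rfl
    | succ n =>
      rw [quasiIsoAt_iff_exactAt]
      · rw [HomologicalComplex.exactAt_iff' _ n (n + 1) (n + 2) (by simp) (by simp)]
        cases n with
        | zero =>
          let φ : ShortComplex.mk (S.g ≫ resι R) (R.cocomplex.d 0 1) (splice_w R) ⟶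
              ShortComplex.mk (resι R) (R.cocomplex.d 0 1) (resι_d R) :=
            { τ₁ := S.g, τ₂ := 𝟙 _, τ₃ := 𝟙 _ }
          have : Epi φ.τ₁ := hS.epi_g
          have : IsIso φ.τ₂ := inferInstanceAs (IsIso (𝟙 _))
          have : Mono φ.τ₃ := inferInstanceAs (Mono (𝟙 _))
          exact (ShortComplex.exact_iff_of_epi_of_isIso_of_mono φ).mpr (resι_exact R)
        | succ n => exact R.exact_succ n
      · apply CochainComplex.exactAt_succ_single_obj⟩

variable [HasInjectiveResolutions C] (F : C ⥤ D) [F.Additive] [Injective S.X₂]

include hS

/-- Dimension shifting for right derived functors. -/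
noncomputable def rightDerivedShift (n : ℕ) :
    (F.rightDerived (n + 2)).obj S.X₁ ≅ (F.rightDerived (n + 1)).obj S.X₃ :=
  let R := injectiveResolution S.X₃
  (splice hS R).isoRightDerivedObj F (n + 2) ≪≫
    ((F.mapHomologicalComplex _).obj (spliceComplex R)).homologyIsoSc' (n + 1) (n + 2) (n + 3)
      (by simp) (by simp) ≪≫
    ShortComplex.homologyMapIso (ShortComplex.isoMk (Iso.refl _) (Iso.refl _) (Iso.refl _)
      (by exact (Category.id_comp _).trans (Category.comp_id _).symm)
      (by exact (Category.id_comp _).trans (Category.comp_id _).symm)) ≪≫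
    (((F.mapHomologicalComplex _).obj R.cocomplex).homologyIsoSc' n (n + 1) (n + 2)
      (by simp) (by simp)).symm ≪≫
    (R.isoRightDerivedObj F (n + 1)).symm

/-- The first derived functor vanishes when the image of the epimorphism stays epi. -/
lemma isZero_rightDerived_one [PreservesFiniteLimits F] (h : Epi (F.map S.g)) :
    IsZero ((F.rightDerived 1).obj S.X₁) := by
  let R := injectiveResolution S.X₃
  refine IsZero.of_iso ?_ ((splice hS R).isoRightDerivedObj F 1)
  refine (HomologicalComplex.exactAt_iff_isZero_homology _ _).mp ?_
  rw [HomologicalComplex.exactAt_iff' _ 0 1 2 (by simp) (by simp)]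
  have hex : ((ShortComplex.mk (resι R) (R.cocomplex.d 0 1) (resι_d R)).map F).Exact := by
    have hk := R.isLimitKernelFork
    exact ShortComplex.exact_of_f_is_kernel _ (KernelFork.mapIsLimit _ hk F)
  let φ : (ShortComplex.mk (S.g ≫ resι R) (R.cocomplex.d 0 1) (splice_w R)).map F ⟶
      (ShortComplex.mk (resι R) (R.cocomplex.d 0 1) (resι_d R)).map F :=
    { τ₁ := F.map S.g, τ₂ := 𝟙 _, τ₃ := 𝟙 _
      comm₁₂ := by simp; exact (Category.comp_id _).symm
      comm₂₃ := (Category.id_comp _).trans (Category.comp_id _).symm }
  have : Epi φ.τ₁ := h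
  have : IsIso φ.τ₂ := inferInstanceAs (IsIso (𝟙 _))
  have : Mono φ.τ₃ := inferInstanceAs (Mono (𝟙 _))
  exact (ShortComplex.exact_iff_of_epi_of_isIso_of_mono φ).mpr hex

end Groth.CohBase

namespace Groth.CohBase

section MapResolution

variable {C : Type u} [Category.{v} C] [Abelian C] {D : Type u'} [Category.{v'} D] [Abelian D]
  [HasInjectiveResolutions C] (F : C ⥤ D) [F.Additive] [PreservesFiniteLimits F]

lemma map_resι_d {Z : C} (R : InjectiveResolution Z) :
    F.map (resι R) ≫ F.map (R.cocomplex.d 0 1) = 0 := by
  rw [← F.map_comp, resι_d, F.map_zero]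

/-- The image of an injective resolution under a left exact functor preserving injectives, when
the higher derived functors vanish on the resolved object. -/
noncomputable def mapResolution {Z : C} (R : InjectiveResolution Z)
    (hinj : ∀ I : C, Injective I → Injective (F.obj I))
    (hR : ∀ n, IsZero ((F.rightDerived (n + 1)).obj Z)) : InjectiveResolution (F.obj Z) where
  cocomplex := (F.mapHomologicalComplex _).obj R.cocomplex
  injective n := hinj _ (R.injective n)
  ι := (CochainComplex.fromSingle₀Equiv _ _).symm ⟨F.map (resι R), map_resι_d F R⟩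
  quasiIso := ⟨fun n => by
    cases n with
    | zero =>
      rw [CochainComplex.quasiIsoAt₀_iff, ShortComplex.quasiIso_iff_of_zeros]
      · refine (ShortComplex.exact_and_mono_f_iff_of_iso
          (S₂ := (ShortComplex.mk (resι R) (R.cocomplex.d 0 1) (resι_d R)).map F) ?_).2
          ⟨ShortComplex.exact_of_f_is_kernel _ (KernelFork.mapIsLimit _ R.isLimitKernelFork F), ?_⟩
        · exact ShortComplex.isoMk (Iso.refl _) (Iso.refl _) (Iso.refl _)
            (by
              refine (Category.id_comp (F.map (resι R))).trans ?_
              refine Eq.trans ?_ (Category.comp_id _).symm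
              exact (CochainComplex.fromSingle₀Equiv_symm_apply_f_zero
                (C := (F.mapHomologicalComplex _).obj R.cocomplex) (F.map (resι R))
                (map_resι_d F R)).symm)
            (by exact (Category.id_comp _).trans (Category.comp_id _).symm)
        · have : Mono (resι R) := inferInstanceAs (Mono (R.ι.f 0))
          exact inferInstanceAs (Mono (F.map (resι R)))
      all_goals first
        | rfl
        | exact ((congrArg F.map (R.cocomplex.shape 0 0 (by simp))).trans (F.map_zero _ _))
    | succ n =>
      rw [quasiIsoAt_iff_exactAt]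
      · rw [HomologicalComplex.exactAt_iff_isZero_homology]
        exact (hR n).of_iso (R.isoRightDerivedObj F (n + 1)).symm
      · apply CochainComplex.exactAt_succ_single_obj⟩

variable {E : Type*} [Category E] [Abelian E] [HasInjectiveResolutions D]

/-- Derived functors of a composite, evaluated on an acyclic object. -/
noncomputable def rightDerivedCompIso (G : D ⥤ E) [G.Additive] (H : C ⥤ E) [H.Additive]
    (e : F ⋙ G ≅ H) {Z : C} (hinj : ∀ I : C, Injective I → Injective (F.obj I))
    (hR : ∀ n, IsZero ((F.rightDerived (n + 1)).obj Z)) (n : ℕ) :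
    (G.rightDerived n).obj (F.obj Z) ≅ (H.rightDerived n).obj Z :=
  let R := injectiveResolution Z
  (mapResolution F R hinj hR).isoRightDerivedObj G n ≪≫
    (HomologicalComplex.homologyFunctor E _ n).mapIso
      (HomologicalComplex.Hom.isoOfComponents
        (C₁ := (G.mapHomologicalComplex (ComplexShape.up ℕ)).obj (mapResolution F R hinj hR).cocomplex)
        (C₂ := (H.mapHomologicalComplex _).obj R.cocomplex) (fun i => e.app (R.cocomplex.X i))
        (fun i j _ => (e.hom.naturality (R.cocomplex.d i j)).symm)) ≪≫
    (R.isoRightDerivedObj H n).symm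

end MapResolution

end Groth.CohBase
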