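import Groth.Agent.CohBase.CxModel
import Groth.Agent.CohBase.CxExchange

/-!
# The functors `M ↦ H^p(X, f^* M~ ⊗ F)` as homology of a finite free complex
-/

universe u

open CategoryTheory Limits AlgebraicGeometry TopologicalSpace Opposite
open scoped TensorProduct
open Groth.QCohMod (resFun resFun_resFun res_app)

namespace Groth.CohBase

variable (A : Type u) [CommRing A] {X : Scheme.{u}} [X.Over (Spec (CommRingCat.of A))]
  (G : GoodCover X) (F : X.Modules) [F.IsQuasicoherent]

lemma tensorSec_smul (M : ModuleCat.{u} A) (W : X.Opens) (a : A) (z : secA A F W ⊗[A] M) :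
    tensorSec F M W (a • z) = toSec A W a • tensorSec F M W z := by
  induction z using TensorProduct.induction_on with
  | zero => simp
  | tmul s m =>
    rw [TensorProduct.smul_tmul', tensorSec_tmul, tensorSec_tmul]
    change Groth.PicAux.tmulSec _ (toSec A W a • (show Γ(F, W) from s)) = _
    exact Groth.PicAux.tmulSec_smul_right _ _ _
  | add p q hp hq => rw [smul_add, map_add, hp, hq, map_add, smul_add]

lemma toTop_tensorModel_smul (M : ModuleCat.{u} A) (n : ℕ) (a : A)
    (z : cxC A G.U F n ⊗[A] M) (x : Fin (n + 1) → G.ι) :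
    (tensorModel G F M).toTop n (a • z) x =
      resFun X (inf_le_left : ⊤ ⊓ tupOpen (fun i => (𝟙 X) ⁻¹ᵁ G.U i) x ≤ ⊤)
          (Coh.toGlobal (X ↘ Spec (CommRingCat.of A)) a) •
        (tensorModel G F M).toTop n z x := by
  rw [SecModel.toTop_apply, SecModel.toTop_apply, map_smul]
  change QCohMod.res _ _ (tensorSec F M (tupOpen G.U x) (a • _)) = _
  rw [tensorSec_smul, QCohMod.res_smul, toSec, RingHom.comp_apply, resFun_resFun]
  rfl

section Zero

variable (M : ModuleCat.{u} A)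

/-- The resolution used below. -/
noncomputable abbrev res₀ : Res X.Modules :=
  SecModel.res' (g := 𝟙 X) G.hcov ((CohIII.tensorAFunctor A F).obj M)

/-- Cocycles of degree zero of the tensored Čech complex. -/
abbrev cyc₀ : Type u :=
  LinearMap.ker (((cxA A G.U F).d ((0 : ℕ) : ℤ) (((0 : ℕ) : ℤ) + 1)).hom.rTensor M)

lemma exists_secTop (z : cyc₀ A G F M) :
    ∃ s, (res₀ A G F M).ι.app ⊤ s = (tensorModel G F M).toTop 0 z.1 :=
  Res.mem_cyc_zero_iff.1 ((tensorModel G F M).toTop_mem_cyc G.hcov z)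

/-- A cocycle of degree zero as a global section. -/
noncomputable def secTop :
    cyc₀ A G F M →ₗ[A] (CohIII.tensorAFunctor A F ⋙ CohIII.globalSectionsA A).obj M where
  toFun z := (exists_secTop A G F M z).choose
  map_add' z w := Res.ι_app_injective (R := res₀ A G F M) ⊤ (by
    refine (exists_secTop A G F M (z + w)).choose_spec.trans ?_
    refine ((map_add ((tensorModel G F M).toTop 0) z.1 w.1).trans ?_).trans (map_add _ _ _).symm
    exact (congrArg₂ (· + ·) (exists_secTop A G F M z).choose_spec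
      (exists_secTop A G F M w).choose_spec).symm)
  map_smul' a z := Res.ι_app_injective (R := res₀ A G F M) ⊤ (by
    refine (exists_secTop A G F M (a • z)).choose_spec.trans ?_
    refine Eq.trans ?_ ((res₀ A G F M).ι.app_smul
      (U := ⊤) (Coh.toGlobal (X ↘ Spec (CommRingCat.of A)) a) _).symm
    funext x
    refine (toTop_tensorModel_smul A G F M 0 a z.1 x).trans ?_
    exact congrArg (resFun X _ (Coh.toGlobal (X ↘ Spec (CommRingCat.of A)) a) • ·)
      (congrFun (exists_secTop A G F M z).choose_spec x).symm)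

lemma ι_secTop (z : cyc₀ A G F M) :
    (res₀ A G F M).ι.app ⊤ (secTop A G F M z) = (tensorModel G F M).toTop 0 z.1 :=
  (exists_secTop A G F M z).choose_spec

lemma secTop_bijective : Function.Bijective (secTop A G F M) := by
  have hb := (tensorModel G F M).toTop_bijective 0
  refine ⟨fun z w h => Subtype.ext (hb.1 ?_), fun s => ?_⟩
  · rw [← ι_secTop, ← ι_secTop, h]
  · obtain ⟨z, hz⟩ := hb.2 ((res₀ A G F M).ι.app ⊤ s)
    have hc : (res₀ A G F M).ι.app ⊤ s ∈ (res₀ A G F M).Cyc ⊤ 0 := Res.mem_cyc_zero_iff.2 ⟨s, rfl⟩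
    have hz0 : ((cxA A G.U F).d ((0 : ℕ) : ℤ) (((0 : ℕ) : ℤ) + 1)).hom.rTensor M z = 0 := by
      refine (SecModel.cxA_d_rTensor 0 z).trans (((tensorModel G F M).toTop_bijective 1).1 ?_)
      refine ((SecModel.toTop_d _ 0 z).trans ?_).trans (map_zero ((tensorModel G F M).toTop 1)).symm
      rw [hz]
      exact hc
    exact ⟨⟨z, hz0⟩, Res.ι_app_injective (R := res₀ A G F M) ⊤ ((ι_secTop A G F M _).trans hz)⟩

lemma clsT_zero_bijective :
    Function.Bijective (FlatCxBase.clsT (cxA A G.U F) (FlatCxBase.cochain_next ((0 : ℕ) : ℤ)) M) := by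
  refine ⟨(injective_iff_map_eq_zero _).2 fun z hz => ?_, FlatCxBase.clsT_surjective _ _ _⟩
  obtain ⟨w, hw⟩ := (FlatCxBase.clsT_eq_zero_iff _ _ _ (FlatCxBase.cochain_prev _) z).1 hz
  have := ModuleCat.subsingleton_of_isZero (isZero_cxA_of_neg A G.U F
    (i := ((0 : ℕ) : ℤ) - 1) (by simp))
  exact Subtype.ext (hw.symm.trans (by rw [Subsingleton.elim w 0, map_zero]; rfl))

/-- Global sections as `T_0`. -/
noncomputable def zeroEquiv :
    (CohIII.TFun (cxA A G.U F) ((0 : ℕ) : ℤ)).obj M ≃ₗ[A]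
      (CohIII.tensorAFunctor A F ⋙ CohIII.globalSectionsA A).obj M :=
  (LinearEquiv.ofBijective _ (clsT_zero_bijective A G F M)).symm.trans
    (LinearEquiv.ofBijective _ (secTop_bijective A G F M))

lemma zeroEquiv_clsT (z : cyc₀ A G F M) :
    zeroEquiv A G F M (FlatCxBase.clsT (cxA A G.U F) (FlatCxBase.cochain_next _) M z) =
      secTop A G F M z := by
  refine congrArg (secTop A G F M) ?_
  exact (LinearEquiv.ofBijective _ (clsT_zero_bijective A G F M)).symm_apply_apply z

end Zero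

/-- `M ↦ Γ(X, f^* M~ ⊗ F)` is `T_0` of the Čech complex. -/
noncomputable def zeroIso :
    CohIII.TFun (cxA A G.U F) ((0 : ℕ) : ℤ) ≅ CohIII.tensorAFunctor A F ⋙ CohIII.globalSectionsA A :=
  NatIso.ofComponents (fun M => (zeroEquiv A G F M).toModuleIso) fun {M N} φ => by
    refine ModuleCat.hom_ext (LinearMap.ext fun a => ?_)
    obtain ⟨z, rfl⟩ := FlatCxBase.clsT_surjective (cxA A G.U F)
      (FlatCxBase.cochain_next ((0 : ℕ) : ℤ)) M a
    change zeroEquiv A G F N ((CohIII.TFun (cxA A G.U F) ((0 : ℕ) : ℤ)).map φ _) =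
      ((CohIII.tensorAFunctor A F).map φ).app ⊤ (zeroEquiv A G F M _)
    rw [FlatCxBase.TFun_map_clsT, zeroEquiv_clsT, zeroEquiv_clsT]
    apply Res.ι_app_injective (R := res₀ A G F N) ⊤
    refine (ι_secTop A G F N _).trans ?_
    funext x
    change (tensorModel G F N).toTop 0 (φ.hom.lTensor (cxC A G.U F 0) z.1) x =
      QCohMod.res _ _ (((CohIII.tensorAFunctor A F).map φ).app ⊤ (secTop A G F M z))
    rw [res_app, SecModel.toTop_apply, ← LinearMap.comp_apply,
      LinearMap.rTensor_comp_lTensor, ← LinearMap.lTensor_comp_rTensor, LinearMap.comp_apply]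
    refine Eq.trans ?_ (congrArg (((CohIII.tensorAFunctor A F).map φ).app
      (⊤ ⊓ tupOpen (fun i => (𝟙 X) ⁻¹ᵁ G.U i) x)) (congrFun (ι_secTop A G F M z) x).symm)
    rw [SecModel.toTop_apply]
    refine Eq.trans ?_ (res_app ((CohIII.tensorAFunctor A F).map φ) _ _)
    exact congrArg (QCohMod.res _ _) (tensorSec_map F M φ _ _).symm

variable [IsNoetherianRing A]

/-- A finite free complex computing all `H^p(X, f^* M~ ⊗ F)`, naturally in `M`. -/
theorem exists_exchange_model [X.IsSeparated] [CompactSpace X]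
    (hfl : FlatMod.IsFlatOver (X ↘ Spec (CommRingCat.of A)) F)
    (hfin : ∀ p : ℕ, Module.Finite A (Coh.HH X F p)) :
    ∃ L : CochainComplex (ModuleCat.{u} A) ℤ,
      (∀ i, Module.Finite A (L.X i) ∧ Module.Free A (L.X i)) ∧ (∃ b : ℤ, ∀ i, b < i → IsZero (L.X i)) ∧
      (∀ j : ℤ, j < 0 → ∀ M : ModuleCat.{u} A, IsZero (CohIII.T L j M)) ∧
      (∀ p : ℕ, Nonempty (CohIII.TFun L (p : ℤ) ⋙ forget₂ (ModuleCat.{u} A) AddCommGrpCat.{u} ≅
        CohIII.tensorAFunctor A F ⋙ CohIII.HAb X p)) ∧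
      Nonempty (CohIII.TFun L ((0 : ℕ) : ℤ) ≅
        CohIII.tensorAFunctor A F ⋙ CohIII.globalSectionsA A) := by
  obtain ⟨G⟩ := exists_goodCover X
  obtain ⟨L, φ, hL, hb, hq⟩ := exists_finiteFree_qis A G F hfl hfin
  refine ⟨L, hL, hb, fun j hj M => ?_, fun p => ⟨Functor.isoWhiskerRight (tFunIso φ p hq) _ ≪≫
    tensorIso A G F p⟩, ⟨tFunIso φ _ hq ≪≫ zeroIso A G F⟩⟩
  refine IsZero.of_iso ?_ ((tFunIso φ j hq).app M)
  refine (FlatCxBase.isZero_T_iff _ (FlatCxBase.cochain_prev j) (FlatCxBase.cochain_next j) M).2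
    fun x _ => ⟨0, ?_⟩
  have := ModuleCat.subsingleton_of_isZero (isZero_cxA_of_neg A G.U F hj)
  exact Subsingleton.elim _ _

end Groth.CohBase
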