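import Groth.Agent.CohBase.FibreBC
import Groth.Agent.PnCoh.AmpleVanishing
import Groth.Agent.Inter.AmpleCrit
import Groth.Agent.RefRank.DivSheaf
import Groth.Agent.PicAux.PullTensor
import Groth.Agent.CohFin.Proper

/-!
# Vanishing of higher direct images of high twists by a relatively ample module
-/

universe u

open CategoryTheory Limits AlgebraicGeometry TopologicalSpace Opposite

namespace Groth.CohBase

section Zero

variable {S : Scheme.{u}} (N : S.Modules) [N.IsQuasicoherent]

/-- A quasi-coherent module without sections on the members of an affine cover is zero. -/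
theorem isZero_of_sections_cover {ι : Type*} (W : ι → S.Opens) (hW : ∀ i, IsAffineOpen (W i))
    (hcov : ⨆ i, W i = ⊤) (h : ∀ i, Subsingleton Γ(N, W i)) : IsZero N := by
  have hs : ∀ x : S, Subsingleton ↑(N.presheaf.stalk x) := fun x => by
    obtain ⟨i, hi⟩ := Opens.mem_iSup.1 (hcov.ge (Opens.mem_top x))
    refine subsingleton_of_forall_eq 0 fun t => ?_
    obtain ⟨a, m, ha, hm⟩ := QCohMod.exists_smul_germ_eq N (hW i) x hi t
    rw [Subsingleton.elim m 0, map_zero] at hm
    exact (((Scheme.mem_basicOpen S a x hi).mp ha).smul_eq_zero).1 hm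
  have hi : IsIso (0 : N ⟶ N) := QCohMod.isIso_of_stalk _ fun x =>
    (ConcreteCategory.isIso_iff_bijective _).mpr
      ⟨fun a b _ => (hs x).elim a b, fun b => ⟨b, (hs x).elim _ _⟩⟩
  rw [IsZero.iff_id_eq_zero, ← IsIso.hom_inv_id (0 : N ⟶ N), zero_comp]

end Zero

variable {X S : Scheme.{u}} (f : X ⟶ S)

/-- The restriction of a twist is the twist of the restriction. -/
theorem nonempty_restrict_twist (U : X.Opens) (M L : X.Modules) (n : ℕ) :
    Nonempty ((CohB1.tensorMod M (CohB1.tensorPow L n)).restrict U.ι ≅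
      CohB1.tensorMod (M.restrict U.ι) (CohB1.tensorPow (L.restrict U.ι) n)) := by
  let R := Scheme.Modules.restrictFunctorIsoPullback U.ι
  obtain ⟨e, -⟩ := PicAux.exists_pullback_tensorMod U.ι M (CohB1.tensorPow L n)
  obtain ⟨p⟩ := PicAux.pullback_tensorPow U.ι L n
  have q : ∀ m : ℕ, Nonempty (CohB1.tensorPow ((Scheme.Modules.pullback U.ι).obj L) m ≅
      CohB1.tensorPow (L.restrict U.ι) m) := fun m => by
    induction m with
    | zero => exact ⟨Iso.refl _⟩
    | succ m ih => exact ⟨PicGrp.tensorModIso ih.some (R.app L).symm⟩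
  exact ⟨R.app _ ≪≫ e ≪≫ PicGrp.tensorModIso (R.app M).symm (p ≪≫ (q n).some)⟩

variable [IsProper f] [IsNoetherian S]

/-- High twists by a relatively ample module have no higher direct images. -/
theorem exists_isZero_Rpush_of_relAmple (L : X.Modules) (hL : PicF.IsInvertible L)
    (ha : ∀ W : S.Opens, IsAffineOpen W → CohB1.IsAmple (L.restrict (f ⁻¹ᵁ W).ι))
    (M : X.Modules) (hM : Coh.IsCoh M) :
    ∃ n₀ : ℕ, ∀ n : ℕ, n₀ ≤ n → ∀ p : ℕ, 0 < p →
      IsZero ((Coh.Rpush f p).obj (CohB1.tensorMod M (CohB1.tensorPow L n))) := by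
  classical
  have := hM.1
  have : IsLocallyNoetherian X := LocallyOfFiniteType.isLocallyNoetherian f
  choose W hW hxW using fun x : S => show ∃ W : S.Opens, IsAffineOpen W ∧ x ∈ W by
    obtain ⟨_, ⟨W, hW, rfl⟩, hx, -⟩ :=
      S.isBasis_affineOpens.exists_subset_of_mem_open (Set.mem_univ x) isOpen_univ
    exact ⟨W, hW, hx⟩
  obtain ⟨s, hs⟩ := isCompact_univ.elim_finite_subcover (fun x : S => (W x : Set S))
    (fun x => (W x).2) fun x _ => Set.mem_iUnion.2 ⟨x, hxW x⟩
  have hd : ∀ i : s, ∃ d : ℕ, ∀ n, d ≤ n → ∀ p : ℕ, 0 < p → Subsingleton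
      (Coh.HH (f ⁻¹ᵁ W i : X.Opens)
        ((CohB1.tensorMod M (CohB1.tensorPow L n)).restrict (f ⁻¹ᵁ W i).ι) p) := fun i => by
    have : IsNoetherianRing Γ(S, W i) := IsLocallyNoetherian.component_noetherian ⟨W i, hW _⟩
    have : IsProper (preimageToSpec f (V := W i)) :=
      MorphismProperty.of_isPullback (isPullback_preimageToSpec f (hW i)) inferInstance
    obtain ⟨d, hd⟩ := PnCoh.exists_subsingleton_of_isAmple (preimageToSpec f (V := W i))
      (ha (W i) (hW i)) (M.restrict (f ⁻¹ᵁ W i).ι) (CohFin.isCoh_restrict hM _)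
    refine ⟨d, fun n hn p hp => ?_⟩
    obtain ⟨e⟩ := nonempty_restrict_twist (f ⁻¹ᵁ W i) M L n
    exact ⟨fun a b => ((Sheaf.functorH _ p).mapIso
      ((toAbF _).mapIso e)).addCommGroupIsoToAddEquiv.injective ((hd n hn p hp).elim _ _)⟩
  choose d hd using hd
  refine ⟨Finset.univ.sup d, fun n hn p hp => ?_⟩
  have : (CohB1.tensorMod M (CohB1.tensorPow L n)).IsQuasicoherent := by
    have : (CohB1.tensorPow L n).IsQuasicoherent :=
      PicAux.isQCoh_of_isInvertible (PicAux.isInvertible_tensorPow hL n)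
    exact QCohMod.isQCoh_tensorMod
  have := isQCoh_Rpush f p (M := CohB1.tensorMod M (CohB1.tensorPow L n))
  refine isZero_of_sections_cover _ (fun i : s => W i) (fun i => hW _) ?_ fun i => ?_
  · refine eq_top_iff.2 fun x _ => ?_
    obtain ⟨y, hy, hxy⟩ := Set.mem_iUnion₂.1 (hs (Set.mem_univ x))
    exact Opens.mem_iSup.2 ⟨⟨y, hy⟩, hxy⟩
  · obtain ⟨e⟩ := exists_Rpush_linEquiv (M := CohB1.tensorMod M (CohB1.tensorPow L n))
      (f := f) (p := p) (hW i)
    have := hd i n ((Finset.le_sup (Finset.mem_univ i)).trans hn) p hp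
    exact e.injective.subsingleton

end Groth.CohBase

namespace Groth.CohBase

variable {X : Scheme.{u}}

/-- A quasi-coherent ideal of an open subscheme of a Noetherian scheme extends to a coherent ideal. -/
theorem exists_ideal_extension [IsLocallyNoetherian X] (U : X.Opens) [QuasiCompact U.ι]
    (I : (U : Scheme.{u}).Modules) (i : I ⟶ Coh.structureModule U) [Mono i]
    (hI : Coh.IsQCoh I) :
    ∃ (J : X.Modules) (ι : J ⟶ Coh.structureModule X), Mono ι ∧ Coh.IsCoh J ∧
      Nonempty (J.restrict U.ι ≅ I) := by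
  have : I.IsQuasicoherent := hI
  have hO : (Coh.structureModule X).IsQuasicoherent := QCohMod.isQCoh_unit X
  have : (Coh.structureModule (U : Scheme.{u})).IsQuasicoherent := QCohMod.isQCoh_unit _
  have : (cokernel i).IsQuasicoherent := inferInstance
  let P := Scheme.Modules.pushforward U.ι
  have : (P.obj (cokernel i)).IsQuasicoherent := QCohMod.isQCoh_pushforward _ _
  let r := Scheme.Modules.restrictFunctor U.ι
  let adj := Scheme.Modules.restrictAdjunction U.ι
  let can : r.obj (Coh.structureModule X) ≅ Coh.structureModule (U : Scheme.{u}) :=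
    (Scheme.Modules.restrictFunctorIsoPullback U.ι).app _ ≪≫
      (PicAux.pullback_structure_iso U.ι).some
  let ψ : Coh.structureModule X ⟶ P.obj (cokernel i) :=
    adj.homEquiv _ _ (can.hom ≫ cokernel.π i)
  refine ⟨kernel ψ, kernel.ι ψ, inferInstance, QCohMod.isCoh_kernel ψ ?_, ?_⟩
  · refine (QCohMod.isCoh_iff _).2 ⟨hO, fun V hV => ?_⟩
    exact inferInstanceAs (Module.Finite Γ(X, V) Γ(X, V))
  have hψ : r.map ψ ≫ adj.counit.app (cokernel i) = can.hom ≫ cokernel.π i :=
    (adj.homEquiv_counit _ _ ψ).symm.trans (Equiv.symm_apply_apply _ _)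
  have : PreservesLimit (parallelPair ψ 0) r :=
    (preservesFiniteLimits_restrictFunctor U.ι).preservesFiniteLimits _ |>.preservesLimit
  exact ⟨PreservesKernel.iso r ψ ≪≫
    kernel.mapIso (r.map ψ) (cokernel.π i) can (asIso (adj.counit.app (cokernel i))) hψ ≪≫
    IsLimit.conePointUniqueUpToIso (kernelIsKernel (cokernel.π i))
      (Abelian.monoIsKernelOfCokernel (CokernelCofork.ofπ (cokernel.π i) (cokernel.condition i))
        (cokernelIsCokernel i))⟩

end Groth.CohBase
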