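import Groth.Agent.CohBase.LocalModelFP
import Groth.Agent.LimitMod.FibreFunctions
import Groth.Agent.LocFree.Basic
import Groth.Agent.LocFree.Affine
import Groth.Agent.CohBase.RelAmpleVanish

/-!
# Cohomology and base change from the fibres, for finitely presented data
-/

universe u

open CategoryTheory Limits AlgebraicGeometry TopologicalSpace Opposite
open scoped TensorProduct

noncomputable section

set_option backward.isDefEq.respectTransparency.types false

namespace Groth.CohBase

open CxRank Groth.FlatCxBase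

/-- A module with bases near every point of an open is finite locally free on it. -/
theorem isFinLocFree_restrict_of_forall {X : Scheme.{u}} {M : X.Modules} {U : X.Opens}
    (h : ∀ x ∈ U, ∃ (W : X.Opens) (n : ℕ) (s : Fin n → Γ(M, W)),
      x ∈ W ∧ Groth.PicAux.Basis' M W s) :
    FlatMod.IsFinLocFree (M.restrict U.ι) := by
  refine KTheory.LocFree.isFinLocFree_of_iso
    ((Scheme.Modules.restrictFunctorIsoPullback U.ι).app M).symm ?_
  rw [KTheory.LocFree.isFinLocFree_iff]
  intro x
  obtain ⟨W, n, s, hx, hs⟩ := h x.1 x.2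
  exact ⟨U.ι ⁻¹ᵁ W, n, _, hx, hs.pull U.ι⟩

variable {X S : Scheme.{u}} (f : X ⟶ S) [IsProper f] [LocallyOfFinitePresentation f]
  [HasInjectiveResolutions X.Modules] {M : X.Modules}

/-- Cohomology of the fibres is finite-dimensional. -/
theorem finite_fiberH [M.IsQuasicoherent] (hM : CohB1.IsFP M) (hfl : FlatMod.IsFlatOver f M) (p : ℕ) (y : S) :
    Module.Finite (S.residueField y) (CohIII.fiberH f M y p) := by
  obtain ⟨V, hV, hy, -⟩ := exists_isAffineOpen_mem_and_subset (x := y) (U := (⊤ : S.Opens)) trivial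
  obtain ⟨L, hL⟩ := exists_isModel_fp f M hM hfl hV
  have := hL.finite
  let : Algebra Γ(S, V) (S.residueField y) := (S.evaluation V y hy).hom.toAlgebra
  obtain ⟨e⟩ := hL.fibres p y hy
  exact Module.Finite.equiv e.symm

/-- The points where a cohomology group of the fibre vanishes form an open set. -/
theorem isOpen_subsingleton_fiberH [M.IsQuasicoherent] (hM : CohB1.IsFP M)
    (hfl : FlatMod.IsFlatOver f M) (p : ℕ) :
    IsOpen {y : S | Subsingleton (CohIII.fiberH f M y p)} := by
  convert Groth.LimitMod.isOpen_betti_lt f M hM hfl p 1 using 1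
  ext y
  have := finite_fiberH f hM hfl p y
  change Subsingleton (CohIII.fiberH f M y p) ↔
    Module.finrank (S.residueField y) (CohIII.fiberH f M y p) < 1
  rw [Nat.lt_one_iff, Module.finrank_zero_iff]

/-- Higher direct images vanish near a point where the fibre cohomology vanishes. -/
theorem exists_isZero_restrict_Rpush [M.IsQuasicoherent] (hM : CohB1.IsFP M)
    (hfl : FlatMod.IsFlatOver f M) (p : ℕ) (y : S) (h : Subsingleton (CohIII.fiberH f M y p)) :
    ∃ U : S.Opens, y ∈ U ∧ IsZero (((Coh.Rpush f p).obj M).restrict U.ι) := by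
  obtain ⟨V, hV, hy, -⟩ := exists_isAffineOpen_mem_and_subset (x := y) (U := (⊤ : S.Opens)) trivial
  obtain ⟨L, hL⟩ := exists_isModel_fp f M hM hfl hV
  exact hL.exists_isZero_restrict_fp hV p y hy h

/-- Higher direct images vanish on an open on which the fibre cohomology vanishes. -/
theorem isZero_restrict_Rpush_of_fibres [M.IsQuasicoherent] (hM : CohB1.IsFP M)
    (hfl : FlatMod.IsFlatOver f M) (p : ℕ) {U : S.Opens}
    (h : ∀ y ∈ U, Subsingleton (CohIII.fiberH f M y p)) :
    IsZero (((Coh.Rpush f p).obj M).restrict U.ι) := by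
  have := isQCoh_Rpush f (M := M) p
  refine (Groth.QCohMod.isZero_restrict_iff_stalk _ _).2 fun y hy => ?_
  obtain ⟨W, hyW, hW⟩ := exists_isZero_restrict_Rpush f hM hfl p y (h y hy)
  exact (Groth.QCohMod.isZero_restrict_iff_stalk _ _).1 hW y hyW

/-- Higher direct images vanish if all fibre cohomology vanishes. -/
theorem isZero_Rpush_of_fibres [M.IsQuasicoherent] (hM : CohB1.IsFP M)
    (hfl : FlatMod.IsFlatOver f M) (p : ℕ) (h : ∀ y : S, Subsingleton (CohIII.fiberH f M y p)) :
    IsZero ((Coh.Rpush f p).obj M) := by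
  have := isQCoh_Rpush f (M := M) p
  refine isZero_of_sections_cover _ (fun V : S.affineOpens => V.1) (fun V => V.2)
    (iSup_affineOpens_eq_top S) fun V => ?_
  obtain ⟨L, hL⟩ := exists_isModel_fp f M hM hfl V.2
  obtain ⟨e⟩ := hL.sections p
  have := hL.subsingleton_Hk V.2 p fun y _ => h y
  exact e.toEquiv.subsingleton

omit [IsProper f] [LocallyOfFinitePresentation f] in
/-- Flatness of a cokernel from vanishing of the next fibre cohomology. -/
theorem IsModel.flat_Qc_of_next {V : S.Opens} (hV : IsAffineOpen V)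
    {L : CochainComplex (ModuleCat.{u} Γ(S, V)) ℤ} (hL : IsModel f M L) (p : ℕ)
    (h : ∀ y ∈ V, Subsingleton (CohIII.fiberH f M y p)) :
    Module.Flat Γ(S, V) (Qc L (p : ℤ)) := by
  have := hL.flat
  have := hL.subsingleton_Hk hV p h
  exact CxRank.flat_Qc_of_next L _ (hL.flat_Qc_succ hV p h) inferInstance

omit [LocallyOfFinitePresentation f] in
/-- A higher direct image is finite locally free on an affine open with flat cokernels. -/
theorem IsModel.isFinLocFree_restrict [M.IsQuasicoherent] {V : S.Opens} (hV : IsAffineOpen V)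
    {L : CochainComplex (ModuleCat.{u} Γ(S, V)) ℤ} (hL : IsModel f M L) (p : ℕ)
    (h : Module.Flat Γ(S, V) (Qc L (p : ℤ))) (h' : Module.Flat Γ(S, V) (Qc L ((p : ℤ) + 1))) :
    FlatMod.IsFinLocFree (((Coh.Rpush f p).obj M).restrict V.ι) := by
  let R := (Coh.Rpush f p).obj M
  have : R.IsQuasicoherent := isQCoh_Rpush f p
  obtain ⟨hfin, hproj⟩ := hL.finite_projective_fp p h h'
  have : Module.FinitePresentation Γ(S, V) Γ(R, V) := Module.finitePresentation_of_projective _ _
  refine isFinLocFree_restrict_of_forall fun y hy => ?_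
  have : Module.Free (S.presheaf.stalk y) (R.presheaf.stalk y) :=
    (LocFree.mem_freeLocus_iff hV hy).1
      (Module.freeLocus_eq_univ (R := Γ(S, V)) (M := Γ(R, V)) ▸ trivial)
  obtain ⟨g, n, m, hg, -, hm⟩ := LocFree.exists_basis_of_free_stalk (M := R) hV hy
  exact ⟨S.basicOpen g, n, _, hg, hm⟩

end Groth.CohBase
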