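import Groth.Agent.CohBase.SecComplex
import Groth.Agent.CohBase.MayerVietoris
import Groth.Agent.QCohMod.QCQS
import Groth.Agent.CohTwo.Glue

/-!
# Cohomology of quasi-coherent modules commutes with localisation at a function
-/

universe u

open CategoryTheory Limits AlgebraicGeometry TopologicalSpace Opposite
open Groth.QCohMod (resFun resFun_resFun resFun_self res_app appₗ)

namespace Groth.CohBase

variable {X : Scheme.{u}}

lemma eq_of_sup (M : X.Modules) {U V : X.Opens} (s t : Γ(M, U ⊔ V))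
    (h₁ : QCohMod.res M le_sup_left s = QCohMod.res M le_sup_left t)
    (h₂ : QCohMod.res M le_sup_right s = QCohMod.res M le_sup_right t) : s = t :=
  CohTwo.eq_of_local M s t fun _ hx => by
    rcases (show _ ∈ U ∨ _ ∈ V from hx) with h | h
    · exact ⟨U, le_sup_left, h, h₁⟩
    · exact ⟨V, le_sup_right, h, h₂⟩

lemma exists_glue_sup (M : X.Modules) {U V : X.Opens} (s : Γ(M, U)) (t : Γ(M, V))
    (h : QCohMod.res M (inf_le_left : U ⊓ V ≤ U) s = QCohMod.res M inf_le_right t) :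
    ∃ w : Γ(M, U ⊔ V), QCohMod.res M le_sup_left w = s ∧ QCohMod.res M le_sup_right w = t := by
  let O : ULift.{u} Bool → X.Opens := fun b => if b.down then U else V
  let sf : ∀ b, Γ(M, O b) := fun b => match b with
    | ⟨true⟩ => s
    | ⟨false⟩ => t
  obtain ⟨w, hw⟩ := CohTwo.exists_glue M (W := U ⊔ V) O
    (by rintro ⟨_ | _⟩ <;> [exact le_sup_right; exact le_sup_left])
    (fun x hx => by
      rcases (show x ∈ U ∨ x ∈ V from hx) with h | h
      · exact ⟨⟨true⟩, h⟩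
      · exact ⟨⟨false⟩, h⟩) sf (by
      have key : ∀ {A B : X.Opens} (a : Γ(M, A)) (b : Γ(M, B)),
          QCohMod.res M (inf_le_left : A ⊓ B ≤ A) a = QCohMod.res M inf_le_right b →
          QCohMod.res M (inf_le_left : B ⊓ A ≤ B) b = QCohMod.res M inf_le_right a := by
        intro A B a b e
        have e' := congrArg (QCohMod.res M (show B ⊓ A ≤ A ⊓ B from le_inf inf_le_right inf_le_left)) e
        rw [QCohMod.res_res, QCohMod.res_res] at e'
        exact e'.symm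
      rintro ⟨_ | _⟩ ⟨_ | _⟩
      · rfl
      · exact key s t h
      · exact h
      · rfl)
  exact ⟨w, hw ⟨true⟩, hw ⟨false⟩⟩

namespace Res

variable (R : Res X.Modules)

/-- Both localisation properties of cohomology in degree `p`, for a function `g` on `U`, on the
open `Ug`. -/
structure LocPair {U Ug : X.Opens} (h : Ug ≤ U) (g : Γ(X, U)) (p : ℕ) : Prop where
  inj : ∀ z ∈ R.Cyc U p, QCohMod.res (R.A p) h z ∈ R.Bd Ug p → ∃ n : ℕ, g ^ n • z ∈ R.Bd U p
  surj : ∀ η ∈ R.Cyc Ug p, ∃ n : ℕ, ∃ y ∈ R.Cyc U p,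
    QCohMod.res (R.A p) h y - resFun X h g ^ n • η ∈ R.Bd Ug p

/-- Cohomology over `U` commutes with localisation at functions on `U`. -/
def LocAt (U : X.Opens) : Prop :=
  ∀ (g : Γ(X, U)) (Ug : X.Opens) (h : Ug ≤ U), Ug = X.basicOpen g → ∀ p, R.LocPair h g p

variable {R}

lemma locAt_of_isAffineOpen [R.Y.IsQuasicoherent] (hR : R.Flasque) {U : X.Opens}
    (hU : IsAffineOpen U) : R.LocAt U := by
  rintro g _ h rfl (_ | p)
  · refine ⟨fun z hz hz' => ?_, fun η hη => ?_⟩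
    · obtain ⟨m, rfl⟩ := mem_cyc_zero_iff.1 hz
      have hm : QCohMod.res R.Y h m = 0 := R.ι_app_injective _ (by
        rw [map_zero, ← res_app]; exact mem_bd_zero.1 hz')
      obtain ⟨n, hn⟩ := QCohMod.exists_pow_smul_eq_zero R.Y hU g m hm
      refine ⟨n, mem_bd_zero.2 ?_⟩
      rw [← Scheme.Modules.Hom.app_smul, hn, map_zero]
    · obtain ⟨s, rfl⟩ := mem_cyc_zero_iff.1 hη
      obtain ⟨n, t, ht⟩ := QCohMod.exists_pow_smul_eq_res R.Y hU g s
      refine ⟨n, R.ι.app U t, mem_cyc_zero_iff.2 ⟨t, rfl⟩, ?_⟩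
      rw [res_app, ht, Scheme.Modules.Hom.app_smul, sub_self]
      exact zero_mem _
  · refine ⟨fun z hz _ => ⟨0, ?_⟩, fun η hη => ⟨0, 0, zero_mem _, ?_⟩⟩
    · rw [pow_zero, one_smul]
      exact bd_of_cyc hR (hVanish_of_isAffineOpen R.Y hU p) hz
    · rw [map_zero, zero_sub, pow_zero, one_smul]
      exact neg_mem (bd_of_cyc hR (hVanish_of_isAffineOpen R.Y (hU.basicOpen g) p) hη)

lemma inter_inj {U V W : X.Opens} (hUW : U ≤ W) (g : Γ(X, W)) {Wg : X.Opens}
    (e : Wg = X.basicOpen g) : U ⊓ Wg = X.basicOpen (resFun X hUW g) := by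
  rw [e]
  exact (X.basicOpen_res g (homOfLE hUW).op).symm

/-- The Mayer–Vietoris step. -/
lemma locAt_sup (hR : R.Flasque) {U V : X.Opens} (hU : R.LocAt U) (hV : R.LocAt V)
    (hUV : R.LocAt (U ⊓ V)) : R.LocAt (U ⊔ V) := by
  intro g Wg hWg e
  have hUW : U ≤ U ⊔ V := le_sup_left
  have hVW : V ≤ U ⊔ V := le_sup_right
  have hIW : U ⊓ V ≤ U ⊔ V := inf_le_left.trans hUW
  have PU := hU (resFun X hUW g) (U ⊓ Wg) inf_le_left (inter_inj (V := V) hUW g e)
  have PV := hV (resFun X hVW g) (V ⊓ Wg) inf_le_left (inter_inj (V := V) hVW g e)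
  have PI := hUV (resFun X hIW g) ((U ⊓ V) ⊓ Wg) inf_le_left (inter_inj (V := V) hIW g e)
  have hUg : U ⊓ Wg ≤ Wg := inf_le_right
  have hVg : V ⊓ Wg ≤ Wg := inf_le_right
  have hIU : (U ⊓ V) ⊓ Wg ≤ U ⊓ Wg := inf_le_inf_right _ inf_le_left
  have hIV : (U ⊓ V) ⊓ Wg ≤ V ⊓ Wg := inf_le_inf_right _ inf_le_right
  have hW : Wg = (U ⊓ Wg) ⊔ (V ⊓ Wg) := by
    rw [← inf_sup_right, inf_eq_right.2 hWg]
  have hgW : ∀ (q : ℕ) (s t : Γ(R.A q, Wg)),
      QCohMod.res (R.A q) hUg s = QCohMod.res (R.A q) hUg t →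
      QCohMod.res (R.A q) hVg s = QCohMod.res (R.A q) hVg t → s = t := by
    intro q s t h₁ h₂
    refine CohTwo.eq_of_local (R.A q) s t fun x hx => ?_
    rcases (show x ∈ U ∨ x ∈ V from hWg hx) with h | h
    · exact ⟨U ⊓ Wg, hUg, ⟨h, hx⟩, h₁⟩
    · exact ⟨V ⊓ Wg, hVg, ⟨h, hx⟩, h₂⟩
  intro p
  refine ⟨fun z hz hzg => ?_, fun η hη => ?_⟩
  · -- injectivity
    obtain ⟨n₁, h₁⟩ := (PU p).inj _ (res_mem_cyc hUW hz)
      (by rw [QCohMod.res_res, ← QCohMod.res_res _ hWg hUg]; exact res_mem_bd _ hzg)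
    obtain ⟨n₂, h₂⟩ := (PV p).inj _ (res_mem_cyc hVW hz)
      (by rw [QCohMod.res_res, ← QCohMod.res_res _ hWg hVg]; exact res_mem_bd _ hzg)
    cases p with
    | zero =>
      refine ⟨n₁ + n₂, mem_bd_zero.2 (eq_of_sup (R.A 0) _ _ ?_ ?_)⟩
      · rw [QCohMod.res_smul, map_pow, map_zero, pow_add, mul_comm, mul_smul, mem_bd_zero.1 h₁,
          smul_zero]
      · rw [QCohMod.res_smul, map_pow, map_zero, pow_add, mul_smul, mem_bd_zero.1 h₂, smul_zero]
    | succ p =>
      obtain ⟨e₀, he₀⟩ := mem_bd_succ.1 hzg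
      obtain ⟨a₁, ha₁⟩ := mem_bd_succ.1 h₁
      obtain ⟨b₁, hb₁⟩ := mem_bd_succ.1 h₂
      -- common exponent
      set gU := resFun X hUW g with hgU
      set gV := resFun X hVW g with hgV
      obtain ⟨a, ha⟩ : ∃ a, (R.d p).app U a =
          gU ^ (n₁ + n₂) • QCohMod.res (R.A (p + 1)) hUW z := ⟨gU ^ n₂ • a₁, by
        rw [Scheme.Modules.Hom.app_smul, ha₁, smul_smul, ← pow_add, Nat.add_comm n₂ n₁]⟩
      obtain ⟨b, hb⟩ : ∃ b, (R.d p).app V b =
          gV ^ (n₁ + n₂) • QCohMod.res (R.A (p + 1)) hVW z := ⟨gV ^ n₁ • b₁, by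
        rw [Scheme.Modules.Hom.app_smul, hb₁, smul_smul, ← pow_add]⟩
      set n := n₁ + n₂
      have heU : (R.d p).app (U ⊓ Wg) (QCohMod.res (R.A p) hUg e₀) =
          QCohMod.res (R.A (p + 1)) (hUg.trans hWg) z := by
        rw [← res_app, he₀, QCohMod.res_res]
      have heV : (R.d p).app (V ⊓ Wg) (QCohMod.res (R.A p) hVg e₀) =
          QCohMod.res (R.A (p + 1)) (hVg.trans hWg) z := by
        rw [← res_app, he₀, QCohMod.res_res]
      obtain ⟨m₁, α₁, hα₁, hα₁'⟩ := (PU p).surj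
        (QCohMod.res (R.A p) inf_le_left a -
          resFun X (hUg.trans hWg) g ^ n • QCohMod.res (R.A p) hUg e₀) (by
          rw [mem_cyc, map_sub, Scheme.Modules.Hom.app_smul, ← res_app, ha, heU, QCohMod.res_smul,
            map_pow, hgU, resFun_resFun, QCohMod.res_res, sub_self])
      obtain ⟨m₂, β₁, hβ₁, hβ₁'⟩ := (PV p).surj
        (QCohMod.res (R.A p) inf_le_left b -
          resFun X (hVg.trans hWg) g ^ n • QCohMod.res (R.A p) hVg e₀) (by
          rw [mem_cyc, map_sub, Scheme.Modules.Hom.app_smul, ← res_app, hb, heV, QCohMod.res_smul,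
            map_pow, hgV, resFun_resFun, QCohMod.res_res, sub_self])
      let a' := gU ^ (m₁ + m₂) • a - gU ^ m₂ • α₁
      let b' := gV ^ (m₁ + m₂) • b - gV ^ m₁ • β₁
      have ha' : (R.d p).app U a' = gU ^ (m₁ + m₂ + n) • QCohMod.res (R.A (p + 1)) hUW z := by
        rw [map_sub, Scheme.Modules.Hom.app_smul, Scheme.Modules.Hom.app_smul, ha, mem_cyc.1 hα₁,
          smul_zero, sub_zero, smul_smul, ← pow_add]
      have hb' : (R.d p).app V b' = gV ^ (m₁ + m₂ + n) • QCohMod.res (R.A (p + 1)) hVW z := by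
        rw [map_sub, Scheme.Modules.Hom.app_smul, Scheme.Modules.Hom.app_smul, hb, mem_cyc.1 hβ₁,
          smul_zero, sub_zero, smul_smul, ← pow_add]
      set G := resFun X ((inf_le_right : (U ⊓ V) ⊓ Wg ≤ Wg).trans hWg) g with hG
      have haI : QCohMod.res (R.A p) (inf_le_left.trans inf_le_left : (U ⊓ V) ⊓ Wg ≤ U) a' -
          G ^ (m₁ + m₂ + n) • QCohMod.res (R.A p) inf_le_right e₀ ∈ R.Bd ((U ⊓ V) ⊓ Wg) p := by
        have h' := neg_mem (Submodule.smul_mem _ (G ^ m₂) (res_mem_bd hIU hα₁'))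
        convert! h' using 1
        simp only [a', map_sub, QCohMod.res_smul, map_pow, QCohMod.res_res, hgU, resFun_resFun, ← hG]
        simp only [smul_sub, smul_smul, ← pow_add, neg_sub]
        rw [add_comm m₂ m₁, show m₂ + (m₁ + n) = m₁ + m₂ + n by omega]
        abel
      have hbI : QCohMod.res (R.A p) (inf_le_left.trans inf_le_right : (U ⊓ V) ⊓ Wg ≤ V) b' -
          G ^ (m₁ + m₂ + n) • QCohMod.res (R.A p) inf_le_right e₀ ∈ R.Bd ((U ⊓ V) ⊓ Wg) p := by
        have h' := neg_mem (Submodule.smul_mem _ (G ^ m₁) (res_mem_bd hIV hβ₁'))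
        convert! h' using 1
        simp only [b', map_sub, QCohMod.res_smul, map_pow, QCohMod.res_res, hgV, resFun_resFun, ← hG]
        simp only [smul_sub, smul_smul, ← pow_add, neg_sub]
        rw [show m₁ + (m₂ + n) = m₁ + m₂ + n by omega]
        abel
      set M := m₁ + m₂ + n
      let c := QCohMod.res (R.A p) (inf_le_left : U ⊓ V ≤ U) a' -
        QCohMod.res (R.A p) (inf_le_right : U ⊓ V ≤ V) b'
      have hc : c ∈ R.Cyc (U ⊓ V) p := by
        rw [mem_cyc, map_sub, ← res_app, ← res_app, ha', hb', QCohMod.res_smul, QCohMod.res_smul,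
          map_pow, map_pow, hgU, hgV, resFun_resFun, resFun_resFun, QCohMod.res_res,
          QCohMod.res_res, sub_self]
      obtain ⟨k, hk⟩ := (PI p).inj c hc (by
        have h' := sub_mem haI hbI
        rw [sub_sub_sub_cancel_right] at h'
        rw [map_sub, QCohMod.res_res, QCohMod.res_res]
        exact h')
      obtain ⟨δ, hδ, hδ'⟩ := exists_extend_bd hR (inf_le_left : U ⊓ V ≤ U) hk
      obtain ⟨w, hwU, hwV⟩ := exists_glue_sup (R.A p) (gU ^ k • a' - δ) (gV ^ k • b') (by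
        rw [map_sub, hδ', QCohMod.res_smul, QCohMod.res_smul, map_pow, map_pow, hgU, hgV,
          resFun_resFun, resFun_resFun, smul_sub, sub_sub_cancel])
      refine ⟨k + M, mem_bd_succ.2 ⟨w, eq_of_sup (R.A (p + 1)) _ _ ?_ ?_⟩⟩
      · rw [res_app, hwU, map_sub, Scheme.Modules.Hom.app_smul, ha', mem_cyc.1 (bd_le_cyc _ _ hδ),
          sub_zero, smul_smul, ← pow_add, QCohMod.res_smul, map_pow]
      · rw [res_app, hwV, Scheme.Modules.Hom.app_smul, hb', smul_smul, ← pow_add,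
          QCohMod.res_smul, map_pow]
  · -- surjectivity
    obtain ⟨n₁, α₁, hα₁, hα₁'⟩ := (PU p).surj _ (res_mem_cyc hUg hη)
    obtain ⟨n₂, β₁, hβ₁, hβ₁'⟩ := (PV p).surj _ (res_mem_cyc hVg hη)
    set gU := resFun X hUW g with hgU
    set gV := resFun X hVW g with hgV
    set gI := resFun X hIW g with hgI
    set gw := resFun X hWg g with hgw
    obtain ⟨α, hαc, hα⟩ : ∃ α ∈ R.Cyc U p, QCohMod.res (R.A p) inf_le_left α -
        QCohMod.res (R.A p) hUg (gw ^ (n₁ + n₂) • η) ∈ R.Bd (U ⊓ Wg) p := by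
      refine ⟨gU ^ n₂ • α₁, Submodule.smul_mem _ _ hα₁, ?_⟩
      convert! Submodule.smul_mem _ (resFun X (hUg.trans hWg) g ^ n₂) hα₁' using 1
      simp only [QCohMod.res_smul, map_pow, hgw, hgU, resFun_resFun, smul_sub, smul_smul,
        ← pow_add, Nat.add_comm n₂ n₁]
    obtain ⟨β, hβc, hβ⟩ : ∃ β ∈ R.Cyc V p, QCohMod.res (R.A p) inf_le_left β -
        QCohMod.res (R.A p) hVg (gw ^ (n₁ + n₂) • η) ∈ R.Bd (V ⊓ Wg) p := by
      refine ⟨gV ^ n₁ • β₁, Submodule.smul_mem _ _ hβ₁, ?_⟩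
      convert! Submodule.smul_mem _ (resFun X (hVg.trans hWg) g ^ n₁) hβ₁' using 1
      simp only [QCohMod.res_smul, map_pow, hgw, hgV, resFun_resFun, smul_sub, smul_smul,
        ← pow_add]
    set n := n₁ + n₂
    let c := QCohMod.res (R.A p) (inf_le_left : U ⊓ V ≤ U) α -
      QCohMod.res (R.A p) (inf_le_right : U ⊓ V ≤ V) β
    obtain ⟨k, hk⟩ := (PI p).inj c (sub_mem (res_mem_cyc _ hαc) (res_mem_cyc _ hβc)) (by
      have h' := sub_mem (res_mem_bd hIU hα) (res_mem_bd hIV hβ)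
      rw [map_sub, map_sub, QCohMod.res_res, QCohMod.res_res, QCohMod.res_res, QCohMod.res_res,
        sub_sub_sub_cancel_right] at h'
      rw [map_sub, QCohMod.res_res, QCohMod.res_res]
      exact h')
    obtain ⟨δ, hδ, hδ'⟩ := exists_extend_bd hR (inf_le_left : U ⊓ V ≤ U) hk
    obtain ⟨y, hyU, hyV⟩ := exists_glue_sup (R.A p) (gU ^ k • α - δ) (gV ^ k • β) (by
      rw [map_sub, hδ', QCohMod.res_smul, QCohMod.res_smul, map_pow, map_pow, hgU, hgV,
        resFun_resFun, resFun_resFun, smul_sub, sub_sub_cancel])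
    have hy : y ∈ R.Cyc (U ⊔ V) p := by
      refine mem_cyc.2 (eq_of_sup (R.A (p + 1)) _ _ ?_ ?_)
      · rw [res_app, hyU, map_sub, Scheme.Modules.Hom.app_smul, mem_cyc.1 hαc,
          mem_cyc.1 (bd_le_cyc _ _ hδ), smul_zero, sub_zero, map_zero]
      · rw [res_app, hyV, Scheme.Modules.Hom.app_smul, mem_cyc.1 hβc, smul_zero, map_zero]
    let ε := QCohMod.res (R.A p) hWg y - gw ^ (k + n) • η
    have hεU : QCohMod.res (R.A p) hUg ε ∈ R.Bd (U ⊓ Wg) p := by
      have h' := sub_mem (Submodule.smul_mem _ (resFun X (hUg.trans hWg) g ^ k) hα)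
        (res_mem_bd (inf_le_left : U ⊓ Wg ≤ U) hδ)
      convert! h' using 1
      have hyU' := congrArg (QCohMod.res (R.A p) (inf_le_left : U ⊓ Wg ≤ U)) hyU
      rw [QCohMod.res_res] at hyU'
      simp only [ε, map_sub, QCohMod.res_res, hyU', QCohMod.res_smul, map_pow, hgw, hgU,
        resFun_resFun, smul_sub, smul_smul, ← pow_add]
      abel
    have hεV : QCohMod.res (R.A p) hVg ε ∈ R.Bd (V ⊓ Wg) p := by
      have h' := Submodule.smul_mem _ (resFun X (hVg.trans hWg) g ^ k) hβ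
      convert! h' using 1
      have hyV' := congrArg (QCohMod.res (R.A p) (inf_le_left : V ⊓ Wg ≤ V)) hyV
      rw [QCohMod.res_res] at hyV'
      simp only [ε, map_sub, QCohMod.res_res, hyV', QCohMod.res_smul, map_pow, hgw, hgV,
        resFun_resFun, smul_sub, smul_smul, ← pow_add]
    cases p with
    | zero =>
      refine ⟨k + n, y, hy, mem_bd_zero.2 (hgW 0 _ _ ?_ ?_)⟩
      · rw [mem_bd_zero.1 hεU, map_zero]
      · rw [mem_bd_zero.1 hεV, map_zero]
    | succ p =>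
      obtain ⟨a, ha⟩ := mem_bd_succ.1 hεU
      obtain ⟨b, hb⟩ := mem_bd_succ.1 hεV
      let c' := QCohMod.res (R.A p) hIU a - QCohMod.res (R.A p) hIV b
      obtain ⟨m, γ, hγ, hγ'⟩ := (PI p).surj c' (by
        rw [mem_cyc, map_sub, ← res_app, ← res_app, ha, hb, QCohMod.res_res, QCohMod.res_res,
          sub_self])
      obtain ⟨γe, hγe⟩ := hR p U (U ⊓ V) inf_le_left γ
      obtain ⟨δ', hδ₁, hδ₂⟩ := exists_extend_bd hR hIU hγ'
      obtain ⟨y₁, hy₁U, hy₁V⟩ := exists_glue_sup (R.A (p + 1)) ((R.d p).app U γe)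
        (0 : Γ(R.A (p + 1), V)) (by rw [res_app, hγe, mem_cyc.1 hγ, map_zero])
      have hy₁ : y₁ ∈ R.Cyc (U ⊔ V) (p + 1) := by
        refine mem_cyc.2 (eq_of_sup (R.A (p + 1 + 1)) _ _ ?_ ?_)
        · rw [res_app, hy₁U, map_zero]; exact d_d_app p U γe
        · rw [res_app, hy₁V, map_zero, map_zero]
      obtain ⟨w, hwU, hwV⟩ := exists_glue_sup (R.A p)
        (resFun X (hUg.trans hWg) g ^ m • a - QCohMod.res (R.A p) inf_le_left γe + δ')
        (resFun X (hVg.trans hWg) g ^ m • b) (by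
          have hI : (U ⊓ Wg) ⊓ (V ⊓ Wg) ≤ (U ⊓ V) ⊓ Wg :=
            le_inf (le_inf (inf_le_left.trans inf_le_left) (inf_le_right.trans inf_le_left))
              (inf_le_left.trans inf_le_right)
          have h' := congrArg (QCohMod.res (R.A p) hI) hδ₂
          rw [QCohMod.res_res] at h'
          have hγ₂ := congrArg (QCohMod.res (R.A p) (hI.trans inf_le_left)) hγe
          rw [QCohMod.res_res] at hγ₂
          simp only [map_add, map_sub, QCohMod.res_res, QCohMod.res_smul, map_pow, hgI,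
            resFun_resFun, c', h', hγ₂, smul_sub]
          abel)
      refine ⟨k + n + m, g ^ m • y - y₁, sub_mem (Submodule.smul_mem _ _ hy) hy₁,
        mem_bd_succ.2 ⟨QCohMod.res (R.A p) hW.le w, hgW (p + 1) _ _ ?_ ?_⟩⟩
      · rw [res_app, QCohMod.res_res, hwU]
        have hy₁U' := congrArg (QCohMod.res (R.A (p + 1)) (inf_le_left : U ⊓ Wg ≤ U)) hy₁U
        rw [QCohMod.res_res, res_app] at hy₁U'
        simp only [map_add, map_sub, Scheme.Modules.Hom.app_smul, ha, ε,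
          mem_cyc.1 (bd_le_cyc _ _ hδ₁), ← hy₁U', QCohMod.res_smul, map_pow, hgw,
          resFun_resFun, QCohMod.res_res, smul_sub, smul_smul, ← pow_add]
        rw [show m + (k + n) = k + n + m by omega]
        abel
      · rw [res_app, QCohMod.res_res, hwV]
        have hy₁V' := congrArg (QCohMod.res (R.A (p + 1)) (inf_le_left : V ⊓ Wg ≤ V)) hy₁V
        rw [QCohMod.res_res, map_zero] at hy₁V'
        simp only [map_sub, Scheme.Modules.Hom.app_smul, hb, ε, hy₁V', QCohMod.res_smul, map_pow,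
          hgw, resFun_resFun, QCohMod.res_res, smul_sub, smul_smul, ← pow_add, sub_zero]
        rw [show m + (k + n) = k + n + m by omega]

/-- Localisation of cohomology on every quasi-compact and quasi-separated open. -/
theorem locAt_of_isCompact [R.Y.IsQuasicoherent] (hR : R.Flasque) (U : X.Opens)
    (hU : IsCompact (U : Set X)) (hU' : IsQuasiSeparated (U : Set X)) : R.LocAt U := by
  have : QuasiSeparatedSpace U.toScheme :=
    isQuasiSeparated_iff_quasiSeparatedSpace (U : Set X) U.2 |>.mp hU'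
  have hU₀ : IsCompact ((⊤ : U.toScheme.Opens) : Set U.toScheme) := by
    have : CompactSpace U.toScheme := isCompact_iff_compactSpace.mp hU
    exact isCompact_univ
  have h := qcqs_induction (fun V : U.toScheme.Opens => R.LocAt (U.ι ''ᵁ V))
    (fun V hV => locAt_of_isAffineOpen hR (hV.image_of_isOpenImmersion U.ι))
    (fun V₁ V₂ _ _ h₁ h₂ h₁₂ => by
      have e₁ : U.ι ''ᵁ (V₁ ⊔ V₂) = U.ι ''ᵁ V₁ ⊔ U.ι ''ᵁ V₂ := Opens.ext (Set.image_union _ _ _)
      have e₂ : U.ι ''ᵁ (V₁ ⊓ V₂) = U.ι ''ᵁ V₁ ⊓ U.ι ''ᵁ V₂ :=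
        Opens.ext (Set.image_inter U.ι.isOpenEmbedding.injective)
      rw [e₁]
      rw [e₂] at h₁₂
      exact locAt_sup hR h₁ h₂ h₁₂) ⊤ hU₀
  rwa [Scheme.Opens.ι_image_top] at h

end Res

end Groth.CohBase
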