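import Groth.Agent.CohBase.FlatBC.Glue
import Groth.Agent.CohDev.LerayAffine
import Groth.Agent.Misc13.FlatBC
import Groth.Agent.PicAux.Pullback
import Groth.Agent.S14448
import Groth.Prelude.Def_CohBC2

/-!
# The base change map of higher direct images along a flat morphism is an isomorphism
-/

universe u

open CategoryTheory Limits AlgebraicGeometry TopologicalSpace Opposite
open scoped TensorProduct
open Groth.QCohMod (res_app)

namespace Groth.CohBase.FlatBCMap

open FlatBC Groth.PicAux

variable {X S X' S' : Scheme.{u}} {f : X ⟶ S} {g : S' ⟶ S} {g' : X' ⟶ X} {f' : X' ⟶ S'}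

/-- An injective resolution of an isomorphic object. -/
noncomputable def resOfIso {C : Type*} [Category C] [Abelian C] {A B : C}
    (e : A ⟶ B) [IsIso e] (K : InjectiveResolution B) : InjectiveResolution A where
  cocomplex := K.cocomplex
  injective := K.injective
  ι := (CochainComplex.single₀ C).map e ≫ K.ι
  quasiIso := inferInstance

variable (g') (f') in
/-- The coefficient module `f'^* O`. -/
noncomputable abbrev coef : X'.Modules :=
  (Scheme.Modules.pullback f').obj (Coh.structureModule S')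

section Alpha

variable (h : X' ⟶ X) {Q : X'.Modules} (u : Q ⟶ Coh.structureModule X') (N : X.Modules)

/-- `Q ⊗ h^* N ⟶ h^* N`. -/
noncomputable def αApp : (tPull h Q).obj N ⟶ (Scheme.Modules.pullback h).obj N :=
  KoszTw.tensorMap u (𝟙 _) ≫ (exists_leftUnitor ((Scheme.Modules.pullback h).obj N)).choose.hom

lemma αApp_tmul (W : X'.Opens) (a : Γ(Q, W)) (b : Γ((Scheme.Modules.pullback h).obj N, W)) :
    (αApp h u N).app W (tmulSec a b) = toFun (u.app W a) • b := by
  refine (congrArg ((exists_leftUnitor ((Scheme.Modules.pullback h).obj N)).choose.hom.app W)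
    (tensorMap_app_tmulSec u (𝟙 _) W a b)).trans ?_
  exact (exists_leftUnitor ((Scheme.Modules.pullback h).obj N)).choose_spec W _ b

lemma αApp_tSec {U : X.Opens} {W : X'.Opens} (e : W ≤ h ⁻¹ᵁ U) (a : Γ(Q, W)) (m : Γ(N, U)) :
    (αApp h u N).app W (tSec h Q N e a m) = toFun (u.app W a) • psec h N e m :=
  αApp_tmul h u N W a _

lemma αApp_naturality {N' : X.Modules} (φ : N ⟶ N') :
    (tPull h Q).map φ ≫ αApp h u N' = αApp h u N ≫ (Scheme.Modules.pullback h).map φ := by
  refine tensor_hom_ext fun W a b => ?_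
  change (αApp h u N').app W (((tPull h Q).map φ).app W (tmulSec a b)) =
    ((Scheme.Modules.pullback h).map φ).app W ((αApp h u N).app W (tmulSec a b))
  rw [αApp_tmul, Scheme.Modules.Hom.app_smul]
  refine (congrArg ((αApp h u N').app W)
    (DerivedCoh.KFlat.tensorMap_tmulSec Q ((Scheme.Modules.pullback h).map φ) W a b)).trans ?_
  exact αApp_tmul h u N' W a _

instance isIso_αApp [IsIso u] : IsIso (αApp h u N) := by
  have : IsIso (KoszTw.tensorMap u (𝟙 ((Scheme.Modules.pullback h).obj N))) := by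
    rw [← KoszTw.tensorBi_map_app]
    exact ((DCoh.tensorBi.mapIso (asIso u)).app ((Scheme.Modules.pullback h).obj N)).isIso_hom
  exact IsIso.comp_isIso' this inferInstance

end Alpha

lemma pullUnit_psec {Y Z : Scheme.{u}} (h : Z ⟶ Y) {U : Y.Opens} {W : Z.Opens} (e : W ≤ h ⁻¹ᵁ U)
    (r : Γ(Coh.structureModule Y, U)) :
    toFun ((pullUnit h).app W (psec h (Coh.structureModule Y) e r)) =
      h.appLE U W e (toFun r) := by
  rw [psec_apply, ← res_app]
  have e1 : (pullUnit h).app (h ⁻¹ᵁ U) (pullSec h (Coh.structureModule Y) r) =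
      (pushUnit h).app U r := congr(($(unit_pullUnit h)).app U r)
  rw [e1]
  rfl

variable (sq : IsPullback g' f' f g) {M : X.Modules} (I : InjectiveResolution M)
  (K : InjectiveResolution ((Scheme.Modules.pullback g').obj M))
  (χ : I.cocomplex ⟶ ((Scheme.Modules.pushforward g').mapHomologicalComplex (ComplexShape.up ℕ)).obj
    K.cocomplex)

/-- The resolution of `f'^*O ⊗ g'^*M`. -/
noncomputable abbrev resT [IsIso (pullUnit f')] :
    InjectiveResolution ((tPull g' (coef f')).obj M) :=
  resOfIso (αApp g' (pullUnit f') M) K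

/-- The adjoint of `χ`, composed with the unit law. -/
noncomputable def phiT [IsIso (pullUnit f')] : tCx g' (coef f') I ⟶ (resT (f' := f') K).cocomplex where
  f n := αApp g' (pullUnit f') (I.cocomplex.X n) ≫
    ((Scheme.Modules.pullbackPushforwardAdjunction g').homEquiv _ _).symm (χ.f n)
  comm' i j _ := by
    change (_ ≫ _) ≫ K.cocomplex.d i j = (tPull g' (coef f')).map (I.cocomplex.d i j) ≫ _ ≫ _
    rw [Category.assoc, ← Category.assoc ((tPull g' (coef f')).map _), αApp_naturality,
      Category.assoc]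
    congr 1
    exact ((((Scheme.Modules.pullbackPushforwardAdjunction g').homEquiv_naturality_right_symm
      (χ.f i) (K.cocomplex.d i j)).symm).trans (congrArg _ (χ.comm i j))).trans
        ((Scheme.Modules.pullbackPushforwardAdjunction g').homEquiv_naturality_left_symm
          (I.cocomplex.d i j) (χ.f j))

/-- `χ` lifts the unit. -/
def IsLift : Prop :=
  resι I ≫ χ.f 0 = (Scheme.Modules.pullbackPushforwardAdjunction g').unit.app M ≫
    (Scheme.Modules.pushforward g').map (resι K)

lemma phiT_lift [IsIso (pullUnit f')] (hχ : IsLift I K χ) :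
    (tPull g' (coef f')).map (resι I) ≫ (phiT (f' := f') I K χ).f 0 = resι (resT (f' := f') K) := by
  change (tPull g' (coef f')).map (resι I) ≫ αApp g' (pullUnit f') _ ≫ _ =
    ((CochainComplex.single₀ _).map (αApp g' (pullUnit f') M) ≫ K.ι).f 0
  rw [HomologicalComplex.comp_f, CochainComplex.single₀_map_f_zero]
  refine ((reassoc_of% (αApp_naturality g' (pullUnit f') M (resι I))) _).trans ?_
  refine congrArg (αApp g' (pullUnit f') M ≫ ·) ?_
  refine ((Scheme.Modules.pullbackPushforwardAdjunction g').homEquiv_naturality_left_symm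
    (resι I) (χ.f 0)).symm.trans ?_
  refine (congrArg _ (hχ.trans ((Scheme.Modules.pullbackPushforwardAdjunction g').homEquiv_unit
    M _ (resι K)).symm)).trans ?_
  exact Equiv.symm_apply_apply _ _

variable (p : ℕ)

/-- The base change map in adjoint form, on the chosen resolutions. -/
noncomputable def bcAdjRes :
    (pushCx f I).homology p ⟶ (Scheme.Modules.pushforward g).obj ((pushCx f' K).homology p) :=
  (HomologicalComplex.homologyFunctor S.Modules _ p).map
      (((Scheme.Modules.pushforward f).mapHomologicalComplex _).map χ ≫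
        (NatTrans.mapHomologicalComplex (Scheme.Modules.pushforwardComp g' f ≪≫
          Scheme.Modules.pushforwardCongr sq.w ≪≫
            (Scheme.Modules.pushforwardComp f' g).symm).hom _).app K.cocomplex) ≫
    RDer.homologyComparison (Scheme.Modules.pushforward g) (pushCx f' K) p

/-- Sections over the preimage. -/
lemma preimage_eq (sq : IsPullback g' f' f g) (V : S.Opens) :
    g' ⁻¹ᵁ f ⁻¹ᵁ V = f' ⁻¹ᵁ g ⁻¹ᵁ V := by
  rw [← Scheme.Hom.comp_preimage, sq.w, Scheme.Hom.comp_preimage]

lemma bcAdjRes_cyc_mem (V : S.Opens) (z : cycA f I p V) :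
    QCohMod.res (K.cocomplex.X p) (preimage_eq sq V).ge
      ((χ.f p).app (f ⁻¹ᵁ V) (toCyc f I p V z).1) ∈
      (Res.ofInjective K).Cyc (f' ⁻¹ᵁ g ⁻¹ᵁ V) p := by
  refine Res.res_mem_cyc (R := Res.ofInjective K) (preimage_eq sq V).ge ?_
  have h2 : (χ.f (p + 1)).app (f ⁻¹ᵁ V)
      ((I.cocomplex.d p (p + 1)).app (f ⁻¹ᵁ V) (toCyc f I p V z).1) = 0 := by
    rw [show (I.cocomplex.d p (p + 1)).app (f ⁻¹ᵁ V) (toCyc f I p V z).1 = 0 from
      (toCyc f I p V z).2, map_zero]
  exact (congr(($(χ.comm p (p + 1))).app (f ⁻¹ᵁ V) (toCyc f I p V z).1)).trans h2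

lemma bcAdjRes_θ (V : S.Opens) (z : cycA f I p V) :
    (bcAdjRes sq I K χ p).app V (θA f I p V z) =
      (θH f' K p (g ⁻¹ᵁ V) ⟨_, bcAdjRes_cyc_mem sq I K χ p V z⟩ :
        Γ((pushCx f' K).homology p, g ⁻¹ᵁ V)) := by
  set c := ((Scheme.Modules.pushforward f).mapHomologicalComplex _).map χ ≫
        (NatTrans.mapHomologicalComplex (Scheme.Modules.pushforwardComp g' f ≪≫
          Scheme.Modules.pushforwardCongr sq.w ≪≫
            (Scheme.Modules.pushforwardComp f' g).symm).hom _).app K.cocomplex
  obtain ⟨w, hw⟩ := (cycSecEquiv (pushCx f I) p V).surjective (pushCyc f I p V (toCyc f I p V z))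
  have e0 : θA f I p V z = θ (pushCx f I) p V (cycSecEquiv (pushCx f I) p V w) := by
    rw [hw]; rfl
  rw [e0, θ_iCycles]
  let L := CohDev.LerayAffine.compCx f' g K
  let w' : Γ(L.cycles p, V) := (HomologicalComplex.cyclesMap c p).app V w
  have e1 : (bcAdjRes sq I K χ p).app V ((pushCx f I).homologyπ p |>.app V w) =
      (RDer.homologyComparison (Scheme.Modules.pushforward g) (pushCx f' K) p).app V
        ((L.homologyπ p).app V w') := by
    refine congrArg ((RDer.homologyComparison (Scheme.Modules.pushforward g) (pushCx f' K) p).app V) ?_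
    exact congr(($(HomologicalComplex.homologyπ_naturality c p)).app V w)
  rw [e1, ← θ_iCycles]
  refine (CohDev.LerayAffine.app_homologyComparison_θ f' g K p V _).trans ?_
  refine congrArg (θ (pushCx f' K) p (g ⁻¹ᵁ V)) (Subtype.ext ?_)
  change (L.iCycles p).app V w' = _
  refine (congr(($(HomologicalComplex.cyclesMap_i c p)).app V w)).trans ?_
  rw [Scheme.Modules.Hom.comp_app, ConcreteCategory.comp_apply]
  have hw' : ((pushCx f I).iCycles p).app V w = (toCyc f I p V z).1 := congrArg Subtype.val hw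
  rw [hw']
  rfl

/-- The transpose. -/
noncomputable def bcRes :
    (Scheme.Modules.pullback g).obj ((pushCx f I).homology p) ⟶ (pushCx f' K).homology p :=
  ((Scheme.Modules.pullbackPushforwardAdjunction g).homEquiv _ _).symm (bcAdjRes sq I K χ p)

lemma bcRes_psec {V : S.Opens} {V' : S'.Opens} (e : V' ≤ g ⁻¹ᵁ V)
    (s : Γ((pushCx f I).homology p, V)) :
    (bcRes sq I K χ p).app V' (psec g _ e s) =
      QCohMod.res _ e ((bcAdjRes sq I K χ p).app V s : Γ((pushCx f' K).homology p, g ⁻¹ᵁ V)) := by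
  rw [psec_apply, ← res_app]
  exact congrArg (QCohMod.res _ e) (Groth.Agent.S14448.symm_pullSec g _ s)

variable (hχ : IsLift I K χ) [IsIso (pullUnit f')] [IsIso (pullUnit g)]

lemma comp_σ {V : S.Opens} {V' : S'.Opens} (e : V' ≤ g ⁻¹ᵁ V)
    (y : secMod g (Coh.structureModule S') e ⊗[Γ(S, V)] cycA f I p V) :
    (αApp g (𝟙 (Coh.structureModule S')) _ ≫ bcRes sq I K χ p).app V'
        (σ (Coh.structureModule S') I p e y) =
      ν sq (Coh.structureModule S') I (resT (f' := f') K) (phiT (f' := f') I K χ) p e y := by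
  induction y using TensorProduct.induction_on with
  | zero => simp only [map_zero]; rfl
  | add a b ha hb => simp only [map_add, ha, hb]; rfl
  | tmul a c =>
    rw [σ_tmul, Scheme.Modules.Hom.comp_app, ConcreteCategory.comp_apply, αApp_tSec,
      Scheme.Modules.Hom.app_smul, bcRes_psec]
    have e2 := bcAdjRes_θ sq I K χ p V c
    rw [θA_apply] at e2
    rw [e2, θH_res f' K p e]
    refine (θH_smul f' K p V' _ _).symm.trans ?_
    refine congrArg (θH f' K p V') (Subtype.ext ?_)
    change (f'.app V').hom (toFun (show Γ(Coh.structureModule S', V') from a)) •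
        QCohMod.res (K.cocomplex.X p) (f'.preimage_mono e)
          (QCohMod.res (K.cocomplex.X p) (preimage_eq sq V).ge
            ((χ.f p).app (f ⁻¹ᵁ V) (toCyc f I p V c).1)) =
      ((phiT (f' := f') I K χ).f p).app (f' ⁻¹ᵁ V')
        (τ sq.w (Coh.structureModule S') (I.cocomplex.X p) e (le_refl _) (preimage_le sq e) le_rfl
          ((cycA f I p V).subtype.lTensor (secMod g (Coh.structureModule S') e) (a ⊗ₜ c)))
    rw [LinearMap.lTensor_tmul, τ_tmul]
    change _ = (((Scheme.Modules.pullbackPushforwardAdjunction g').homEquiv _ _).symm (χ.f p)).app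
      (f' ⁻¹ᵁ V') ((αApp g' (pullUnit f') (I.cocomplex.X p)).app (f' ⁻¹ᵁ V')
        (tSec g' (coef f') (I.cocomplex.X p) (preimage_le sq e)
          (psec f' (Coh.structureModule S') (le_refl (f' ⁻¹ᵁ V')) (show Γ(Coh.structureModule S', V') from a))
          (toCyc f I p V c).1))
    rw [αApp_tSec, Scheme.Modules.Hom.app_smul, pullUnit_psec, ← Scheme.Hom.app_eq_appLE,
      psec_apply, ← res_app, Groth.Agent.S14448.symm_pullSec]
    exact congrArg _ (QCohMod.res_res _ _ _ _)

variable [Flat g] [QuasiCompact f] [QuasiSeparated f] [M.IsQuasicoherent]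

include hχ in
theorem isIso_bcRes : IsIso (bcRes sq I K χ p) := by
  have : QuasiCompact f' := MorphismProperty.of_isPullback sq ‹QuasiCompact f›
  have : QuasiSeparated f' := MorphismProperty.of_isPullback sq ‹QuasiSeparated f›
  have hGf : FlatMod.IsFlatOver g (Coh.structureModule S') :=
    fun x => (Groth.Misc13.FlatBC.flat_stalkMap_iff_structure g x).2 (Flat.stalkMap g x)
  suffices IsIso (αApp g (𝟙 (Coh.structureModule S')) _ ≫ bcRes sq I K χ p) from
    IsIso.of_isIso_comp_left (αApp g (𝟙 (Coh.structureModule S')) _) _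
  refine isIso_of_local_bijective _ fun x W hxW => ?_
  obtain ⟨V, hV, hxV, -⟩ := exists_isAffineOpen_mem_and_subset (X := S) (x := g x) (U := ⊤) trivial
  obtain ⟨V', hV', hxV', hle⟩ := exists_isAffineOpen_mem_and_subset (X := S') (x := x)
    (U := W ⊓ g ⁻¹ᵁ V) ⟨hxW, hxV⟩
  have e : V' ≤ g ⁻¹ᵁ V := fun z hz => (hle hz).2
  have : Module.Flat Γ(S, V) (secMod g (Coh.structureModule S') e) :=
    (Flatmor4.isFlatOver_iff_affine g _).1 hGf V' V e hV' hV
  obtain ⟨hσ, hν, hker⟩ := σ_ν_affine sq (Coh.structureModule S') I (resT (f' := f') K)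
    (phiT (f' := f') I K χ) p e (phiT_lift I K χ hχ) hV hV'
  refine ⟨V', fun z hz => (hle hz).1, hxV', (injective_iff_map_eq_zero _).2 fun s hs => ?_,
    fun t => ?_⟩
  · obtain ⟨y, rfl⟩ := hσ s
    exact hker y ((comp_σ sq I K χ p e y).symm.trans hs)
  · obtain ⟨y, rfl⟩ := hν t
    exact ⟨_, comp_σ sq I K χ p e y⟩

end Groth.CohBase.FlatBCMap

namespace Groth.CohBase.FlatBCMap

open FlatBC Groth.PicAux

variable {X S X' S' : Scheme.{u}} (f : X ⟶ S) (g : S' ⟶ S) (f' : X' ⟶ S') (g' : X' ⟶ X)
  [HasInjectiveResolutions X.Modules] [HasInjectiveResolutions X'.Modules]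
  [Limits.PreservesFiniteLimits (Scheme.Modules.pullback g')]

lemma cancel_two {C : Type*} [Category C] {A B D B' E E' G H : C} (a : A ⟶ B) (b : B ⟶ D)
    (i : B' ≅ D) (c : D ⟶ E) (j : E' ≅ E) (d : E ⟶ G) (e : G ⟶ H) :
    a ≫ b ≫ i.inv ≫ i.hom ≫ c ≫ j.inv ≫ j.hom ≫ d ≫ e = ((a ≫ b ≫ c) ≫ d) ≫ e := by
  simp

/-- The base change map is an isomorphism. -/
theorem isIso_bcQ (sq : IsPullback g' f' f g) [Flat g] [QuasiCompact f] [QuasiSeparated f]
    (M : X.Modules) [M.IsQuasicoherent] (q : ℕ) :
    IsIso (CohBC.bcQ f g f' g' sq.w q M) := by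
  have := isIso_pullUnit f'
  have := isIso_pullUnit g
  let R := (Scheme.Modules.pullback g').obj M
  let η := (Scheme.Modules.pullbackPushforwardAdjunction g').unit.app M
  let I := injectiveResolution M
  let K := injectiveResolution R
  let L := injectiveResolution ((Scheme.Modules.pushforward g').obj R)
  let δ := RDer.descToInjectives (𝟙 ((Scheme.Modules.pushforward g').obj R)) L.cocomplex L.ι
    (((Scheme.Modules.pushforward g').mapHomologicalComplex _).obj K.cocomplex)
    (RDer.mapAug (Scheme.Modules.pushforward g') K.ι)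
  let ψ := InjectiveResolution.desc η L I
  have hδ : L.ι.f 0 ≫ δ.f 0 = (Scheme.Modules.pushforward g').map (resι K) := by
    refine (RDer.ι_descToInjectives_f_zero (𝟙 ((Scheme.Modules.pushforward g').obj R)) L.cocomplex
      L.ι (((Scheme.Modules.pushforward g').mapHomologicalComplex _).obj K.cocomplex)
      (RDer.mapAug (Scheme.Modules.pushforward g') K.ι)).trans ?_
    refine (Category.id_comp _).trans ?_
    simp [RDer.mapAug, resι]
    exact Category.id_comp _
  have hψ : I.ι.f 0 ≫ ψ.f 0 = η ≫ L.ι.f 0 := InjectiveResolution.desc_commutes_zero η L I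
  have hχ : IsLift I K (ψ ≫ δ) := by
    change I.ι.f 0 ≫ (ψ ≫ δ).f 0 = η ≫ _
    rw [HomologicalComplex.comp_f]
    refine ((reassoc_of% hψ) (δ.f 0)).trans ?_
    exact congrArg (η ≫ ·) hδ
  let Ψ := (Scheme.Modules.pushforwardComp g' f ≪≫ Scheme.Modules.pushforwardCongr sq.w ≪≫
    (Scheme.Modules.pushforwardComp f' g).symm)
  have key : CohBC.bcQAdj f g f' g' sq.w q M =
      (I.isoRightDerivedObj (Coh.push f) q).hom ≫ bcAdjRes sq I K (ψ ≫ δ) q ≫
        (Scheme.Modules.pushforward g).map (K.isoRightDerivedObj (Coh.push f') q).inv := by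
    have a := InjectiveResolution.isoRightDerivedObj_hom_naturality η I L ψ hψ (Coh.push f) q
    have b := InjectiveResolution.rightDerived_app_eq Ψ.hom K q
    simp only [CohBC.bcQAdj, RDer.edgeIn, RDer.edgeOut, CohBC.RpushSquareIso, RDer.rightDerivedIso]
    rw [b]
    simp only [Category.assoc, Iso.inv_hom_id_assoc]
    rw [reassoc_of% a]
    dsimp only [K, R, L, δ]
    refine congrArg _ ?_
    simp only [bcAdjRes, Functor.map_comp, Category.assoc]
    exact cancel_two _ _ _ _ _ _ _
  have := isIso_bcRes sq I K (ψ ≫ δ) q hχ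
  have hq : CohBC.bcQ f g f' g' sq.w q M =
      (Scheme.Modules.pullback g).map (I.isoRightDerivedObj (Coh.push f) q).hom ≫
        bcRes sq I K (ψ ≫ δ) q ≫ (K.isoRightDerivedObj (Coh.push f') q).inv := by
    rw [CohBC.bcQ, key, Adjunction.homEquiv_naturality_left_symm,
      Adjunction.homEquiv_naturality_right_symm]
    rfl
  rw [hq]
  exact IsIso.comp_isIso' inferInstance (IsIso.comp_isIso' this inferInstance)

end Groth.CohBase.FlatBCMap
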