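import Groth.Agent.Limits.BC0.SeesawCriterion
import Groth.Agent.CohC3.BC.Global
import Groth.Agent.SpecFerrand.BasisTools
import Groth.Agent.CohBase.HomNearFibre
import Groth.Agent.PropsBasic.LocFree

/-!
# Finite locally free modules free on the fibres of a proper flat morphism over a reduced base
-/

universe u

open CategoryTheory CategoryTheory.Limits AlgebraicGeometry TopologicalSpace Opposite
open Groth.PicAux Groth.Abvar.Seesaw Groth.Limits.BC0

namespace Groth.CohBase.FreeFibres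

/-- Two bases of one module over a nonempty open have the same size. -/
theorem size_eq {X : Scheme.{u}} {M : X.Modules} {U : X.Opens} {m n : ℕ} {s : Fin m → Γ(M, U)}
    {t : Fin n → Γ(M, U)} (hs : Basis' M U s) (ht : Basis' M U t) {x : X} (hx : x ∈ U) : m = n := by
  have : Nonempty U := ⟨⟨x, hx⟩⟩
  have : Nontrivial Γ(X, U) := (X.presheaf.germ U x hx).hom.domain_nontrivial
  let a := LinearEquiv.ofBijective
    (Fintype.linearCombination Γ(X, U) (fun i => PicAux.res M (le_refl U) (s i))) (hs U le_rfl)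
  let b := LinearEquiv.ofBijective
    (Fintype.linearCombination Γ(X, U) (fun i => PicAux.res M (le_refl U) (t i))) (ht U le_rfl)
  exact eq_of_fin_equiv Γ(X, U) (a.trans b.symm)

/-- Lifts of a basis of an inverse image form a basis near the image points. -/
theorem exists_basis_near {X Y : Scheme.{u}} (k : Y ⟶ X) {M : X.Modules} (hM : FlatMod.IsFinLocFree M)
    {n : ℕ} {O : X.Opens} {g : Fin n → Γ(M, O)}
    (hg : Basis' ((Scheme.Modules.pullback k).obj M) (k ⁻¹ᵁ O) fun i => pullSec k M (g i)) (y : Y)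
    (hy : k y ∈ O) : ∃ (V : X.Opens) (hV : V ≤ O), k y ∈ V ∧ Basis' M V fun i => PicAux.res M hV (g i) := by
  obtain ⟨U, m, s, hxU, hs⟩ := exists_basis_of_isFinLocFree hM (k y)
  have hs₀ := hs.res' (inf_le_left : U ⊓ O ≤ U)
  have hg₀ : Basis' ((Scheme.Modules.pullback k).obj M) (k ⁻¹ᵁ (U ⊓ O))
      fun i => pullSec k M (PicAux.res M (inf_le_right : U ⊓ O ≤ O) (g i)) := by
    simpa only [← res_pullSec k M] using hg.res' (k.preimage_mono (inf_le_right : U ⊓ O ≤ O))
  obtain rfl : m = n := size_eq (hs₀.pull k) hg₀ (x := y) ⟨hxU, hy⟩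
  choose A hA using fun i => (hs₀ (U ⊓ O) le_rfl).2 (PicAux.res M (inf_le_right : U ⊓ O ≤ O) (g i))
  simp only [PicAux.res_self] at hA
  let Am : Matrix (Fin m) (Fin m) Γ(X, U ⊓ O) := Matrix.of A
  have hdet : IsUnit (k.app (U ⊓ O) Am.det) := by
    rw [RingHom.map_det]
    refine SpecFerrand.det_isUnit_of_bases
      (s := fun l => pullSec k M (PicAux.res M (inf_le_left : U ⊓ O ≤ U) (s l)))
      (t := fun i => pullSec k M (PicAux.res M (inf_le_right : U ⊓ O ≤ O) (g i))) _ (fun i => ?_) ?_ ?_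
    · rw [← hA i, pullSec, map_sum]
      exact Finset.sum_congr rfl fun l _ => (pullSec_smul k M (A i l) _).trans rfl
    · simpa using (hs₀.pull k) _ le_rfl
    · simpa using hg₀ _ le_rfl
  have hmem : k y ∈ X.basicOpen Am.det := by
    show y ∈ k ⁻¹ᵁ X.basicOpen Am.det
    rw [Scheme.preimage_basicOpen, Scheme.basicOpen_of_isUnit _ hdet]
    exact ⟨hxU, hy⟩
  refine ⟨X.basicOpen Am.det, (X.basicOpen_le _).trans inf_le_right, hmem, ?_⟩
  have := SpecFerrand.basis_det hs₀ Am (t := fun i => PicAux.res M (inf_le_right : U ⊓ O ≤ O) (g i))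
    (fun i => (hA i).symm.trans rfl)
  simpa using this

/-- Transport of a basis by an invertible matrix. -/
theorem basis_of_det {X : Scheme.{u}} {M : X.Modules} {n : ℕ} {U : X.Opens} {s t : Fin n → Γ(M, U)}
    (hs : Basis' M U s) (A : Matrix (Fin n) (Fin n) Γ(X, U)) (hA : IsUnit A.det)
    (h : ∀ k, t k = ∑ l, A k l • s l) : Basis' M U t := by
  have := SpecFerrand.basis_det hs A h
  have e : X.basicOpen A.det = U := X.basicOpen_of_isUnit hA
  intro V hV
  have hV' := hV.trans e.ge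
  simpa using this V hV'

variable {X S : Scheme.{u}} (f : X ⟶ S)

noncomputable local instance overResidueField (y : S) :
    (f.fiber y).Over (Spec (CommRingCat.of (S.residueField y))) :=
  ⟨f.fiberToSpecResidueField y⟩

theorem fiber_nonempty {y : S} (h0 : H0Const f y) : Nonempty (f.fiber y) := by
  by_contra hne
  rw [not_nonempty_iff] at hne
  have : Subsingleton Γ(f.fiber y, ⊤) :=
    SpecFerrand.subsingleton_functions_of_bot fun z _ => isEmptyElim z
  exact zero_ne_one (α := S.residueField y) (h0.1 (Subsingleton.elim (α := Γ(f.fiber y, ⊤)) _ _))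

theorem top_le_fiber {W : S.Opens} {y : S} (hy : y ∈ W) :
    (⊤ : (f.fiber y).Opens) ≤ f.fiberι y ⁻¹ᵁ (f ⁻¹ᵁ W) :=
  Groth.Limits.BC0.SeesawCrit.top_le_preimage f hy

/-- The `k(y)`-dimension of sections of a free fibre module. -/
theorem fiberRank_eq {E : X.Modules} {y : S} (h0 : H0Const f y) {r : ℕ}
    (hb : ∃ e : Fin r → Γ(CohIII.fiberMod f E y, ⊤), Basis' _ ⊤ e) :
    CohIII.fiberRank f E 0 y = r := by
  obtain ⟨e, he⟩ := hb
  let K := S.residueField y
  let M := CohIII.fiberMod f E y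
  letI := Groth.EulerDeg.secModule K (X := f.fiber y) M (⊤ : (f.fiber y).Opens)
  have hbij : Function.Bijective (Fintype.linearCombination K e) := by
    have h1 : (Fintype.linearCombination K e : (Fin r → K) → Γ(M, (⊤ : (f.fiber y).Opens))) =
        (fun c : Fin r → Γ(f.fiber y, (⊤ : (f.fiber y).Opens)) =>
          ∑ i, c i • PicAux.res M (le_refl _) (e i)) ∘
        fun c i => Coh.toGlobal (f.fiberToSpecResidueField y) (c i) := funext fun c => by
      simp only [Function.comp_apply, Fintype.linearCombination_apply]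
      simp only [PicAux.res_self]
      refine Finset.sum_congr rfl fun i _ => ?_
      rw [Groth.EulerDeg.smul_sec]
      exact congrArg (· • e i) (resX_self le_rfl _)
    change Function.Bijective (Fintype.linearCombination K e : (Fin r → K) → Γ(M, (⊤ : (f.fiber y).Opens)))
    rw [h1]
    exact (he ⊤ le_rfl).comp (Function.Bijective.piMap fun _ => h0)
  exact (Groth.EulerDeg.h0Equiv K M).finrank_eq.trans
    ((LinearEquiv.ofBijective _ hbij).finrank_eq.symm.trans (Module.finrank_fin_fun K))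

theorem exists_basis_fiber {E : X.Modules} {y : S} {r : ℕ}
    (h : Nonempty ((Scheme.Modules.pullback (f.fiberι y)).obj E ≅ FlatMod.freeMod (f.fiber y) r)) :
    ∃ e : Fin r → Γ(CohIII.fiberMod f E y, ⊤), Basis' _ ⊤ e := by
  obtain ⟨e⟩ := h
  obtain ⟨d⟩ := exists_split_free (X := f.fiber y) r
  exact ⟨_, d.basis.map e.inv⟩

variable [IsProper f] [Flat f] [LocallyOfFinitePresentation f] {E : X.Modules}

/-- The fibre rank is locally constant. -/
theorem isLocallyConstant_fiberRank (h0 : ∀ y, H0Const f y) (hE : FlatMod.IsFinLocFree E)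
    (hfib : ∀ y : S, ∃ r : ℕ,
      Nonempty ((Scheme.Modules.pullback (f.fiberι y)).obj E ≅ FlatMod.freeMod (f.fiber y) r)) :
    IsLocallyConstant (CohIII.fiberRank f E 0) := by
  refine (IsLocallyConstant.iff_exists_open _).2 fun y => ?_
  have key : ∀ (t : S) {U : X.Opens} {m : ℕ} {s : Fin m → Γ(E, U)}, Basis' E U s →
      (∃ x ∈ U, f x = t) → CohIII.fiberRank f E 0 t = m := by
    intro t U m s hs ⟨x, hxU, hxt⟩
    obtain ⟨r, hr⟩ := hfib t
    obtain ⟨e, he⟩ := exists_basis_fiber f hr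
    rw [fiberRank_eq f (h0 t) ⟨e, he⟩]
    obtain ⟨z, rfl⟩ : x ∈ Set.range (f.fiberι t) := by rw [Scheme.Hom.range_fiberι]; exact hxt
    exact (size_eq (hs.pull (f.fiberι t)) (he.res' le_top) (x := z) hxU).symm
  obtain ⟨z⟩ := fiber_nonempty f (h0 y)
  obtain ⟨U, m, s, hxU, hs⟩ := exists_basis_of_isFinLocFree hE (f.fiberι y z)
  have hz : f (f.fiberι y z) = y := by
    have : f.fiberι y z ∈ Set.range (f.fiberι y) := ⟨z, rfl⟩
    rwa [Scheme.Hom.range_fiberι] at this
  have : UniversallyOpen f := inferInstance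
  refine ⟨f '' (U : Set X), f.isOpenMap _ U.isOpen, ⟨_, hxU, hz⟩, fun t ht => ?_⟩
  obtain ⟨x, hx, rfl⟩ := ht
  rw [key y hs ⟨_, hxU, hz⟩, key (f x) hs ⟨x, hx, rfl⟩]

variable [IsReduced S] [E.IsQuasicoherent]

/-- All points are good. -/
theorem goodAt (h0 : ∀ y, H0Const f y) (hE : FlatMod.IsFinLocFree E)
    (hfib : ∀ y : S, ∃ r : ℕ,
      Nonempty ((Scheme.Modules.pullback (f.fiberι y)).obj E ≅ FlatMod.freeMod (f.fiber y) r))
    (y : S) : GoodAt f E y := by
  obtain ⟨_, ⟨V, hV, rfl⟩, hy, -⟩ :=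
    S.isBasis_affineOpens.exists_subset_of_mem_open (Set.mem_univ y) isOpen_univ
  obtain ⟨M⟩ := Groth.CohC3.BC.exists_model_preimage f hV E
    (Groth.PropsBasic.LocFree.isFP_of_isFinLocFree E hE) (Groth.CohBase.isFlatOver_of_isFinLocFree f hE)
  obtain ⟨c, hc, hgood⟩ := exists_goodAway M hV hy (Groth.CohC3.BC.mem_freeLocus_of_locallyConstant 0
    (isLocallyConstant_fiberRank f h0 hE hfib) hV M hy).2
  exact ⟨V, hV, M, c, hc, hgood⟩

/-- Sections giving a basis of the direct image restrict to a basis of a fibre. -/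
theorem basis_fiber (h0 : ∀ y, H0Const f y) (hE : FlatMod.IsFinLocFree E)
    (hfib : ∀ y : S, ∃ r : ℕ,
      Nonempty ((Scheme.Modules.pullback (f.fiberι y)).obj E ≅ FlatMod.freeMod (f.fiber y) r))
    {y : S} {W : S.Opens} {n : ℕ} {b : Fin n → Γ((Scheme.Modules.pushforward f).obj E, W)}
    (hb : Basis' ((Scheme.Modules.pushforward f).obj E) W b) (hy : y ∈ W) :
    Basis' (CohIII.fiberMod f E y) (f.fiberι y ⁻¹ᵁ (f ⁻¹ᵁ W))
      fun i => pullSec (f.fiberι y) E (show Γ(E, f ⁻¹ᵁ W) from b i) := by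
  let g := S.fromSpecResidueField y
  let f' := f.fiberToSpecResidueField y
  let M := CohIII.fiberMod f E y
  have hiso : IsIso (CohBC.bc0 f g f' (f.fiberι y) (f.fiber_fac y) E) :=
    isIso_bc0_of_good (IsPullback.of_hasPullback f g) fun z => goodAt f h0 hE hfib _
  have e : (⊤ : (Spec (S.residueField y)).Opens) ≤ g ⁻¹ᵁ W := fun x _ => by
    show g x ∈ W
    rw [Scheme.fromSpecResidueField_apply]
    exact hy
  have e₁ := top_le_fiber f hy
  let σ : Fin n → Γ(M, ⊤) := fun i =>
    PicAux.res M e₁ (pullSec (f.fiberι y) E (show Γ(E, f ⁻¹ᵁ W) from b i))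
  suffices hσ : Basis' M ⊤ σ by
    have := hσ.res' (le_top : f.fiberι y ⁻¹ᵁ (f ⁻¹ᵁ W) ≤ ⊤)
    simpa [σ] using this
  have h1 := ((hb.pull g).res' e).map (CohBC.bc0 f g f' (f.fiberι y) (f.fiber_fac y) E)
  have hpush : Basis' ((Scheme.Modules.pushforward f').obj M) ⊤ fun i => pushSec f' M (σ i) := by
    refine (congrArg (Basis' _ _) (funext fun i => ?_)).mp h1
    exact Groth.CohBase.AffineBC.bcHom_pullSec (f.fiber_fac y) E (V := W)
      (V' := (⊤ : (Spec (S.residueField y)).Opens)) e e₁ (show Γ(E, f ⁻¹ᵁ W) from b i)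
  have hk : Function.Bijective (f'.app ⊤) := by
    have h : (Coh.toGlobal f' : S.residueField y → _) =
        f'.appTop ∘ (Scheme.ΓSpecIso (S.residueField y)).inv := rfl
    have h' : Function.Bijective (f'.appTop ∘ (Scheme.ΓSpecIso (S.residueField y)).inv) := h ▸ h0 y
    exact (Function.Bijective.of_comp_iff _
      (ConcreteCategory.bijective_of_isIso (Scheme.ΓSpecIso (S.residueField y)).inv)).1 h'
  have hg : Function.Bijective fun c : Fin n → Γ(f.fiber y, ⊤) => ∑ i, c i • σ i := by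
    have h2 := hpush ⊤ le_rfl
    let σ' : Fin n → Γ(M, f' ⁻¹ᵁ ⊤) := σ
    have h3 : (fun r : Fin n → Γ(Spec (S.residueField y), ⊤) =>
          ∑ i, r i • PicAux.res _ (le_refl ⊤ : (⊤ : (Spec (S.residueField y)).Opens) ≤ ⊤) (pushSec f' M (σ' i))) =
        fun r => pushSec f' M (∑ i, f'.app ⊤ (r i) • σ' i) := by
      funext r
      refine Eq.trans (Finset.sum_congr rfl fun i _ => ?_) (map_sum
        (AddMonoidHom.mk' (fun z => pushSec f' M (U := ⊤) z) fun _ _ => rfl) _ _).symm
      rw [PicAux.res_self]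
      rfl
    rw [h3] at h2
    exact (Function.Bijective.of_comp_iff (fun c : Fin n → Γ(f.fiber y, ⊤) => ∑ i, c i • σ i)
      (Function.Bijective.piMap fun _ : Fin n => hk)).1 h2
  obtain ⟨r, hr⟩ := hfib y
  obtain ⟨e', he'⟩ := exists_basis_fiber f hr
  have hnt : Nontrivial Γ(f.fiber y, ⊤) := (h0 y).1.nontrivial
  obtain rfl : n = r := eq_of_fin_equiv Γ(f.fiber y, ⊤)
    ((LinearEquiv.ofBijective (Fintype.linearCombination Γ(f.fiber y, ⊤) σ) hg).trans
      (LinearEquiv.ofBijective (Fintype.linearCombination Γ(f.fiber y, ⊤)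
        (fun i => PicAux.res M (le_refl ⊤) (e' i))) (he' ⊤ le_rfl)).symm)
  choose A hA using fun i => (he' ⊤ le_rfl).2 (σ i)
  simp only [PicAux.res_self] at hA
  exact basis_of_det he' (Matrix.of A)
    (SpecFerrand.det_isUnit_of_bases (s := e') (t := σ) (Matrix.of A) (fun i => by simpa using (hA i).symm)
      (by simpa using he' ⊤ le_rfl) hg) fun i => by simpa using (hA i).symm

/-- A finite locally free module free on the fibres is the inverse image of its direct image. -/
theorem isIso_counit (h0 : ∀ y, H0Const f y) (hE : FlatMod.IsFinLocFree E)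
    (hfib : ∀ y : S, ∃ r : ℕ,
      Nonempty ((Scheme.Modules.pullback (f.fiberι y)).obj E ≅ FlatMod.freeMod (f.fiber y) r)) :
    IsIso ((Scheme.Modules.pullbackPushforwardAdjunction f).counit.app E) := by
  refine SpecFerrand.isIso_of_bases _ fun x => ?_
  obtain ⟨W, n, b, -, hxW, hb⟩ :=
    exists_basis_of_goodAt (goodAt f h0 hE hfib (f x)) (show f x ∈ (⊤ : S.Opens) from trivial)
  obtain ⟨z, hz⟩ : x ∈ Set.range (f.fiberι (f x)) := by rw [Scheme.Hom.range_fiberι]; rfl
  obtain ⟨V, hV, hxV, hVb⟩ := exists_basis_near (f.fiberι _) hE (O := f ⁻¹ᵁ W)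
    (g := fun i => (show Γ(E, f ⁻¹ᵁ W) from b i)) (basis_fiber f h0 hE hfib hb hxW) z (hz.symm ▸ hxW)
  refine ⟨V, n, _, hz ▸ hxV, (hb.pull f).res' hV, ?_⟩
  refine (congrArg (Basis' _ _) (funext fun i => ?_)).mp hVb
  refine Eq.trans ?_ (Groth.PicAux.app_res _ hV _).symm
  exact congrArg (PicAux.res E hV) (counit_pullSec f E (show Γ(E, f ⁻¹ᵁ W) from b i)).symm

end Groth.CohBase.FreeFibres
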