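import Groth.Agent.CohTwo.SheafHomIso
import Groth.Agent.LocFree.Hom
import Groth.Agent.PicAux.PullTensor
import Groth.Agent.SpecFerrand.BasisTools

/-!
# The sheaf Hom of finite locally free modules commutes with pullback
-/

set_option autoImplicit false

universe u

open CategoryTheory Limits AlgebraicGeometry TopologicalSpace Opposite
open Groth.PicAux (pullSec pullSec_smul res_pullSec pullSec_map tmulSec Basis')
open Groth.RefRank (hom_ext_sec secToLin germ_secToLin secToLin_res mod_section_ext applySec
  germ_applySec res_applySec secToLin_add secToLin_smul)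
open Groth.QCohMod (germ germ_res germ_smul exists_germ)

namespace Groth.CohBase.HomPull

variable {W X : Scheme.{u}} (g : W ⟶ X) (F G : X.Modules)

local notation "g*" => Scheme.Modules.pullback g

/-- `g*F ⊗ g*Hom(F, G) ⟶ g*G`. -/
noncomputable def pairMap :
    CohB1.tensorMod ((g*).obj F) ((g*).obj (RefHull.homSh F G)) ⟶ (g*).obj G :=
  (Groth.PicAux.exists_pullback_tensorMod g F (RefHull.homSh F G)).choose.inv ≫
    (g*).map (CohTwo.SheafHomIso.evalHom F G)

theorem pairMap_tmulSec {U : X.Opens} (m : Γ(F, U)) (h : Γ(RefHull.homSh F G, U)) :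
    (pairMap g F G).app (g ⁻¹ᵁ U) (tmulSec (pullSec g F m) (pullSec g (RefHull.homSh F G) h)) =
      pullSec g G (secToLin h m) := by
  let e := (Groth.PicAux.exists_pullback_tensorMod g F (RefHull.homSh F G)).choose
  have h1 : e.inv.app (g ⁻¹ᵁ U) (tmulSec (pullSec g F m) (pullSec g (RefHull.homSh F G) h)) =
      pullSec g _ (tmulSec m h : Γ(CohB1.tensorMod F (RefHull.homSh F G), U)) := by
    rw [← (Groth.PicAux.exists_pullback_tensorMod g F (RefHull.homSh F G)).choose_spec U m h]
    exact congr(($(e.hom_inv_id)).app (g ⁻¹ᵁ U)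
      (pullSec g _ (tmulSec m h : Γ(CohB1.tensorMod F (RefHull.homSh F G), U))))
  rw [pairMap, Scheme.Modules.Hom.comp_app, ConcreteCategory.comp_apply, h1, pullSec_map,
    CohTwo.SheafHomIso.evalHom_tmulSec]

/-- `g*Hom(F, G) ⟶ Hom(g*F, g*G)`. -/
noncomputable def comp :
    (g*).obj (RefHull.homSh F G) ⟶ RefHull.homSh ((g*).obj F) ((g*).obj G) :=
  CohTwo.SheafHomIso.toHomSh (pairMap g F G)

/-- The comparison on pulled back sections. -/
theorem secToLin_comp {U : X.Opens} {V : W.Opens} (e : V ≤ g ⁻¹ᵁ U)
    (h : Γ(RefHull.homSh F G, U)) (m : Γ(F, U)) :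
    secToLin ((comp g F G).app V (QCohMod.res _ e (pullSec g (RefHull.homSh F G) h)))
      (QCohMod.res _ e (pullSec g F m)) = QCohMod.res _ e (pullSec g G (secToLin h m)) := by
  rw [← QCohMod.res_app, secToLin_res]
  congr 1
  refine mod_section_ext _ fun z hz => ?_
  rw [germ_secToLin, comp, CohTwo.SheafHomIso.toHomSh_app, CohTwo.SheafHomIso.currySec_val,
    CohTwo.SheafHomIso.curryStalk_germ, pairMap_tmulSec]

variable {F G}

section Basis

variable {Z : Scheme.{u}} {A B : Z.Modules} {U : Z.Opens} {n m : ℕ}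
  {s : Fin n → Γ(A, U)} {t : Fin m → Γ(B, U)}

/-- Sections of the sheaf Hom are determined on a basis of the source. -/
theorem ext_basis (hs : Basis' A U s) {V : Z.Opens} (hV : V ≤ U)
    {q q' : Γ(RefHull.homSh A B, V)}
    (h : ∀ i, secToLin q (QCohMod.res A hV (s i)) = secToLin q' (QCohMod.res A hV (s i))) :
    q = q' := by
  refine hom_ext_sec fun x => CohTwo.SheafHomIso.stalkHom_ext' fun O hO a => ?_
  let P := O ⊓ V
  have hxP : x.1 ∈ P := ⟨hO, x.2⟩
  obtain ⟨r, hr⟩ := (hs P (inf_le_right.trans hV)).2 (QCohMod.res A (inf_le_left : P ≤ O) a)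
  rw [← germ_res A (inf_le_left : P ≤ O) x.1 hxP a, ← hr]
  have hq : ∀ (p : Γ(RefHull.homSh A B, V)) (i : Fin n),
      p.1 x (germ A x.1 hxP (r i • Groth.PicAux.res A (inf_le_right.trans hV) (s i))) =
        Z.presheaf.germ P x.1 hxP (r i) •
          germ B x.1 x.2 (secToLin p (QCohMod.res A hV (s i))) := by
    intro p i
    rw [germ_smul, map_smul, germ_secToLin, germ_res]
    refine congrArg _ (congrArg (p.1 x) ?_)
    exact germ_res A (inf_le_right.trans hV) x.1 hxP (s i)
  simp only [map_sum]
  exact Finset.sum_congr rfl fun i _ => by rw [hq, hq, h i]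

/-- Sections taking a basis to basis elements form a basis of the sheaf Hom. -/
theorem basis'_of_values (hs : Basis' A U s) (ht : Basis' B U t)
    (b : Fin (n * m) → Γ(RefHull.homSh A B, U))
    (hb : ∀ p j, secToLin (b p) (s j) =
      if j = (finProdFinEquiv.symm p).1 then t (finProdFinEquiv.symm p).2 else 0) :
    Basis' (RefHull.homSh A B) U b := by
  intro V hV
  have hev : ∀ (r : Fin (n * m) → Γ(Z, V)) (j : Fin n),
      secToLin (∑ p, r p • Groth.PicAux.res (RefHull.homSh A B) hV (b p))
        (QCohMod.res A hV (s j)) =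
      ∑ l, r (finProdFinEquiv (j, l)) • Groth.PicAux.res B hV (t l) := by
    intro r j
    let L : Γ(RefHull.homSh A B, V) →ₗ[Γ(Z, V)] Γ(B, V) :=
      { toFun := fun q => secToLin q (QCohMod.res A hV (s j))
        map_add' := fun q q' => by rw [secToLin_add]; rfl
        map_smul' := fun a q => by rw [secToLin_smul]; rfl }
    change L _ = _
    rw [map_sum]
    simp only [map_smul]
    have hL : ∀ p, L (Groth.PicAux.res (RefHull.homSh A B) hV (b p)) =
        if j = (finProdFinEquiv.symm p).1 then
          Groth.PicAux.res B hV (t (finProdFinEquiv.symm p).2) else 0 := by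
      intro p
      refine (secToLin_res hV (b p) (s j)).trans ?_
      rw [hb]
      split
      · rfl
      · exact map_zero _
    simp only [hL]
    rw [← finProdFinEquiv.sum_comp, Fintype.sum_prod_type, Finset.sum_eq_single j]
    · simp
    · intro i _ hi
      exact Finset.sum_eq_zero fun l _ => by simp [hi.symm]
    · simp
  constructor
  · intro r r' e
    funext p
    obtain ⟨⟨j, l⟩, rfl⟩ := finProdFinEquiv.surjective p
    have h1 := congrArg (fun q => secToLin q (QCohMod.res A hV (s j))) e
    simp only [hev] at h1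
    exact congrFun ((ht V hV).1 h1) l
  · intro q
    choose c hc using fun j => (ht V hV).2 (secToLin q (QCohMod.res A hV (s j)))
    refine ⟨fun p => c (finProdFinEquiv.symm p).1 (finProdFinEquiv.symm p).2,
      ext_basis hs hV fun j => ?_⟩
    rw [hev]
    simp only [Equiv.symm_apply_apply]
    exact hc j

end Basis

/-- Pullback commutes with the sheaf Hom of finite locally free modules. -/
theorem isIso_comp (hF : FlatMod.IsFinLocFree F) (hG : FlatMod.IsFinLocFree G) :
    IsIso (comp g F G) := by
  have := KTheory.LocFree.isQCoh hF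
  refine SpecFerrand.isIso_of_bases _ fun z => ?_
  obtain ⟨U₀, n, s₀, hx₀, hs₀⟩ := Groth.PicAux.exists_basis_of_isFinLocFree hF (g z)
  obtain ⟨U₁, m, t₁, hx₁, ht₁⟩ := Groth.PicAux.exists_basis_of_isFinLocFree hG (g z)
  obtain ⟨_, ⟨U, hU, rfl⟩, hxU, hUle⟩ := X.isBasis_affineOpens.exists_subset_of_mem_open
    (show g z ∈ ((U₀ ⊓ U₁ : X.Opens) : Set X) from ⟨hx₀, hx₁⟩) (U₀ ⊓ U₁).2
  have hle : U ≤ U₀ ⊓ U₁ := hUle
  have hs := hs₀.res' (hle.trans inf_le_left)
  have ht := ht₁.res' (hle.trans inf_le_right)
  set s := fun i => Groth.PicAux.res F (hle.trans inf_le_left) (s₀ i)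
  set t := fun i => Groth.PicAux.res G (hle.trans inf_le_right) (t₁ i)
  have hbij := hs U le_rfl
  simp only [Groth.PicAux.res_self] at hbij
  let c : (Fin n → Γ(X, U)) ≃ₗ[Γ(X, U)] Γ(F, U) :=
    LinearEquiv.ofBijective (Fintype.linearCombination Γ(X, U) s)
      (by convert hbij using 1; funext r; exact Fintype.linearCombination_apply _ _ _)
  choose b hb using fun p : Fin (n * m) => Groth.RefRank.secToLin_surjective (G := G) hU
    ({ toFun := fun a => c.symm a (finProdFinEquiv.symm p).1 • t (finProdFinEquiv.symm p).2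
       map_add' := fun a a' => by simp [add_smul]
       map_smul' := fun r a => by simp [mul_smul] } : Γ(F, U) →ₗ[Γ(X, U)] Γ(G, U))
  have hb' : ∀ p j, secToLin (b p) (s j) =
      if j = (finProdFinEquiv.symm p).1 then t (finProdFinEquiv.symm p).2 else 0 := by
    intro p j
    have hj : c.symm (s j) = Pi.single j 1 := by
      rw [LinearEquiv.symm_apply_eq]
      simp [c]
    rw [hb]
    change c.symm (s j) (finProdFinEquiv.symm p).1 • t (finProdFinEquiv.symm p).2 = _
    rw [hj, Pi.single_apply, ite_smul, one_smul, zero_smul]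
    exact if_congr eq_comm rfl rfl
  refine ⟨g ⁻¹ᵁ U, n * m, _, hxU, (basis'_of_values hs ht b hb').pull g,
    basis'_of_values (hs.pull g) (ht.pull g) _ fun p j => ?_⟩
  have h1 := secToLin_comp g F G (le_refl (g ⁻¹ᵁ U)) (b p) (s j)
  rw [QCohMod.res_self, QCohMod.res_self, QCohMod.res_self, hb'] at h1
  refine h1.trans ?_
  split
  · rfl
  · exact map_zero (((Scheme.Modules.pullbackPushforwardAdjunction g).unit.app G).app U).hom

/-- The section of the sheaf Hom given by a morphism. -/
noncomputable def secOfHom {A B : X.Modules} (φ : A ⟶ B) : Γ(RefHull.homSh A B, ⊤) :=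
  ⟨fun x => RefHull.stalkMapₗ φ x.1, fun V _ a x => ⟨V, x.2, 𝟙 V, φ.app V a,
    fun y => RefHull.stalkMapₗ_germ φ y.1 y.2 a⟩⟩

theorem applySec_secOfHom {A B : X.Modules} (φ : A ⟶ B) {V : X.Opens} (a : Γ(A, V)) :
    applySec (secOfHom φ) le_top a = φ.app V a :=
  mod_section_ext B fun x hx => (germ_applySec _ le_top a x hx).trans
    (RefHull.stalkMapₗ_germ φ x hx a)

/-- The morphism given by a global section of the sheaf Hom. -/
theorem exists_hom_of_global {A B : X.Modules} (h : Γ(RefHull.homSh A B, ⊤)) :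
    ∃ φ : A ⟶ B, ∀ (V : X.Opens) (a : Γ(A, V)), φ.app V a = applySec h le_top a := by
  refine ⟨⟨PresheafOfModules.homMk
    { app := fun V => AddCommGrpCat.ofHom
        (AddMonoidHom.mk' (fun a : Γ(A, V.unop) => applySec h le_top a) fun a a' =>
          mod_section_ext B fun x hx => by
            refine (germ_applySec h le_top _ x hx).trans ?_
            refine ((congrArg (h.1 ⟨x, trivial⟩) ((germ A x hx).map_add a a')).trans
              (map_add _ _ _)).trans ?_
            exact ((map_add _ _ _).trans (congrArg₂ (· + ·) (germ_applySec h le_top a x hx)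
              (germ_applySec h le_top a' x hx))).symm)
      naturality := fun V V' i => by
        ext a
        exact (res_applySec h le_top (leOfHom i.unop) a).symm }
    (fun V r a => mod_section_ext B fun x hx => ?_)⟩, fun V a => rfl⟩
  refine (germ_applySec h le_top _ x hx).trans ?_
  refine ((congrArg (h.1 ⟨x, trivial⟩) (germ_smul A x hx r a)).trans
    ((h.1 ⟨x, trivial⟩).map_smul _ _)).trans ?_
  exact ((germ_smul B x hx r _).trans (congrArg _ (germ_applySec h le_top a x hx))).symm

/-- Morphisms out of a pullback are determined on pulled back sections. -/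
theorem hom_ext_pullSec {A : X.Modules} {B : W.Modules} {φ ψ : (g*).obj A ⟶ B}
    (h : ∀ (U : X.Opens) (a : Γ(A, U)),
      φ.app (g ⁻¹ᵁ U) (pullSec g A a) = ψ.app (g ⁻¹ᵁ U) (pullSec g A a)) : φ = ψ := by
  apply ((Scheme.Modules.pullbackPushforwardAdjunction g).homEquiv A B).injective
  rw [Adjunction.homEquiv_unit, Adjunction.homEquiv_unit]
  refine Scheme.Modules.hom_ext _ _ fun U => ?_
  ext a
  exact h U a

end Groth.CohBase.HomPull
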