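import Groth.Agent.CohBase.Modules
import Groth.Agent.QCohMod.QCQS
import Mathlib.AlgebraicGeometry.IdealSheaf.Subscheme
import Mathlib.Algebra.Category.ModuleCat.Sheaf.PullbackFree

/-!
# The sequence of the reduced structure of a closed subset
-/

universe u

open CategoryTheory Limits AlgebraicGeometry TopologicalSpace Opposite

namespace Groth.CohBase

variable {X Y : Scheme.{u}}

/-- The comparison map from the structure module to the direct image of the structure module. -/
noncomputable def unitPush (f : X ⟶ Y) :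
    Coh.structureModule Y ⟶ (Scheme.Modules.pushforward f).obj (Coh.structureModule X) :=
  SheafOfModules.unitToPushforwardObjUnit f.toRingCatSheafHom

lemma unitPush_app (f : X ⟶ Y) (V : Y.Opens) (a : Γ(Y, V)) :
    (unitPush f).app V a = f.app V a := rfl

lemma epi_unitPush_subschemeι (I : Y.IdealSheafData) : Epi (unitPush I.subschemeι) :=
  QCohMod.epi_of_affine_surjective _ fun U hU => by
    intro t
    obtain ⟨a, ha⟩ := I.subschemeι_app_surjective ⟨U, hU⟩ t
    exact ⟨a, ha⟩

lemma range_reduced (Z : Closeds Y) :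
    Set.range (Scheme.IdealSheafData.vanishingIdeal Z).subschemeι = (Z : Set Y) := by
  rw [Scheme.IdealSheafData.range_subschemeι, Scheme.IdealSheafData.coe_support_vanishingIdeal]

/-- The quasi-coherent ideal module of a closed subset. -/
noncomputable def closedIdeal (Z : Closeds Y) : Y.Modules :=
  kernel (unitPush (Scheme.IdealSheafData.vanishingIdeal Z).subschemeι)

/-- Its inclusion in the structure module. -/
noncomputable def closedIdealι (Z : Closeds Y) : closedIdeal Z ⟶ Coh.structureModule Y :=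
  kernel.ι _

instance (Z : Closeds Y) : Mono (closedIdealι Z) := by
  exact equalizer.ι_mono

instance isQCoh_closedIdeal (Z : Closeds Y) : (closedIdeal Z).IsQuasicoherent := by
  have : ((Scheme.Modules.pushforward (Scheme.IdealSheafData.vanishingIdeal Z).subschemeι).obj
      (Coh.structureModule (Scheme.IdealSheafData.vanishingIdeal Z).subscheme)).IsQuasicoherent :=
    QCohMod.isQCoh_pushforward _ _
  unfold closedIdeal
  infer_instance

lemma surjective_app_of_epi {M N : Y.Modules} (φ : M ⟶ N) [Epi φ] (W : Y.Opens)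
    (h : HVanish (X := Y.toTopCat) (abSheaf (kernel φ)) 1 W) :
    Function.Surjective (φ.app W) := by
  let S : ShortComplex Y.Modules := ShortComplex.mk (kernel.ι φ) φ (kernel.condition φ)
  have hS : S.ShortExact :=
    { exact := ShortComplex.exact_of_f_is_kernel _ (kernelIsKernel φ) }
  intro t
  obtain ⟨s, hs⟩ := sections_surjective (shortExact_toAb hS) h t
  exact ⟨s, hs⟩

/-- Separating a closed point from a closed subset by a global function. -/
theorem exists_function_of_vanishing (Z : Closeds Y) (x : Y) (hx : IsClosed ({x} : Set Y))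
    (hxZ : x ∉ Z)
    (h : HVanish (X := Y.toTopCat) (abSheaf (closedIdeal (Z ⊔ ⟨{x}, hx⟩))) 1 ⊤) :
    ∃ f : Γ(Y, ⊤), x ∈ Y.basicOpen f ∧ Disjoint (Y.basicOpen f : Set Y) Z := by
  set Z' : Closeds Y := Z ⊔ ⟨{x}, hx⟩
  set I := Scheme.IdealSheafData.vanishingIdeal Z'
  set T := I.subscheme
  set i := I.subschemeι
  have hrange : Set.range i = (Z' : Set Y) := range_reduced Z'
  let A : T.Opens := i ⁻¹ᵁ ⟨(Z : Set Y)ᶜ, Z.isClosed.isOpen_compl⟩
  let B : T.Opens := i ⁻¹ᵁ ⟨{x}ᶜ, hx.isOpen_compl⟩
  have hdisj : A ⊓ B = ⊥ := by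
    ext t
    simp only [Opens.coe_inf, Set.mem_inter_iff, Opens.coe_bot, Set.mem_empty_iff_false,
      iff_false, not_and]
    intro hA hB
    have : i t ∈ (Z' : Set Y) := hrange ▸ Set.mem_range_self t
    rcases this with h' | h'
    · exact hA h'
    · exact hB h'
  have hcov : (⊤ : T.Opens) ≤ A ⊔ B := by
    intro t _
    by_cases h' : i t ∈ (Z : Set Y)
    · exact Or.inr fun h'' => hxZ (h'' ▸ h')
    · exact Or.inl h'
  obtain ⟨e, heA, heB⟩ := QCohMod.exists_glue₂ (Coh.structureModule T) (le_top : A ≤ ⊤)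
    (le_top : B ≤ ⊤) hcov (1 : Γ(T, A)) (0 : Γ(T, B))
    ((QCohMod.subsingleton_bot _ hdisj).elim _ _)
  have := epi_unitPush_subschemeι I
  obtain ⟨f, hf⟩ := surjective_app_of_epi (unitPush i) ⊤ h e
  have hf' : i.app ⊤ f = e := hf
  have hpre : i ⁻¹ᵁ Y.basicOpen f = T.basicOpen (show Γ(T, ⊤) from e) := by
    rw [← hf']
    exact Scheme.preimage_basicOpen i f
  refine ⟨f, ?_, Set.disjoint_left.mpr fun y hy hyZ => ?_⟩
  · obtain ⟨t, ht⟩ : x ∈ Set.range i := hrange ▸ Or.inr rfl
    have htA : t ∈ A := fun h' => hxZ (by rwa [ht] at h')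
    have : t ∈ T.basicOpen (show Γ(T, ⊤) from e) ⊓ A := by
      rw [inf_comm, ← T.basicOpen_res (show Γ(T, ⊤) from e) (homOfLE (le_top : A ≤ ⊤)).op]
      rw [show T.presheaf.map (homOfLE (le_top : A ≤ ⊤)).op (show Γ(T, ⊤) from e) = 1 from heA,
        Scheme.basicOpen_of_isUnit _ isUnit_one]
      exact htA
    rw [← hpre] at this
    rw [← ht]
    exact this.1
  · obtain ⟨t, rfl⟩ : y ∈ Set.range i := hrange ▸ Or.inl hyZ
    have htB : t ∈ B := fun h' => hxZ (h' ▸ hyZ)
    have : t ∈ B ⊓ T.basicOpen (show Γ(T, ⊤) from e) := ⟨htB, hpre ▸ hy⟩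
    rw [← T.basicOpen_res (show Γ(T, ⊤) from e) (homOfLE (le_top : B ≤ ⊤)).op,
      show T.presheaf.map (homOfLE (le_top : B ≤ ⊤)).op (show Γ(T, ⊤) from e) = 0 from heB,
      Scheme.basicOpen_zero] at this
    exact this

end Groth.CohBase
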