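import Groth.Agent.CohBase.FibreBC
import Groth.Agent.CohBase.RankTheory
import Groth.Agent.CohFin.ProjFinite

/-!
# A finite free complex computing higher direct images and fibre cohomology over an affine open
-/

universe u

open CategoryTheory Limits AlgebraicGeometry TopologicalSpace Opposite HomologicalComplex
open scoped TensorProduct

namespace Groth.CohBase

open CxRank

/-- Kernels of `φ ⊗ K` and of `K ⊗ φ`, when the target is a semilinear module. -/
theorem exists_ker_baseChange_equiv {A K N P : Type u} [CommRing A] [CommRing K] [Algebra A K]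
    [AddCommGroup N] [Module A N] [AddCommGroup P] [Module A P] (φ : N →ₗ[A] P)
    {H : Type u} [AddCommGroup H] [Module K H] (e : LinearMap.ker (φ.rTensor K) ≃+ H)
    (he : ∀ (b : K) (z w : LinearMap.ker (φ.rTensor K)),
      w.1 = (LinearMap.mul A K b).lTensor N z.1 → e w = b • e z) :
    Nonempty (LinearMap.ker (φ.baseChange K) ≃ₗ[K] H) := by
  let c := TensorProduct.comm A K N
  have hc : ∀ z, φ.rTensor K (c z) = TensorProduct.comm A K P (φ.baseChange K z) := fun z => by
    induction z using TensorProduct.induction_on with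
    | zero => simp
    | tmul a n => rfl
    | add p q hp hq => simp [hp, hq]
  let e₀ : LinearMap.ker (φ.baseChange K) ≃+ LinearMap.ker (φ.rTensor K) :=
    { toFun := fun z => ⟨c z.1, by
        rw [LinearMap.mem_ker, hc, show φ.baseChange K z.1 = 0 from z.2, map_zero]⟩
      invFun := fun w => ⟨c.symm w.1, by
        rw [LinearMap.mem_ker]
        apply (TensorProduct.comm A K P).injective
        rw [← hc, LinearEquiv.apply_symm_apply, map_zero]
        exact w.2⟩
      left_inv := fun z => Subtype.ext (c.symm_apply_apply z.1)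
      right_inv := fun w => Subtype.ext (c.apply_symm_apply w.1)
      map_add' := fun _ _ => Subtype.ext (map_add c _ _) }
  refine ⟨(e₀.trans e).toLinearEquiv fun b z => he b _ _ ?_⟩
  change c (b • z.1) = (LinearMap.mul A K b).lTensor N (c z.1)
  generalize z.1 = y
  induction y using TensorProduct.induction_on with
  | zero => simp
  | tmul a n => rfl
  | add p q hp hq => simp only [smul_add, map_add, hp, hq]

variable {X S : Scheme.{u}} (f : X ⟶ S) [IsProper f] [IsLocallyNoetherian S]
  [HasInjectiveResolutions X.Modules] (M : X.Modules)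

/-- Near every point a finite free complex computes all higher direct images and all the cohomology
of the fibres. -/
theorem exists_local_model (hM : Coh.IsCoh M) (hfl : FlatMod.IsFlatOver f M) {V : S.Opens}
    (hV : IsAffineOpen V) :
    ∃ L : CochainComplex (ModuleCat.{u} Γ(S, V)) ℤ,
      (∀ i, Module.Finite Γ(S, V) (L.X i) ∧ Module.Free Γ(S, V) (L.X i)) ∧
      (∃ b : ℤ, ∀ i, b < i → IsZero (L.X i)) ∧
      (∀ (j : ℤ) (N : ModuleCat.{u} Γ(S, V)), j < 0 → IsZero (CohIII.T L j N)) ∧
      (∀ p : ℕ, Nonempty (Γ((Coh.Rpush f p).obj M, V) ≃ₗ[Γ(S, V)] Hk L (p : ℤ))) ∧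
      ∀ (p : ℕ) (y : S) (hy : y ∈ V),
        letI := (S.evaluation V y hy).hom.toAlgebra
        Nonempty (CohIII.fiberH f M y p ≃ₗ[S.residueField y]
          LinearMap.ker ((dq L (p : ℤ)).baseChange (S.residueField y))) := by
  have := hM.1
  have : IsLocallyNoetherian X := LocallyOfFiniteType.isLocallyNoetherian f
  have : IsNoetherianRing Γ(S, V) := IsLocallyNoetherian.component_noetherian ⟨V, hV⟩
  let U : X.Opens := f ⁻¹ᵁ V
  let q : (U : Scheme.{u}) ⟶ Spec (CommRingCat.of Γ(S, V)) := preimageToSpec f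
  let : (U : Scheme.{u}).Over (Spec (CommRingCat.of Γ(S, V))) := ⟨q⟩
  let G := M.restrict U.ι
  have : IsProper q := MorphismProperty.of_isPullback (isPullback_preimageToSpec f hV) ‹IsProper f›
  have : CompactSpace (U : Scheme.{u}) := CohFin.compactSpace_of_proper q
  have : (U : Scheme.{u}).IsSeparated := CohFin.isSeparated_of_proper q
  have hG : Coh.IsCoh G := CohFin.isCoh_restrict hM U
  have := hG.1
  have hfin : ∀ p : ℕ, Module.Finite Γ(S, V) (Coh.HH (U : Scheme.{u}) G p) := fun p =>
    CohFin.hFin_of_proper CohFin.projFinite p (U : Scheme.{u}) q G hG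
  obtain ⟨cov⟩ := exists_goodCover (U : Scheme.{u})
  obtain ⟨L, φ, hL, hb, hq⟩ :=
    exists_finiteFree_qis Γ(S, V) cov G (isFlatOver_restrict_preimage f hV M hfl) hfin
  refine ⟨L, hL, hb, fun j N hj => ?_, fun p => ?_, fun p y hy => ?_⟩
  · refine IsZero.of_iso ?_ ((tFunIso φ j hq).app N)
    refine (FlatCxBase.isZero_T_iff _ (FlatCxBase.cochain_prev j) (FlatCxBase.cochain_next j) N).2
      fun x _ => ⟨0, ?_⟩
    have := ModuleCat.subsingleton_of_isZero (isZero_cxA_of_neg Γ(S, V) cov.U G hj)
    exact Subsingleton.elim _ _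
  · obtain ⟨e⟩ := exists_Rpush_linEquiv f (M := M) p hV
    exact ⟨e.trans ((selfLinIso Γ(S, V) cov G p).symm.trans
      (((tFunIso φ (p : ℤ) hq).app (ModuleCat.of Γ(S, V) Γ(S, V))).toLinearEquiv.symm.trans
        (tOneEquiv L (p : ℤ))))⟩
  · let : Algebra Γ(S, V) (S.residueField y) := (S.evaluation V y hy).hom.toAlgebra
    let : (f.fiber y).Over (Spec (CommRingCat.of (S.residueField y))) :=
      ⟨f.fiberToSpecResidueField y⟩
    let g := fibreToPreimage f y hy
    have hsq : IsBC (A := Γ(S, V)) (A' := S.residueField y) g :=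
      isPullback_fibreToPreimage f hV y hy
    obtain ⟨e, he⟩ := exists_bcEquiv hsq G cov p
    let K : ModuleCat.{u} Γ(S, V) := ModuleCat.of Γ(S, V) (S.residueField y)
    let η := tFunIso φ (p : ℤ) hq
    let iso := haIsoEquiv (f.fiberToSpecResidueField y) (fibreModIso f M y hy) p
    let e' : LinearMap.ker ((dq L (p : ℤ)).rTensor K) ≃+ CohIII.fiberH f M y p :=
      (tKerEquiv L K (p : ℤ)).symm.toAddEquiv.trans
        ((η.app K).toLinearEquiv.toAddEquiv.trans (e.trans iso.toAddEquiv))
    refine (exists_ker_baseChange_equiv (K := S.residueField y) (dq L (p : ℤ)) e'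
      fun b z w h => ?_).map LinearEquiv.symm
    let m : K ⟶ K := ModuleCat.ofHom (LinearMap.mul Γ(S, V) (S.residueField y) b)
    obtain ⟨a, rfl⟩ := (tKerEquiv L K (p : ℤ)).surjective z
    have hw : w = tKerEquiv L K (p : ℤ) ((CohIII.TFun L (p : ℤ)).map m a) :=
      Subtype.ext (h.trans (tKerEquiv_map L K (p : ℤ) m a).symm)
    subst hw
    change iso (e ((η.app K).toLinearEquiv ((tKerEquiv L K (p : ℤ)).symm (tKerEquiv L K (p : ℤ) _)))) =
      b • (show CohIII.fiberH f M y p from
        iso (e ((η.app K).toLinearEquiv ((tKerEquiv L K (p : ℤ)).symm (tKerEquiv L K (p : ℤ) a)))))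
    rw [LinearEquiv.symm_apply_apply, LinearEquiv.symm_apply_apply]
    have hnat : (η.app K).toLinearEquiv ((CohIII.TFun L (p : ℤ)).map m a) =
        (CohIII.TFun (cxA Γ(S, V) cov.U G) (p : ℤ)).map m ((η.app K).toLinearEquiv a) :=
      congr($(η.hom.naturality m) a)
    rw [hnat, he]
    exact iso.map_smul b _

end Groth.CohBase
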