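import Groth.Agent.CohBase.FibreConsequences
import Groth.Agent.CohBase.CxBaseChange
import Groth.Agent.LimitMod.ProperFlatModel

/-!
# Complexes computing higher direct images, for finitely presented data
-/

universe u

open CategoryTheory Limits AlgebraicGeometry TopologicalSpace Opposite HomologicalComplex
open scoped TensorProduct

noncomputable section

set_option backward.isDefEq.respectTransparency.types false

namespace Groth.CohBase

open CxRank Groth.FlatCxBase Groth.SpectralTopology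

section Equiv

variable {A₀ K : Type u} [CommRing A₀] [CommRing K] [Algebra A₀ K] {Y X' : Scheme.{u}}
  [Y.Over (Spec (CommRingCat.of A₀))] [X'.Over (Spec (CommRingCat.of K))] {g : X' ⟶ Y}
  [Y.IsSeparated]

/-- Cohomology of a base change is the kernel of the base changed differential of a model. -/
theorem exists_bc_kerEquiv (hsq : IsBC (A := A₀) (A' := K) g) (cov : GoodCover Y) (F₀ : Y.Modules)
    [F₀.IsQuasicoherent] {L₀ : CochainComplex (ModuleCat.{u} A₀) ℤ}
    (φ : L₀ ⟶ cxA A₀ cov.U F₀)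
    (hq : ∀ M : ModuleCat.{u} A₀, QuasiIso (((MonoidalCategory.tensorRight M).mapHomologicalComplex
      (ComplexShape.up ℤ)).map φ))
    {G : X'.Modules} (ι : (Scheme.Modules.pullback g).obj F₀ ≅ G) (p : ℕ) :
    Nonempty (CohFin.HA (X' ↘ Spec (CommRingCat.of K)) G p ≃ₗ[K]
      LinearMap.ker ((dq L₀ (p : ℤ)).baseChange K)) := by
  obtain ⟨e, he⟩ := exists_bcEquiv hsq F₀ cov p
  let N : ModuleCat.{u} A₀ := ModuleCat.of A₀ K
  let η := tFunIso φ (p : ℤ) hq
  let iso := haIsoEquiv (X' ↘ Spec (CommRingCat.of K)) ι p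
  let e' : LinearMap.ker ((dq L₀ (p : ℤ)).rTensor N) ≃+
      CohFin.HA (X' ↘ Spec (CommRingCat.of K)) G p :=
    (tKerEquiv L₀ N (p : ℤ)).symm.toAddEquiv.trans
      ((η.app N).toLinearEquiv.toAddEquiv.trans (e.trans iso.toAddEquiv))
  refine (exists_ker_baseChange_equiv (K := K) (dq L₀ (p : ℤ)) e' fun b z w h => ?_).map
    LinearEquiv.symm
  let m : N ⟶ N := ModuleCat.ofHom (LinearMap.mul A₀ K b)
  obtain ⟨a, rfl⟩ := (tKerEquiv L₀ N (p : ℤ)).surjective z
  have hw : w = tKerEquiv L₀ N (p : ℤ) ((CohIII.TFun L₀ (p : ℤ)).map m a) :=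
    Subtype.ext (h.trans (tKerEquiv_map L₀ N (p : ℤ) m a).symm)
  subst hw
  change iso (e ((η.app N).toLinearEquiv ((tKerEquiv L₀ N (p : ℤ)).symm (tKerEquiv L₀ N (p : ℤ) _)))) =
    b • (show CohFin.HA (X' ↘ Spec (CommRingCat.of K)) G p from
      iso (e ((η.app N).toLinearEquiv ((tKerEquiv L₀ N (p : ℤ)).symm (tKerEquiv L₀ N (p : ℤ) a)))))
  rw [LinearEquiv.symm_apply_apply, LinearEquiv.symm_apply_apply]
  have hnat : (η.app N).toLinearEquiv ((CohIII.TFun L₀ (p : ℤ)).map m a) =
      (CohIII.TFun (cxA A₀ cov.U F₀) (p : ℤ)).map m ((η.app N).toLinearEquiv a) :=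
    congr($(η.hom.naturality m) a)
  rw [hnat, he]
  exact iso.map_smul b _

end Equiv

variable {X S : Scheme.{u}} (f : X ⟶ S) [IsProper f] [LocallyOfFinitePresentation f]
  [HasInjectiveResolutions X.Modules] (M : X.Modules) [M.IsQuasicoherent]

/-- Over an affine open a finite free complex computes all higher direct images and all the
cohomology of the fibres, with no Noetherian hypothesis. -/
theorem exists_isModel_fp (hM : CohB1.IsFP M) (hfl : FlatMod.IsFlatOver f M) {V : S.Opens}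
    (hV : IsAffineOpen V) :
    ∃ L : CochainComplex (ModuleCat.{u} Γ(S, V)) ℤ, IsModel f M L := by
  let A := CommRingCat.of Γ(S, V)
  let U : X.Opens := f ⁻¹ᵁ V
  have hsq₁ := isPullback_preimageToSpec f hV
  let f' : (U : Scheme.{u}) ⟶ (fgCone A).pt := preimageToSpec f (V := V)
  have : IsProper f' := MorphismProperty.of_isPullback hsq₁ ‹IsProper f›
  have : LocallyOfFinitePresentation f' :=
    MorphismProperty.of_isPullback hsq₁ ‹LocallyOfFinitePresentation f›
  have : ∀ i, IsAffine ((fgSchemes A).obj i) := fun i => inferInstanceAs (IsAffine (Spec _))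
  have := Groth.LimitMod.isCofiltered_fgSub A
  let F' := (Scheme.Modules.pullback U.ι).obj M
  have hflat' : FlatMod.IsFlatOver f' F' := Groth.FlatMorOne.isFlatOver_baseChange hsq₁ M hfl
  obtain ⟨i, St, F₀, hq₀, hfp, hp, ⟨e₀⟩, hfl₀⟩ := Groth.LimitMod.exists_proper_flat_stage
    (isLimitFgCone A) (f := f') F' (Groth.QCohMod.isFP_pullback _ M hM) hflat'
  let A₀ : Type u := i.unop.1
  have : Algebra.FiniteType ℤ i.unop.1 := i.unop.1.fg_iff_finiteType.1 i.unop.2
  have : IsNoetherianRing A₀ := Algebra.FiniteType.isNoetherianRing ℤ _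
  let q₀ : St.obj ⟶ Spec (CommRingCat.of A₀) := St.hom
  let : St.obj.Over (Spec (CommRingCat.of A₀)) := ⟨q₀⟩
  have : IsProper q₀ := hp
  have : CompactSpace St.obj := CohFin.compactSpace_of_proper q₀
  have : St.obj.IsSeparated := CohFin.isSeparated_of_proper q₀
  obtain ⟨cov⟩ := exists_goodCover St.obj
  have hfin : ∀ p : ℕ, Module.Finite A₀ (Coh.HH St.obj F₀ p) := fun p =>
    CohFin.hFin_of_proper CohFin.projFinite p St.obj q₀ F₀
      ⟨hq₀, Groth.PropsBasic.LocFree.isFT_of_isFP F₀ hfp⟩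
  obtain ⟨L₀, φ, hL, ⟨b, hb⟩, hq⟩ := exists_finiteFree_qis A₀ cov F₀ hfl₀ hfin
  have : ∀ j, Module.Finite A₀ (L₀.X j) := fun j => (hL j).1
  have : ∀ j, Module.Free A₀ (L₀.X j) := fun j => (hL j).2
  let : Algebra A₀ Γ(S, V) := i.unop.1.val.toRingHom.toAlgebra
  let : (U : Scheme.{u}).Over (Spec (CommRingCat.of Γ(S, V))) := ⟨preimageToSpec f⟩
  have hbc : IsBC (A := A₀) (A' := Γ(S, V)) St.map := St.sq
  let L := bcL Γ(S, V) L₀
  refine ⟨L, fun j => Module.Finite.equiv (xBC Γ(S, V) L₀ j).symm, fun j => free_bc _ L₀ j,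
    ⟨b, fun j hj => isZero_bc _ L₀ j (hb j hj)⟩, fun j N hj => ?_, fun p => ?_, fun p y hy => ?_⟩
  · refine isZero_T_bc _ L₀ j (fun N' => IsZero.of_iso ?_ ((tFunIso φ j hq).app N')) N
    refine (isZero_T_iff _ (cochain_prev j) (cochain_next j) N').2 fun x _ => ⟨0, ?_⟩
    have := ModuleCat.subsingleton_of_isZero (isZero_cxA_of_neg A₀ cov.U F₀ hj)
    exact Subsingleton.elim _ _
  · obtain ⟨e⟩ := exists_Rpush_linEquiv f (M := M) p hV
    obtain ⟨e'⟩ := exists_bc_kerEquiv hbc cov F₀ φ hq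
      (e₀ ≪≫ ((Scheme.Modules.restrictFunctorIsoPullback U.ι).app M).symm) p
    exact ⟨e.trans (e'.trans (hkBC Γ(S, V) L₀ (p : ℤ)).symm)⟩
  · let : Algebra Γ(S, V) (S.residueField y) := (S.evaluation V y hy).hom.toAlgebra
    let : Algebra A₀ (S.residueField y) :=
      ((S.evaluation V y hy).hom.comp (algebraMap A₀ Γ(S, V))).toAlgebra
    have hst : @IsScalarTower A₀ Γ(S, V) (S.residueField y) Algebra.toSMul Algebra.toSMul Algebra.toSMul :=
      IsScalarTower.of_algebraMap_eq fun _ => rfl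
    let : (f.fiber y).Over (Spec (CommRingCat.of (S.residueField y))) :=
      ⟨f.fiberToSpecResidueField y⟩
    have hbc' : IsBC (A := A₀) (A' := S.residueField y) (fibreToPreimage f y hy ≫ St.map) := by
      refine ((isPullback_fibreToPreimage f hV y hy).paste_horiz hbc).of_iso (Iso.refl _)
        (Iso.refl _) (Iso.refl _) (Iso.refl _) (by simp) (by simp; rfl) (by simp) ?_
      rw [Iso.refl_hom, Iso.refl_hom, Category.id_comp, Category.comp_id]
      exact (Spec.map_comp _ _).symm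
    obtain ⟨e'⟩ := exists_bc_kerEquiv hbc' cov F₀ φ hq
      ((Scheme.Modules.pullbackComp (fibreToPreimage f y hy) St.map).symm.app F₀ ≪≫
        (Scheme.Modules.pullback (fibreToPreimage f y hy)).mapIso
          (e₀ ≪≫ ((Scheme.Modules.restrictFunctorIsoPullback U.ι).app M).symm) ≪≫
        fibreModIso f M y hy) p
    exact ⟨e'.trans (kerBC Γ(S, V) L₀ (p : ℤ) (S.residueField y)).symm⟩

namespace IsModel

variable {f M} {V : S.Opens} (hV : IsAffineOpen V) {L : CochainComplex (ModuleCat.{u} Γ(S, V)) ℤ}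
  (hL : IsModel f M L)
include hV hL

omit hV [IsProper f] [LocallyOfFinitePresentation f] [M.IsQuasicoherent] in
/-- With flat cokernels the sections of the higher direct image are finite projective. -/
theorem finite_projective_fp (p : ℕ) (h : Module.Flat Γ(S, V) (Qc L (p : ℤ)))
    (h' : Module.Flat Γ(S, V) (Qc L ((p : ℤ) + 1))) :
    Module.Finite Γ(S, V) Γ((Coh.Rpush f p).obj M, V) ∧
      Module.Projective Γ(S, V) Γ((Coh.Rpush f p).obj M, V) := by
  have := hL.finite
  have := hL.free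
  obtain ⟨e⟩ := hL.sections p
  obtain ⟨_, _⟩ := finite_projective_Hk L _ h h'
  exact ⟨Module.Finite.equiv e.symm, Module.Projective.of_equiv e.symm⟩

omit [LocallyOfFinitePresentation f] in
/-- Vanishing on a fibre spreads out. -/
theorem exists_isZero_restrict_fp (p : ℕ) (y : S) (hy : y ∈ V)
    (h : Subsingleton (CohIII.fiberH f M y p)) :
    ∃ U : S.Opens, y ∈ U ∧ IsZero (((Coh.Rpush f p).obj M).restrict U.ι) := by
  have := hL.finite
  have := hL.free
  let R := (Coh.Rpush f p).obj M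
  have : R.IsQuasicoherent := isQCoh_Rpush f p
  obtain ⟨e⟩ := hL.sections p
  obtain ⟨g, hg, hg0⟩ := exists_notMem_smul_eq_zero L _ (hV.primeIdealOf ⟨y, hy⟩)
    (hL.injective_residueField hV p y hy h)
  refine ⟨S.basicOpen g, (Groth.QCohMod.mem_basicOpen_iff_notMem_primeIdealOf hV g y hy).2 hg, ?_⟩
  refine (Groth.QCohMod.isZero_restrict_iff_stalk R _).2 fun z hz => ?_
  have hzV : z ∈ V := S.basicOpen_le g hz
  let _ := Groth.QCohMod.stalkModule R z hzV
  have := Groth.QCohMod.isLocalizedModule_germ R hV z hzV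
  have hgz := (Groth.QCohMod.mem_basicOpen_iff_notMem_primeIdealOf hV g z hzV).1 hz
  have : Subsingleton (R.presheaf.stalk z) := subsingleton_of_forall_eq 0 fun t => by
    obtain ⟨⟨s, u⟩, hu⟩ := IsLocalizedModule.surj (hV.primeIdealOf ⟨z, hzV⟩).asIdeal.primeCompl
      (Groth.QCohMod.germₗ R z hzV) t
    have h0 : Groth.QCohMod.germₗ R z hzV s = 0 :=
      (IsLocalizedModule.eq_zero_iff (hV.primeIdealOf ⟨z, hzV⟩).asIdeal.primeCompl _).2
        ⟨⟨g, hgz⟩, show g • s = 0 from
          e.injective ((map_smul e g s).trans ((hg0 _).trans (map_zero e).symm))⟩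
    exact ((Module.End.isUnit_iff _).1 (IsLocalizedModule.map_units (Groth.QCohMod.germₗ R z hzV) u)).1
      (hu.trans (h0.trans (map_zero _).symm))
  exact @AddCommGrpCat.isZero_of_subsingleton _ this

end IsModel

end Groth.CohBase
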