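import Groth.Agent.CohBase.DerivedShift
import Groth.Agent.CohBase.CechDerived
import Groth.Agent.SiteCohomology.Flasque

/-!
# Direct images of abelian sheaves acyclic over a basis
-/

universe u

open CategoryTheory Limits TopologicalSpace Opposite
open CategoryTheory.Abelian (Ext)

namespace Groth.CohBase

section Delta

variable {X : TopCat.{u}} {S : ShortComplex (AbSheaf X)} (hS : S.ShortExact) (W : Opens X)

include hS

/-- The connecting map from sections of the quotient to first cohomology. -/
noncomputable def deltaSec : S.X₃.obj.obj (op W) →+ (Sheaf.H' S.X₁ 1 W : Type u) :=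
  (hS.extClass.postcomp (freeOpen W) (zero_add 1)).comp
    (Ext.addEquiv₀.trans (homFreeOpen W S.X₃)).symm.toAddMonoidHom

lemma deltaSec_apply (q : S.X₃.obj.obj (op W)) :
    deltaSec hS W q =
      (Ext.mk₀ ((homFreeOpen W S.X₃).symm q)).comp hS.extClass (zero_add 1) := rfl

lemma deltaSec_surjective [Injective S.X₂] : Function.Surjective (deltaSec hS W) := by
  intro y
  obtain ⟨z, hz⟩ := Ext.covariant_sequence_exact₁ (freeOpen W) hS y
    (Ext.eq_zero_of_injective _) (zero_add 1)
  refine ⟨homFreeOpen W _ (Ext.addEquiv₀ z), ?_⟩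
  rw [deltaSec_apply, AddEquiv.symm_apply_apply, Ext.mk₀_addEquiv₀_apply]
  exact hz

lemma mem_ker_deltaSec (q : S.X₃.obj.obj (op W)) :
    q ∈ (deltaSec hS W).ker ↔ ∃ s, S.g.hom.app (op W) s = q := by
  constructor
  · intro hq
    obtain ⟨z, hz⟩ := Ext.covariant_sequence_exact₃ (freeOpen W) hS _ (zero_add 1)
      ((deltaSec_apply hS W q).symm.trans hq)
    refine ⟨homFreeOpen W _ (Ext.addEquiv₀ z), ?_⟩
    rw [← homFreeOpen_comp, ← AddEquiv.eq_symm_apply]
    apply (Ext.mk₀_bijective _ _).injective
    rw [← Ext.mk₀_comp_mk₀, Ext.mk₀_addEquiv₀_apply, hz]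
  · rintro ⟨s, rfl⟩
    rw [AddMonoidHom.mem_ker, deltaSec_apply,
      show (homFreeOpen W _).symm (S.g.hom.app (op W) s) = (homFreeOpen W _).symm s ≫ S.g from
        (homFreeOpen W _).injective (by
          rw [homFreeOpen_comp, AddEquiv.apply_symm_apply, AddEquiv.apply_symm_apply]),
      ← Ext.mk₀_comp_mk₀, Ext.comp_assoc_of_second_deg_zero, hS.comp_extClass, Ext.comp_zero]
    rfl

end Delta

variable {X Y : TopCat.{u}} (f : X ⟶ Y)

/-- Direct image of abelian sheaves. -/
noncomputable abbrev pushSheaf : AbSheaf X ⥤ AbSheaf Y := CohTop.push f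

instance : (pushSheaf f).IsRightAdjoint :=
  (Groth.SiteCohomology.pullPushAdj f).isRightAdjoint

/-- `F` is acyclic on the preimages of a basis of the target. -/
def PushAcyclic (F : AbSheaf X) : Prop :=
  ∀ (V : Opens Y) (y : Y), y ∈ V →
    ∃ V' : Opens Y, V' ≤ V ∧ y ∈ V' ∧ ∀ q, HVanish F (q + 1) ((Opens.map f).obj V')

variable {f}

lemma PushAcyclic.quotient {S : ShortComplex (AbSheaf X)} (hS : S.ShortExact) [Injective S.X₂]
    (h : PushAcyclic f S.X₁) : PushAcyclic f S.X₃ := fun V y hy => by
  obtain ⟨V', hle, hy', hV'⟩ := h V y hy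
  exact ⟨V', hle, hy', fun q => hVanish_quotient hS (hV' (q + 1))⟩

lemma PushAcyclic.epi_map {S : ShortComplex (AbSheaf X)} (hS : S.ShortExact)
    (h : PushAcyclic f S.X₁) : Epi ((pushSheaf f).map S.g) := by
  refine (CategoryTheory.Sheaf.isLocallySurjective_iff_epi' AddCommGrpCat.{u} _).mp ?_
  refine (TopCat.Presheaf.isLocallySurjective_iff ((pushSheaf f).map S.g).hom).mpr ?_
  intro V q y hy
  obtain ⟨V', hle, hy', hV'⟩ := h V y hy
  obtain ⟨s, hs⟩ := sections_surjective hS (hV' 0)
    (res S.X₃.obj ((Opens.map f).map (homOfLE hle)).le q)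
  exact ⟨V', hle, ⟨s, hs⟩, hy'⟩

lemma PushAcyclic.shortExact_map {S : ShortComplex (AbSheaf X)} (hS : S.ShortExact)
    (h : PushAcyclic f S.X₁) : (S.map (pushSheaf f)).ShortExact where
  exact := by
    have := hS.mono_f
    exact (((Functor.preservesFiniteLimits_tfae (pushSheaf f)).out 3 1 rfl rfl).mp
      inferInstance S ⟨hS.exact, hS.mono_f⟩).1
  mono_f := by
    have := hS.mono_f
    exact inferInstanceAs (Mono ((pushSheaf f).map S.f))
  epi_g := h.epi_map hS

instance injective_pushSheaf_obj (I : AbSheaf X) [Injective I] :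
    Injective ((pushSheaf f).obj I) :=
  Groth.SiteCohomology.injective_push I f

/-- Higher direct images of a sheaf acyclic over a basis vanish. -/
theorem PushAcyclic.isZero_rightDerived {F : AbSheaf X} (h : PushAcyclic f F) (n : ℕ) :
    IsZero (((pushSheaf f).rightDerived (n + 1)).obj F) := by
  induction n generalizing F with
  | zero =>
    exact isZero_rightDerived_one (injPres_shortExact F) (pushSheaf f)
      (PushAcyclic.epi_map (S := injPres F) (injPres_shortExact F) h)
  | succ n ih =>
    exact (ih (PushAcyclic.quotient (S := injPres F) (injPres_shortExact F) h)).of_iso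
      (rightDerivedShift (injPres_shortExact F) (pushSheaf f) n)

/-- Cohomology of an acyclic direct image. -/
theorem PushAcyclic.nonempty_equiv_H' {F : AbSheaf X} (h : PushAcyclic f F) (n : ℕ)
    (V : Opens Y) :
    Nonempty ((Sheaf.H' ((pushSheaf f).obj F) n V : Type u) ≃+
      (Sheaf.H' F n ((Opens.map f).obj V) : Type u)) := by
  induction n generalizing F with
  | zero =>
    exact ⟨(Ext.addEquiv₀.trans (homFreeOpen V ((pushSheaf f).obj F))).trans
      (Ext.addEquiv₀.trans (homFreeOpen ((Opens.map f).obj V) F)).symm⟩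
  | succ n ih =>
    have hS := injPres_shortExact F
    have hS' := PushAcyclic.shortExact_map (S := injPres F) hS h
    have : Injective ((injPres F).map (pushSheaf f)).X₂ :=
      injective_pushSheaf_obj (f := f) (injPres F).X₂
    rcases n with _ | n
    · refine ⟨addEquivOfSameKer (deltaSec hS' V) (deltaSec hS ((Opens.map f).obj V))
        (deltaSec_surjective hS' V) (deltaSec_surjective hS _) ?_⟩
      ext q
      exact (mem_ker_deltaSec hS' V q).trans (mem_ker_deltaSec hS _ q).symm
    · obtain ⟨e⟩ := ih (PushAcyclic.quotient (S := injPres F) hS h)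
      exact ⟨((equivHShift hS' V n).symm.trans e).trans (equivHShift hS _ n)⟩

/-- Cohomology of an acyclic direct image, on the whole spaces. -/
theorem PushAcyclic.nonempty_equiv_H {F : AbSheaf X} (h : PushAcyclic f F) (n : ℕ) :
    Nonempty ((Sheaf.H ((pushSheaf f).obj F) n : Type u) ≃+ (Sheaf.H F n : Type u)) := by
  obtain ⟨e⟩ := h.nonempty_equiv_H' n ⊤
  exact ⟨((equivHTop _ n).trans e).trans (equivHTop F n).symm⟩

end Groth.CohBase
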