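import Mathlib.AlgebraicGeometry.Modules.Tilde
import Groth.Agent.CohBase.Cech

/-!
# Sections of a quasi-coherent module on a principal open of an affine open
-/

universe u

open CategoryTheory Limits AlgebraicGeometry Opposite TopologicalSpace

namespace Groth.CohBase

variable {X : Scheme.{u}}

/-- Restriction of the sections of a module, as an additive map. -/
noncomputable abbrev mres (M : X.Modules) {V W : X.Opens} (h : V ≤ W) : Γ(M, W) →+ Γ(M, V) :=
  res (X := X.toTopCat) M.presheaf h

/-- Restriction of functions, as a ring map. -/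
abbrev ores {V W : X.Opens} (h : V ≤ W) : Γ(X, W) →+* Γ(X, V) :=
  (X.presheaf.map (homOfLE h).op).hom

@[simp]
lemma ores_ores {V W T : X.Opens} (h : V ≤ W) (h' : W ≤ T) (s : Γ(X, T)) :
    ores h (ores h' s) = ores (h.trans h') s :=
  (X.presheaf.map_comp_apply (homOfLE h').op (homOfLE h).op s).symm

@[simp]
lemma ores_self {V : X.Opens} (s : Γ(X, V)) : ores (le_refl V) s = s := by
  change X.presheaf.map (𝟙 _) s = s
  simp

lemma mres_smul (M : X.Modules) {V W : X.Opens} (h : V ≤ W) (r : Γ(X, W)) (s : Γ(M, W)) :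
    mres M h (r • s) = ores h r • mres M h s :=
  M.map_smul (homOfLE h) r s

lemma fromSpec_smul (M : X.Modules) {V : X.Opens} (hV : IsAffineOpen V)
    (U : (Spec Γ(X, V)).Opens) (r : Γ(X, V)) (t : Γ(M.restrict hV.fromSpec, U))
    (h : hV.fromSpec ''ᵁ U ≤ V) :
    (M.restrictAppIso hV.fromSpec U).hom (r • t) =
      ores h r • (M.restrictAppIso hV.fromSpec U).hom t := by
  rw [Scheme.Modules.smul_Spec_def, Scheme.Modules.smul_restrictAppIso_hom_apply]
  have h' : U ≤ hV.fromSpec ⁻¹ᵁ V := by rw [hV.fromSpec_preimage_self]; exact le_top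
  have e : (Scheme.ΓSpecIso Γ(X, V)).inv ≫ (Spec Γ(X, V)).presheaf.map U.leTop.op =
      hV.fromSpec.appLE V U h' := by
    rw [Scheme.Hom.appLE, hV.fromSpec_app_self, Category.assoc, ← Functor.map_comp]
    rfl
  refine congrArg (· • _) ?_
  exact ConcreteCategory.congr_hom ((congrArg (· ≫ (hV.fromSpec.appIso U).inv) e).trans
    (Scheme.Hom.appLE_appIso_inv _ _)) r

/-- Sections of the transport of a module to the spectrum of an affine open. -/
noncomputable def fromSpecSections (M : X.Modules) {V : X.Opens} (hV : IsAffineOpen V)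
    (U : (Spec Γ(X, V)).Opens) (W : X.Opens) (hW : hV.fromSpec ''ᵁ U = W) :
    Γ(M.restrict hV.fromSpec, U) ≅ Γ(M, W) :=
  M.restrictAppIso hV.fromSpec U ≪≫ M.presheaf.mapIso (eqToIso hW.symm).op

lemma fromSpecSections_res (M : X.Modules) {V : X.Opens} (hV : IsAffineOpen V)
    {U U' : (Spec Γ(X, V)).Opens} (i : U' ⟶ U) {W W' : X.Opens} (hW : hV.fromSpec ''ᵁ U = W)
    (hW' : hV.fromSpec ''ᵁ U' = W') (h : W' ≤ W) (t : Γ(M.restrict hV.fromSpec, U)) :
    (fromSpecSections M hV U' W' hW').hom ((M.restrict hV.fromSpec).presheaf.map i.op t) =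
      mres M h ((fromSpecSections M hV U W hW).hom t) := by
  change M.presheaf.map _ (M.presheaf.map _ ((M.restrictAppIso hV.fromSpec U).hom t)) =
    M.presheaf.map _ (M.presheaf.map _ ((M.restrictAppIso hV.fromSpec U).hom t))
  rw [← M.presheaf.map_comp_apply, ← M.presheaf.map_comp_apply]
  rfl

lemma fromSpecSections_smul (M : X.Modules) {V : X.Opens} (hV : IsAffineOpen V)
    (U : (Spec Γ(X, V)).Opens) {W : X.Opens} (hW : hV.fromSpec ''ᵁ U = W) (h : W ≤ V)
    (r : Γ(X, V)) (t : Γ(M.restrict hV.fromSpec, U)) :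
    (fromSpecSections M hV U W hW).hom (r • t) =
      ores h r • (fromSpecSections M hV U W hW).hom t := by
  change M.presheaf.map _ ((M.restrictAppIso hV.fromSpec U).hom (r • t)) = _
  rw [fromSpec_smul M hV U r t (hW.le.trans h)]
  exact (mres_smul M hW.ge _ _).trans (by rw [ores_ores]; rfl)

lemma fromSpecSections_bijective (M : X.Modules) {V : X.Opens} (hV : IsAffineOpen V)
    (U : (Spec Γ(X, V)).Opens) {W : X.Opens} (hW : hV.fromSpec ''ᵁ U = W) :
    Function.Bijective (fromSpecSections M hV U W hW).hom :=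
  ConcreteCategory.bijective_of_isIso _

/-- Localisation of the sections of a quasi-coherent module on an affine open at a function on it. -/
lemma basicOpen_sections (M : X.Modules) [M.IsQuasicoherent] {V : X.Opens} (hV : IsAffineOpen V)
    (g : Γ(X, V)) :
    (∀ t : Γ(M, V), mres M (X.basicOpen_le g) t = 0 → ∃ n : ℕ, g ^ n • t = 0) ∧
    (∀ s : Γ(M, X.basicOpen g), ∃ (n : ℕ) (t : Γ(M, V)),
      mres M (X.basicOpen_le g) t = ores (X.basicOpen_le g) g ^ n • s) := by
  have : ((Scheme.Modules.restrictFunctor hV.fromSpec).obj M).IsQuasicoherent := inferInstance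
  have hloc := (isIso_fromTildeΓ_iff_isLocalizing
    ((Scheme.Modules.restrictFunctor hV.fromSpec).obj M)).mp inferInstance g
  have htop : hV.fromSpec ''ᵁ (⊤ : (Spec Γ(X, V)).Opens) = V := by
    rw [Scheme.Hom.image_top_eq_opensRange, hV.opensRange_fromSpec]
  have hbas : hV.fromSpec ''ᵁ (PrimeSpectrum.basicOpen g : (Spec Γ(X, V)).Opens) = X.basicOpen g :=
    hV.fromSpec_image_basicOpen g
  have hle := X.basicOpen_le g
  constructor
  · intro t ht
    obtain ⟨t, rfl⟩ := (fromSpecSections_bijective M hV ⊤ htop).2 t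
    rw [← fromSpecSections_res M hV (PrimeSpectrum.basicOpen g).leTop htop hbas] at ht
    have h0 := (fromSpecSections_bijective M hV _ hbas).1
      (ht.trans (map_zero (fromSpecSections M hV _ _ hbas).hom.hom).symm)
    obtain ⟨⟨_, n, rfl⟩, hn⟩ := (IsLocalizedModule.eq_zero_iff (.powers g)
      ((modulesSpecToSheaf.obj ((Scheme.Modules.restrictFunctor hV.fromSpec).obj M)).obj.map
        (PrimeSpectrum.basicOpen g).leTop.op).hom (m := t)).mp (by exact h0)
    refine ⟨n, ?_⟩
    have := congrArg (fromSpecSections M hV ⊤ V htop).hom hn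
    refine Eq.trans ?_ (this.trans (map_zero _))
    exact (by rw [ores_self] : g ^ n • _ = ores (le_refl V) (g ^ n) • _).trans
      (fromSpecSections_smul M hV ⊤ htop le_rfl _ _).symm
  · intro s
    obtain ⟨s, rfl⟩ := (fromSpecSections_bijective M hV _ hbas).2 s
    obtain ⟨⟨y, ⟨_, n, rfl⟩⟩, hy⟩ := hloc.surj s
    refine ⟨n, (fromSpecSections M hV ⊤ V htop).hom y, ?_⟩
    refine (fromSpecSections_res M hV (PrimeSpectrum.basicOpen g).leTop htop hbas hle _).symm.trans ?_
    rw [← map_pow]
    exact (congrArg _ hy.symm).trans (fromSpecSections_smul M hV _ hbas hle (g ^ n) s)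

end Groth.CohBase
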