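import Groth.Agent.CohBase.StdCover
import Groth.Agent.QCohMod.QCQS

/-!
# Čech exactness for coverings by quasi-compact principal opens
-/

universe u

open CategoryTheory Limits AlgebraicGeometry Opposite TopologicalSpace

namespace Groth.CohBase

variable {X : Scheme.{u}} [QuasiSeparatedSpace X]

lemma isCompact_inter {ι : Type u} (U : ι → X.Opens) (hU : ∀ i, IsCompact (U i : Set X)) :
    ∀ {n : ℕ} (x : Fin (n + 1) → ι),
      IsCompact (SetLike.coe (inter (X := X.toTopCat) U x)) := by
  intro n
  induction n with
  | zero => intro x; rw [inter_one]; exact hU _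
  | succ n ih =>
    intro x
    rw [← Fin.cons_self_tail x, inter_cons]
    exact QuasiSeparatedSpace.inter_isCompact (α := X) _ _ (U (x 0)).2 (hU _)
      (inter (X := X.toTopCat) U (Fin.tail x)).2 (ih _)

/-- Čech exactness for principal opens of functions generating the unit ideal. -/
theorem cechExact_principal (M : X.Modules) [M.IsQuasicoherent] {W : X.Opens} {ι : Type u}
    [Finite ι] (f : ι → Γ(X, W)) (hc : ∀ i, IsCompact (X.basicOpen (f i) : Set X))
    (hf : Ideal.span (Set.range f) = ⊤) (p : ℕ) :
    CechExact (X := X.toTopCat) (fun k => X.basicOpen (f k)) M.presheaf p := by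
  have hle : ∀ k, X.basicOpen (f k) ≤ W := fun k => X.basicOpen_le (f k)
  have key : ∀ (k : ι) {n : ℕ} (x : Fin (n + 1) → ι),
      X.basicOpen (f k) ⊓ inter (X := X.toTopCat) (fun k => X.basicOpen (f k)) x =
        X.basicOpen (ores (inter_le_of_le _ hle x) (f k)) := by
    intro k n x
    exact ((X.basicOpen_res (f k) (homOfLE (inter_le_of_le _ hle x)).op).trans (inf_comm _ _)).symm
  refine cechExact_of_localizing M _ hle f ?_ ?_ ?_ p
  · intro k n x t ht
    refine QCohMod.exists_pow_smul_eq_zero_of_isCompact M (isCompact_inter _ hc x)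
      (ores (inter_le_of_le _ hle x) (f k)) t ?_
    have := congrArg (mres M (key k x).ge) ht
    rw [res_res, map_zero] at this
    exact this
  · intro k n x s
    obtain ⟨N, t, ht⟩ := QCohMod.exists_pow_smul_eq_res_of_qcqs M (isCompact_inter _ hc x)
      (IsQuasiSeparated.of_quasiSeparatedSpace _) (ores (inter_le_of_le _ hle x) (f k))
      (mres M (key k x).ge s)
    refine ⟨N, t, ?_⟩
    have ht' : mres M (X.basicOpen_le (ores (inter_le_of_le _ hle x) (f k))) t =
        ores (X.basicOpen_le _) (ores (inter_le_of_le _ hle x) (f k)) ^ N • mres M (key k x).ge s :=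
      ht
    have := congrArg (mres M (key k x).le) ht'
    rw [res_res, mres_smul, res_res, res_self, map_pow, ores_ores, ores_ores] at this
    exact this
  · intro m
    have := Ideal.span_pow_eq_top _ hf m
    rwa [← Set.range_comp] at this

end Groth.CohBase
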