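import Groth.Agent.CohBase.RelCechRpush
import Groth.Agent.CohBase.AffineBC

/-!
Base change of the relative Čech complex of a quasi-coherent module: for a family of opens whose
finite intersections are affine over the base, `g^* Č(𝒰, f, F) ≅ Č(𝒰', f', g'^* F)`.
-/

universe u

open CategoryTheory CategoryTheory.Limits AlgebraicGeometry TopologicalSpace Opposite
open scoped TensorProduct
open Groth.QCohMod (resFun res_smul sectionsAlg)
open Groth.PicAux (pullSec)

set_option backward.isDefEq.respectTransparency false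
set_option linter.style.haveILetI false

namespace Groth.CohBase.RelCechBC

variable {X S X' S' : Scheme.{u}} {f : X ⟶ S} {g : S' ⟶ S} {g' : X' ⟶ X} {f' : X' ⟶ S'}

/-- `W ∩ V`, as the prelude writes it. -/
noncomputable abbrev cut (W : X.Opens) (V : X.Opens) : X.Opens := W.ι ''ᵁ (W.ι ⁻¹ᵁ V)

theorem cut_eq (W V : X.Opens) : cut W V = W ⊓ V := by
  rw [cut, Scheme.Hom.image_preimage_eq_opensRange_inf, Scheme.Opens.opensRange_ι]

theorem cut_le (W V : X.Opens) : cut W V ≤ V := (cut_eq W V).le.trans inf_le_right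

theorem smul_pushRestr (W V : X.Opens) (r : Γ(X, V)) :
    (W.ι.appIso (W.ι ⁻¹ᵁ V)).inv (W.ι.app V r) = resFun X (cut_le W V) r :=
  ConcreteCategory.congr_hom (W.ι.app_appIso_inv V) r

theorem cut_preimage_le (w : g' ≫ f = f' ≫ g) {W : X.Opens} {W' : X'.Opens}
    (hW : W' ≤ g' ⁻¹ᵁ W) (V : S.Opens) :
    cut W' (f' ⁻¹ᵁ (g ⁻¹ᵁ V)) ≤ g' ⁻¹ᵁ cut W (f ⁻¹ᵁ V) := by
  rw [cut_eq, cut_eq, ← Scheme.Hom.comp_preimage, ← w, Scheme.Hom.comp_preimage]
  exact inf_le_inf_right _ hW

/-- Restricted pullback of sections. -/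
noncomputable def pullRes (F : X.Modules) {U : X.Opens} {U' : X'.Opens} (h : U' ≤ g' ⁻¹ᵁ U) :
    Γ(F, U) →+ Γ((Scheme.Modules.pullback g').obj F, U') :=
  AddMonoidHom.mk' (fun s => QCohMod.res _ h (pullSec g' F s)) fun s t => by
    rw [← map_add]
    exact congrArg _ (map_add _ s t)

theorem pullRes_res (F : X.Modules) {U U₁ : X.Opens} {U' U₁' : X'.Opens} (h : U' ≤ g' ⁻¹ᵁ U)
    (h₁ : U₁' ≤ g' ⁻¹ᵁ U₁) (hU : U₁ ≤ U) (hU' : U₁' ≤ U') (s : Γ(F, U)) :
    pullRes F h₁ (QCohMod.res F hU s) = QCohMod.res _ hU' (pullRes F h s) := by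
  change QCohMod.res _ h₁ (pullSec g' F (QCohMod.res F hU s)) = QCohMod.res _ hU' (QCohMod.res _ h (pullSec g' F s))
  rw [show pullSec g' F (QCohMod.res F hU s) = QCohMod.res _ (g'.preimage_mono hU) (pullSec g' F s)
    from (Groth.PicAux.res_pullSec g' F hU s).symm, QCohMod.res_res, QCohMod.res_res]

/-- The base change map of one term, in adjoint form. -/
noncomputable def psi (w : g' ≫ f = f' ≫ g) {W : X.Opens} {W' : X'.Opens}
    (hW : W' ≤ g' ⁻¹ᵁ W) (F : X.Modules) :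
    (Scheme.Modules.pushforward f).obj ((CechOX.pushRestr W).obj F) ⟶
      (Scheme.Modules.pushforward g).obj ((Scheme.Modules.pushforward f').obj
        ((CechOX.pushRestr W').obj ((Scheme.Modules.pullback g').obj F))) :=
  ⟨PresheafOfModules.homMk
    { app := fun V => AddCommGrpCat.ofHom
        (pullRes F (cut_preimage_le w hW V.unop) : Γ(F, cut W (f ⁻¹ᵁ V.unop)) →+
          Γ((Scheme.Modules.pullback g').obj F, cut W' (f' ⁻¹ᵁ (g ⁻¹ᵁ V.unop))))
      naturality := fun V V₁ i => by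
        refine AddCommGrpCat.ext fun (s : Γ(F, cut W (f ⁻¹ᵁ V.unop))) => ?_
        exact pullRes_res F (cut_preimage_le w hW V.unop) (cut_preimage_le w hW V₁.unop)
          (leOfHom (W.ι.opensFunctor.map ((Opens.map W.ι.base).map
            ((Opens.map f.base).map i.unop))))
          (leOfHom (W'.ι.opensFunctor.map ((Opens.map W'.ι.base).map
            ((Opens.map f'.base).map ((Opens.map g.base).map i.unop))))) s }
    (fun V (r : Γ(S, V.unop)) (s : Γ(F, cut W (f ⁻¹ᵁ V.unop))) => by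
      change QCohMod.res _ (cut_preimage_le w hW V.unop) (pullSec g' F
          ((W.ι.appIso _).inv (W.ι.app _ (f.app V.unop r)) • s)) =
        (W'.ι.appIso _).inv (W'.ι.app _ (f'.app _ (g.app V.unop r))) •
          QCohMod.res _ (cut_preimage_le w hW V.unop) (pullSec g' F s)
      rw [smul_pushRestr, smul_pushRestr, Groth.PicAux.pullSec_smul, res_smul]
      congr 1
      have e1 : f.appLE V.unop (cut W (f ⁻¹ᵁ V.unop)) (cut_le _ _) r =
          resFun X (cut_le W (f ⁻¹ᵁ V.unop)) (f.app V.unop r) := rfl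
      rw [← e1]
      have e2 := FlatBC.appLE_sq w (le_refl (g ⁻¹ᵁ V.unop)) (cut_le W (f ⁻¹ᵁ V.unop))
        (cut_preimage_le w hW V.unop) (cut_le W' (f' ⁻¹ᵁ (g ⁻¹ᵁ V.unop))) r
      rw [Scheme.Hom.appLE_eq_app] at e2
      exact e2.symm.trans rfl)⟩

/-- The base change map of one term. -/
noncomputable def phi (w : g' ≫ f = f' ≫ g) {W : X.Opens} {W' : X'.Opens}
    (hW : W' ≤ g' ⁻¹ᵁ W) (F : X.Modules) :
    (Scheme.Modules.pullback g).obj
        ((Scheme.Modules.pushforward f).obj ((CechOX.pushRestr W).obj F)) ⟶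
      (Scheme.Modules.pushforward f').obj
        ((CechOX.pushRestr W').obj ((Scheme.Modules.pullback g').obj F)) :=
  ((Scheme.Modules.pullbackPushforwardAdjunction g).homEquiv _ _).symm (psi w hW F)

theorem phi_pullSec (w : g' ≫ f = f' ≫ g) {W : X.Opens} {W' : X'.Opens}
    (hW : W' ≤ g' ⁻¹ᵁ W) (F : X.Modules) {V : S.Opens} {V' : S'.Opens} (e : V' ≤ g ⁻¹ᵁ V)
    (e₁ : cut W' (f' ⁻¹ᵁ V') ≤ g' ⁻¹ᵁ cut W (f ⁻¹ᵁ V)) (s : Γ(F, cut W (f ⁻¹ᵁ V))) :
    (show Γ((Scheme.Modules.pullback g').obj F, cut W' (f' ⁻¹ᵁ V')) from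
      (phi w hW F).app V' (QCohMod.res _ e (pullSec g
        ((Scheme.Modules.pushforward f).obj ((CechOX.pushRestr W).obj F)) s))) =
      QCohMod.res ((Scheme.Modules.pullback g').obj F) e₁ (pullSec g' F s) := by
  have hu := ((Scheme.Modules.pullbackPushforwardAdjunction g).homEquiv_unit
      (f := phi w hW F)).symm.trans
    (((Scheme.Modules.pullbackPushforwardAdjunction g).homEquiv _ _).apply_symm_apply (psi w hW F))
  have h1 : (phi w hW F).app (g ⁻¹ᵁ V) (pullSec g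
        ((Scheme.Modules.pushforward f).obj ((CechOX.pushRestr W).obj F)) s) =
      (psi w hW F).app V s :=
    ConcreteCategory.congr_hom (congrArg (fun γ => Scheme.Modules.Hom.app γ V) hu) s
  refine (QCohMod.res_app (phi w hW F) e _).symm.trans ((congrArg _ h1).trans ?_)
  exact QCohMod.res_res ((Scheme.Modules.pullback g').obj F) (cut_preimage_le w hW V)
    (W'.ι.image_mono (W'.ι.preimage_mono (f'.preimage_mono e))) _

theorem isPullback_restrict (sq : IsPullback g' f' f g) (W : X.Opens) :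
    IsPullback (g' ∣_ W) ((g' ⁻¹ᵁ W).ι ≫ f') (W.ι ≫ f) g :=
  (isPullback_morphismRestrict g' W).paste_vert sq

set_option maxHeartbeats 2000000 in
set_option synthInstance.maxHeartbeats 200000 in
/-- The base change map of one term is an isomorphism. -/
theorem isIso_phi (sq : IsPullback g' f' f g) {W : X.Opens} {W' : X'.Opens} (hW : W' = g' ⁻¹ᵁ W)
    [IsAffineHom (W.ι ≫ f)] (F : X.Modules) [F.IsQuasicoherent] :
    IsIso (phi sq.w hW.le F) := by
  subst hW
  have : IsAffineHom ((g' ⁻¹ᵁ W).ι ≫ f') :=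
    MorphismProperty.of_isPullback (isPullback_restrict sq W) ‹_›
  refine FlatBC.isIso_of_local_bijective _ fun x W₀ hxW => ?_
  obtain ⟨_, ⟨V, hV, rfl⟩, hxV, -⟩ :=
    S.isBasis_affineOpens.exists_subset_of_mem_open (Set.mem_univ (g x)) isOpen_univ
  obtain ⟨_, ⟨V', hV', rfl⟩, hxV', hle⟩ :=
    S'.isBasis_affineOpens.exists_subset_of_mem_open (show x ∈ W₀ ⊓ g ⁻¹ᵁ V from ⟨hxW, hxV⟩)
      (W₀ ⊓ g ⁻¹ᵁ V).2
  refine ⟨V', fun y hy => (hle hy).1, hxV', ?_⟩
  have e : V' ≤ g ⁻¹ᵁ V := fun y hy => (hle hy).2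
  let U := cut W (f ⁻¹ᵁ V)
  let U' := cut (g' ⁻¹ᵁ W) (f' ⁻¹ᵁ V')
  have hU : IsAffineOpen U :=
    (hV.preimage (W.ι ≫ f)).image_of_isOpenImmersion W.ι
  have hU'a : IsAffineOpen U' :=
    (hV'.preimage ((g' ⁻¹ᵁ W).ι ≫ f')).image_of_isOpenImmersion (g' ⁻¹ᵁ W).ι
  have eU : U ≤ f ⁻¹ᵁ V := cut_le _ _
  have e₂ : U' ≤ f' ⁻¹ᵁ V' := cut_le _ _
  have hU' : U' = g' ⁻¹ᵁ U ⊓ f' ⁻¹ᵁ V' := by
    simp only [U, U', cut_eq, Scheme.Hom.preimage_inf]
    rw [inf_assoc, inf_eq_right.2 (FlatBC.preimage_le sq e)]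
  have e₁ : U' ≤ g' ⁻¹ᵁ U := hU'.le.trans inf_le_left
  have hp := (isIso_pushoutSection_iff sq e eU hU').1
    (isIso_pushoutSection_of_isAffineOpen sq e eU hU' hV hV' hU)
  let := sectionsAlg f eU
  let := sectionsAlg g e
  let := sectionsAlg g' e₁
  let := sectionsAlg f' e₂
  let : Algebra Γ(S, V) Γ(X', U') :=
    ((g'.appLE U U' e₁).hom.comp (f.appLE V U eU).hom).toAlgebra
  have : IsScalarTower Γ(S, V) Γ(X, U) Γ(X', U') := .of_algebraMap_eq fun _ => rfl
  have : IsScalarTower Γ(S, V) Γ(S', V') Γ(X', U') :=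
    .of_algebraMap_eq fun r => (FlatBC.appLE_sq sq.w e eU e₁ e₂ r).symm
  have hp' : Algebra.IsPushout Γ(S, V) Γ(X, U) Γ(S', V') Γ(X', U') :=
    CommRingCat.isPushout_iff_isPushout.1 hp
  have : Algebra.IsPushout Γ(S, V) Γ(S', V') Γ(X, U) Γ(X', U') := hp'.symm
  let P := (Scheme.Modules.pushforward f).obj ((CechOX.pushRestr W).obj F)
  let N := (Scheme.Modules.pullback g').obj F
  let T := (Scheme.Modules.pushforward f').obj ((CechOX.pushRestr (g' ⁻¹ᵁ W)).obj N)
  have hsm : ∀ (r : Γ(S, V)) (s : Γ(P, V)), (show Γ(F, U) from r • s) =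
      f.appLE V U eU r • (show Γ(F, U) from s) := fun r s => by
    change (W.ι.appIso _).inv (W.ι.app _ (f.app V r)) • (show Γ(F, U) from s) = _
    rw [smul_pushRestr]; rfl
  have hsm' : ∀ (b : Γ(S', V')) (s : Γ(T, V')), (show Γ(N, U') from b • s) =
      f'.appLE V' U' e₂ b • (show Γ(N, U') from s) := fun r s => by
    change ((g' ⁻¹ᵁ W).ι.appIso _).inv ((g' ⁻¹ᵁ W).ι.app _ (f'.app V' r)) •
      (show Γ(N, U') from s) = _
    rw [smul_pushRestr]; rfl
  let : Module Γ(S, V) Γ(F, U) := Module.compHom _ (f.appLE V U eU).hom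
  have : IsScalarTower Γ(S, V) Γ(X, U) Γ(F, U) := .of_algebraMap_smul fun _ _ => rfl
  let ident : Γ(P, V) ≃ₗ[Γ(S, V)] Γ(F, U) :=
    { AddEquiv.refl Γ(F, U) with map_smul' := fun r s => hsm r s }
  let c := LinearEquiv.lTensor Γ(S', V') ident
  let a := (Algebra.IsPushout.cancelBaseChange Γ(S, V) Γ(S', V') Γ(X, U) Γ(X', U') Γ(F, U)).symm
  have : P.IsQuasicoherent := by
    have : (F.restrict W.ι).IsQuasicoherent :=
      Scheme.Modules.isQuasicoherent_restrictFunctor _ F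
    exact (QCohMod.isQCoh_iff_of_iso
      ((Scheme.Modules.pushforwardComp W.ι f).app (F.restrict W.ι))).2
        (QCohMod.isQCoh_pushforward (F.restrict W.ι) (W.ι ≫ f))
  have key : ∀ z : Γ(S', V') ⊗[Γ(S, V)] Γ(P, V),
      (show Γ(N, U') from (phi sq.w le_rfl F).app V' (QCohMod.pullSecTensor g P e z)) =
        QCohMod.pullSecTensor g' F e₁ (a (c z)) := by
    intro z
    induction z using TensorProduct.induction_on with
    | zero => simp only [map_zero]
    | add p q hp hq =>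
      simp only [map_add]
      exact congrArg₂ (· + ·) hp hq
    | tmul b s =>
      rw [QCohMod.pullSecTensor_tmul, Scheme.Modules.Hom.app_smul]
      refine (hsm' b _).trans ?_
      rw [phi_pullSec sq.w le_rfl F e e₁]
      change _ = QCohMod.pullSecTensor g' F e₁ (a (b ⊗ₜ (show Γ(F, U) from s)))
      rw [Algebra.IsPushout.cancelBaseChange_symm_tmul, QCohMod.pullSecTensor_tmul]
      rfl
  have h1 : Function.Bijective
      ((QCohMod.pullSecTensor g' F e₁) ∘ (fun z => a (c z))) :=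
    (QCohMod.pullSecTensor_bijective g' F e₁ hU hU'a).comp (a.bijective.comp c.bijective)
  have h2 : Function.Bijective
      (((phi sq.w le_rfl F).app V') ∘ QCohMod.pullSecTensor g P e) := by
    rw [show (((phi sq.w le_rfl F).app V') ∘ QCohMod.pullSecTensor g P e : _ → _) =
      (QCohMod.pullSecTensor g' F e₁) ∘ (fun z => a (c z)) from funext key]
    exact h1
  exact ((QCohMod.pullSecTensor_bijective g P e hV hV').of_comp_iff _).1 h2

/-- Compatibility with the restriction maps. -/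
theorem phi_comp_restr (w : g' ≫ f = f' ≫ g) {W W₁ : X.Opens} {W' W₁' : X'.Opens}
    (hW : W' ≤ g' ⁻¹ᵁ W) (hW₁ : W₁' ≤ g' ⁻¹ᵁ W₁) (h : W₁ ≤ W) (h' : W₁' ≤ W') (F : X.Modules) :
    phi w hW F ≫ (Scheme.Modules.pushforward f').map
        (CechOX.pushRestrMapApp h' ((Scheme.Modules.pullback g').obj F)) =
      (Scheme.Modules.pullback g).map ((Scheme.Modules.pushforward f).map
        (CechOX.pushRestrMapApp h F)) ≫ phi w hW₁ F := by
  apply ((Scheme.Modules.pullbackPushforwardAdjunction g).homEquiv _ _).injective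
  rw [Adjunction.homEquiv_naturality_right, Adjunction.homEquiv_naturality_left,
    phi, phi, Equiv.apply_symm_apply, Equiv.apply_symm_apply]
  refine CohTwo.hom_ext_app fun V (s : Γ(F, cut W (f ⁻¹ᵁ V))) => ?_
  exact (pullRes_res F (cut_preimage_le w hW V) (cut_preimage_le w hW₁ V)
    (CechOX.image_preimage_mono h (f ⁻¹ᵁ V))
    (CechOX.image_preimage_mono h' (f' ⁻¹ᵁ (g ⁻¹ᵁ V))) s).symm

section Complex

variable {ι : Type u} [Finite ι] (𝒰 : ι → X.Opens)

theorem prod_eq_iInf {Y : Scheme.{u}} {n : ℕ} (V : Fin n → Y.Opens) : (∏ᶜ V) = ⨅ a, V a :=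
  le_antisymm (le_iInf fun a => leOfHom (Limits.Pi.π V a))
    (leOfHom (Limits.Pi.lift (f := V) (P := ⨅ a, V a) fun a => homOfLE (iInf_le V a)))

variable (g') in
omit [Finite ι] in
theorem preimage_prod {n : ℕ} (x : Fin n → ι) :
    (∏ᶜ ((fun i => g' ⁻¹ᵁ 𝒰 i) ∘ x)) = g' ⁻¹ᵁ (∏ᶜ (𝒰 ∘ x)) := by
  rw [prod_eq_iInf, prod_eq_iInf]
  ext1
  simp only [Opens.coe_iInf, Scheme.Hom.coe_preimage, Set.preimage_iInter, Function.comp_apply]

set_option maxHeartbeats 2000000 in
set_option synthInstance.maxHeartbeats 100000 in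
/-- The degree `n` base change isomorphism. -/
theorem nonempty_complex_iso (sq : IsPullback g' f' f g) (F : X.Modules) [F.IsQuasicoherent]
    [(Scheme.Modules.pullback g).Additive]
    (haff : ∀ (p : ℕ) (x : Fin (p + 1) → ι), IsAffineHom ((∏ᶜ (𝒰 ∘ x)).ι ≫ f)) :
    Nonempty (((Scheme.Modules.pullback g).mapHomologicalComplex (ComplexShape.up ℕ)).obj
        ((CechOX.relCech 𝒰 f).obj F) ≅
      (CechOX.relCech (fun i => g' ⁻¹ᵁ 𝒰 i) f').obj ((Scheme.Modules.pullback g').obj F)) := by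
  let 𝒰' : ι → X'.Opens := fun i => g' ⁻¹ᵁ 𝒰 i
  let N := (Scheme.Modules.pullback g').obj F
  haveI : PreservesFiniteProducts (Scheme.Modules.pullback g) :=
    Functor.preservesFiniteProductsOfAdditive _
  let G : X.Modules ⥤ S'.Modules := Scheme.Modules.pushforward f ⋙ Scheme.Modules.pullback g
  haveI : PreservesLimitsOfSize.{u, u} (Scheme.Modules.pushforward f) :=
    (Scheme.Modules.pullbackPushforwardAdjunction f).rightAdjoint_preservesLimits
  haveI : PreservesLimitsOfSize.{u, u} (Scheme.Modules.pushforward f') :=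
    (Scheme.Modules.pullbackPushforwardAdjunction f').rightAdjoint_preservesLimits
  let src : ∀ n, (Fin (n + 1) → ι) → X.Modules :=
    fun n x => (CechOX.pushRestr (∏ᶜ (𝒰 ∘ x))).obj F
  let tgt : ∀ n, (Fin (n + 1) → ι) → X'.Modules :=
    fun n x => (CechOX.pushRestr (∏ᶜ (𝒰' ∘ x))).obj N
  let c : ∀ n (x : Fin (n + 1) → ι), G.obj (src n x) ≅
      (Scheme.Modules.pushforward f').obj (tgt n x) := fun n x =>
    haveI := haff n x
    haveI := isIso_phi sq (preimage_prod g' 𝒰 x) F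
    asIso (phi sq.w (preimage_prod g' 𝒰 x).le F)
  haveI : ∀ n, PreservesLimit (Discrete.functor (src n)) G := fun n => by
    haveI : PreservesLimitsOfShape (Discrete (Fin (n + 1) → ι)) (Scheme.Modules.pullback g) :=
      preservesLimitsOfShape_of_equiv
        (Discrete.equivalence (Finite.equivFin (Fin (n + 1) → ι)).symm) _
    exact comp_preservesLimit _ _
  let e : ∀ n, G.obj (∏ᶜ src n) ≅ (Scheme.Modules.pushforward f').obj (∏ᶜ tgt n) := fun n =>
    PreservesProduct.iso G (src n) ≪≫ Pi.mapIso (c n) ≪≫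
      (PreservesProduct.iso (Scheme.Modules.pushforward f') (tgt n)).symm
  have he : ∀ n x, (e n).hom ≫ (Scheme.Modules.pushforward f').map (Pi.π (tgt n) x) =
      G.map (Pi.π (src n) x) ≫ (c n x).hom := fun n x => by
    simp only [e, Iso.trans_hom, Iso.symm_hom, Category.assoc, PreservesProduct.iso_hom]
    rw [show (PreservesProduct.iso (Scheme.Modules.pushforward f') (tgt n)).inv ≫
        (Scheme.Modules.pushforward f').map (Pi.π (tgt n) x) = Pi.π _ x from ?_]
    · simp [Pi.mapIso, piComparison_comp_π_assoc]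
    · rw [Iso.inv_comp_eq, PreservesProduct.iso_hom, piComparison_comp_π]
  let d : ∀ n, (∏ᶜ src n : X.Modules) ⟶ ∏ᶜ src (n + 1) :=
    fun n => ((CechOX.cechSh 𝒰).obj F).d n (n + 1)
  let d' : ∀ n, (∏ᶜ tgt n : X'.Modules) ⟶ ∏ᶜ tgt (n + 1) :=
    fun n => ((CechOX.cechSh 𝒰').obj N).d n (n + 1)
  refine ⟨HomologicalComplex.Hom.isoOfComponents (fun n => e n) ?_⟩
  rintro n m (rfl : n + 1 = m)
  change (e n).hom ≫ (Scheme.Modules.pushforward f').map (d' n) = G.map (d n) ≫ (e (n + 1)).hom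
  rw [← cancel_mono (PreservesProduct.iso (Scheme.Modules.pushforward f') (tgt (n + 1))).hom]
  refine Pi.hom_ext _ _ fun x => ?_
  simp only [Category.assoc, PreservesProduct.iso_hom, piComparison_comp_π, he]
  rw [← Functor.map_comp, ← Functor.map_comp_assoc]
  let cs : ∀ a : Fin (n + 2), (∏ᶜ src n : X.Modules) ⟶ ∏ᶜ src (n + 1) := fun a =>
    ((FormalCoproduct.cosimplicialObjectFunctor (FormalCoproduct.mk _ 𝒰).cech).obj
      (CechOX.pushRestrFam.flip.obj F)).δ a
  let cs' : ∀ a : Fin (n + 2), (∏ᶜ tgt n : X'.Modules) ⟶ ∏ᶜ tgt (n + 1) := fun a =>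
    ((FormalCoproduct.cosimplicialObjectFunctor (FormalCoproduct.mk _ 𝒰').cech).obj
      (CechOX.pushRestrFam.flip.obj N)).δ a
  have hd : d n = ∑ a : Fin (n + 2), ((-1 : ℤ) ^ (a : ℕ)) • cs a :=
    CochainComplex.of_d _ (AlgebraicTopology.AlternatingCofaceMapComplex.objD
      ((FormalCoproduct.cosimplicialObjectFunctor (FormalCoproduct.mk _ 𝒰).cech).obj
          (CechOX.pushRestrFam.flip.obj F))) n
  have hd' : d' n = ∑ a : Fin (n + 2), ((-1 : ℤ) ^ (a : ℕ)) • cs' a :=
    CochainComplex.of_d _ (AlgebraicTopology.AlternatingCofaceMapComplex.objD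
      ((FormalCoproduct.cosimplicialObjectFunctor (FormalCoproduct.mk _ 𝒰').cech).obj
          (CechOX.pushRestrFam.flip.obj N))) n
  rw [hd, hd', Preadditive.sum_comp, Preadditive.sum_comp, Functor.map_sum, Functor.map_sum,
    Preadditive.comp_sum, Preadditive.sum_comp]
  refine Finset.sum_congr rfl fun a _ => ?_
  have hle : (∏ᶜ (𝒰 ∘ x)) ≤ ∏ᶜ (𝒰 ∘ (x ∘ a.succAbove)) :=
    leOfHom (Limits.Pi.lift fun b => Limits.Pi.π (𝒰 ∘ x) (a.succAbove b))
  have hle' : (∏ᶜ (𝒰' ∘ x)) ≤ ∏ᶜ (𝒰' ∘ (x ∘ a.succAbove)) :=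
    leOfHom (Limits.Pi.lift fun b => Limits.Pi.π (𝒰' ∘ x) (a.succAbove b))
  have h : cs a ≫ Pi.π (src (n + 1)) x =
      Pi.π (src n) (x ∘ a.succAbove) ≫ CechOX.pushRestrMapApp hle F := Pi.lift_π _ _
  have h' : cs' a ≫ Pi.π (tgt (n + 1)) x =
      Pi.π (tgt n) (x ∘ a.succAbove) ≫ CechOX.pushRestrMapApp hle' N := Pi.lift_π _ _
  rw [Preadditive.zsmul_comp, Preadditive.zsmul_comp, h, h', Functor.map_zsmul, Functor.map_zsmul,
    Preadditive.comp_zsmul, Preadditive.zsmul_comp, Functor.map_comp, Functor.map_comp,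
    ← Category.assoc, he, Category.assoc, Category.assoc]
  refine congrArg (fun q => ((-1 : ℤ) ^ (a : ℕ)) • (G.map (Pi.π (src n) (x ∘ a.succAbove)) ≫ q)) ?_
  exact phi_comp_restr sq.w (preimage_prod g' 𝒰 (x ∘ a.succAbove)).le
    (preimage_prod g' 𝒰 x).le hle hle' F

end Complex

section Acyclic

open Groth.CohBase.RelCech (quasiIso_aug)

attribute [local instance] HasDerivedCategory.standard

theorem rightAcyclic_biproduct' {J : Type*} [Finite J] (G : X.Modules ⥤ S.Modules) [G.Additive]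
    [PreservesFiniteLimits G]
    (M : J → X.Modules) [HasBiproduct M] (h : ∀ j, Groth.CohFin.RightAcyclic G (M j)) :
    Groth.CohFin.RightAcyclic G (⨁ M) := by
  cases nonempty_fintype J
  intro k
  rw [IsZero.iff_id_eq_zero, ← CategoryTheory.Functor.map_id]
  refine (congrArg ((G.rightDerived (k + 1)).map) (IsBilimit.total (biproduct.isBilimit M)).symm).trans ?_
  haveI : (G.rightDerived (k + 1)).Additive :=
    { map_add := fun {_ _ _ _} => Groth.CohFin.rightDerived_map_add G _ _ _ }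
  rw [Functor.map_sum]
  refine Finset.sum_eq_zero fun j _ => ?_
  rw [Functor.map_comp, (h j k).eq_of_tgt ((G.rightDerived (k + 1)).map (biproduct.π M j)) 0,
    zero_comp]

theorem rightAcyclic_pushRestr' (f : X ⟶ S) {W : X.Opens} [IsAffineHom W.ι]
    [IsAffineHom (W.ι ≫ f)] (F : X.Modules) [F.IsQuasicoherent] :
    Groth.CohFin.RightAcyclic (Scheme.Modules.pushforward f) ((CechOX.pushRestr W).obj F) := by
  have : (F.restrict W.ι).IsQuasicoherent := Scheme.Modules.isQuasicoherent_restrictFunctor _ F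
  refine Groth.CohFin.rightAcyclic_of_pushAcyclic f _ fun V y hy => ?_
  obtain ⟨V', hV', hyV', hle⟩ := Opens.isBasis_iff_nbhd.mp S.isBasis_affineOpens hy
  refine ⟨V', hle, hyV', fun q => ?_⟩
  obtain ⟨e⟩ := (pushAcyclic_of_isAffineHom W.ι (F.restrict W.ι)).nonempty_equiv_H' (q + 1)
    (f ⁻¹ᵁ V')
  exact @Equiv.subsingleton _ _ e.toEquiv
    (hVanish_of_isAffineOpen (F.restrict W.ι) (IsAffineOpen.preimage (hU := hV') (W.ι ≫ f)) q)

variable {ι : Type u} [Finite ι] (𝒰 : ι → X.Opens)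

/-- The relative Čech complex computes `Rf_*` when all finite intersections of the cover are
affine over the source and over the base. -/
theorem nonempty_relCechZ_iso' (f : X ⟶ S) (hcov : ⨆ i, 𝒰 i = ⊤)
    (hι : ∀ (p : ℕ) (x : Fin (p + 1) → ι), IsAffineHom (∏ᶜ (𝒰 ∘ x)).ι)
    (haff : ∀ (p : ℕ) (x : Fin (p + 1) → ι), IsAffineHom ((∏ᶜ (𝒰 ∘ x)).ι ≫ f))
    (F : X.Modules) [F.IsQuasicoherent] [DCoh.HasRpush f] :
    Nonempty (DCoh.toD S (CechOX.relCechZ 𝒰 f F) ≅ (DCoh.Rpush f).obj (DCoh.inD X F)) := by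
  haveI : HasFiniteBiproducts X.Modules := HasFiniteBiproducts.of_hasFiniteProducts
  haveI : PreservesLimitsOfSize.{0, 0} (Scheme.Modules.pushforward f) :=
    (Scheme.Modules.pullbackPushforwardAdjunction f).rightAdjoint_preservesLimits
  haveI : PreservesFiniteLimits (Scheme.Modules.pushforward f) := ⟨fun _ _ _ => inferInstance⟩
  obtain ⟨φ, hφ⟩ := quasiIso_aug 𝒰 hcov F
  let e := ComplexShape.embeddingUpNat
  let C : CochainComplex X.Modules ℤ := CechOX.cechShZ 𝒰 F
  haveI : QuasiIso (HomologicalComplex.extendMap φ e) :=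
    (HomologicalComplex.quasiIso_extendMap_iff φ e).2 hφ
  let η : (HomologicalComplex.single _ (ComplexShape.up ℤ) 0).obj F ⟶ C :=
    (HomologicalComplex.extendSingleIso (X := F) e (i := 0) (i' := (0 : ℤ)) rfl).inv ≫
      HomologicalComplex.extendMap φ e
  haveI : QuasiIso η := inferInstance
  haveI : C.IsStrictlyGE 0 := (CochainComplex.isStrictlyGE_iff _ _).2 fun i hi =>
    HomologicalComplex.isZero_extend_X _ e _ fun j hj => by simp [e] at hj; omega
  have hC : ∀ n, Groth.CohFin.RightAcyclic (Scheme.Modules.pushforward f) (C.X n) := fun n => by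
    intro k
    by_cases hn : 0 ≤ n
    · obtain ⟨p, rfl⟩ := Int.eq_ofNat_of_zero_le hn
      have hp := fun x : Fin (p + 1) → ι =>
        haveI := hι p x
        haveI := haff p x
        rightAcyclic_pushRestr' f (W := ∏ᶜ (𝒰 ∘ x)) F
      haveI : Fintype (Fin (p + 1) → ι) := Fintype.ofFinite _
      exact ((rightAcyclic_biproduct' (Scheme.Modules.pushforward f) _ hp k).of_iso
        (((Scheme.Modules.pushforward f).rightDerived (k + 1)).mapIso (biproduct.isoProduct
          (fun x : Fin (p + 1) → ι => (CechOX.pushRestr (∏ᶜ (𝒰 ∘ x))).obj F)).symm)).of_iso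
        (((Scheme.Modules.pushforward f).rightDerived (k + 1)).mapIso
          (HomologicalComplex.extendXIso _ e rfl))
    · have hz := CochainComplex.isZero_of_isStrictlyGE C 0 n (by omega)
      haveI : Injective (C.X n) := ⟨fun g h _ => ⟨0, hz.eq_of_tgt _ _⟩⟩
      exact Groth.CohFin.rightAcyclic_of_injective _ _ k
  haveI := Groth.Misc4.RpushCoprod.isIso_γ_of_acyclic f C 0 hC
  haveI := (DerivedCategory.isIso_Q_map_iff_quasiIso _ η).2 inferInstance
  exact ⟨DerivedCategory.Q.mapIso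
      (Groth.Misc7.GSS.mapExtendIso (Scheme.Modules.pushforward f)
        ((CechOX.cechSh 𝒰).obj F)).symm ≪≫
    asIso ((Groth.Misc4.RpushCoprod.γ f).app C) ≪≫
    (DCoh.Rpush f).mapIso (asIso (DerivedCategory.Q.map η)).symm ≪≫
    (DCoh.Rpush f).mapIso ((DerivedCategory.singleFunctorIsoCompQ _ 0).symm.app F)⟩

end Acyclic

end Groth.CohBase.RelCechBC
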