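import Groth.Prelude.Def_CechOX
import Groth.Agent.CohBase.AffinePush
import Groth.Agent.CohFin.Rpush
import Groth.Agent.Misc4.RpushCoprod
import Groth.Agent.QCohMod.QCQS
import Groth.Agent.Misc7.GSS.RplusHomology
import Groth.Agent.S6531

/-!
The relative Čech complex of a quasi-coherent module for a finite affine cover computes `Rf_*`
when source and target have affine diagonal.
-/

universe u

open CategoryTheory CategoryTheory.Limits AlgebraicGeometry TopologicalSpace Opposite

attribute [local instance] HasDerivedCategory.standard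

set_option backward.isDefEq.respectTransparency false
set_option linter.style.haveILetI false
set_option linter.unnecessarySeqFocus false

namespace Groth.CohBase.RelCech

variable {X S : Scheme.{u}}

theorem isAffineHom_ι_comp [IsAffineHom (pullback.diagonal (terminal.from S))] (f : X ⟶ S)
    {W : X.Opens} (hW : IsAffineOpen W) : IsAffineHom (W.ι ≫ f) := by
  have : IsAffine W.toScheme := hW
  have : MorphismProperty.RespectsIso @IsAffineHom :=
    MorphismProperty.IsStableUnderBaseChange.respectsIso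
  have : (MorphismProperty.diagonal @IsAffineHom).IsStableUnderBaseChange :=
    MorphismProperty.IsStableUnderBaseChange.diagonal
  have : MorphismProperty.HasOfPostcompProperty @IsAffineHom
      (MorphismProperty.diagonal @IsAffineHom) :=
    MorphismProperty.hasOfPostcompProperty_iff_le_diagonal.2 le_rfl
  refine MorphismProperty.of_postcomp (W := @IsAffineHom)
    (W' := MorphismProperty.diagonal @IsAffineHom) (W.ι ≫ f) (terminal.from S) ?_ ?_
  · exact ‹IsAffineHom (pullback.diagonal (terminal.from S))›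
  · rw [terminal.comp_from]
    infer_instance

variable [IsAffineHom (pullback.diagonal (terminal.from X))]

theorem isAffineHom_ι {W : X.Opens} (hW : IsAffineOpen W) : IsAffineHom W.ι := by
  refine ⟨fun V hV => ?_⟩
  rw [← W.ι.isAffineOpen_iff_of_isOpenImmersion,
    Scheme.Hom.image_preimage_eq_opensRange_inf, Scheme.Opens.opensRange_ι]
  exact hW.inf hV

theorem isQCoh_pushRestr {W : X.Opens} (hW : IsAffineOpen W) (F : X.Modules)
    [F.IsQuasicoherent] : ((CechOX.pushRestr W).obj F).IsQuasicoherent := by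
  have := isAffineHom_ι hW
  have : (F.restrict W.ι).IsQuasicoherent := Scheme.Modules.isQuasicoherent_restrictFunctor _ F
  exact Groth.QCohMod.isQCoh_pushforward _ W.ι

theorem rightAcyclic_pushRestr [IsAffineHom (pullback.diagonal (terminal.from S))] (f : X ⟶ S)
    {W : X.Opens} (hW : IsAffineOpen W) (F : X.Modules) [F.IsQuasicoherent] :
    Groth.CohFin.RightAcyclic (Scheme.Modules.pushforward f) ((CechOX.pushRestr W).obj F) := by
  have := isAffineHom_ι hW
  have := isAffineHom_ι_comp f hW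
  have : (F.restrict W.ι).IsQuasicoherent := Scheme.Modules.isQuasicoherent_restrictFunctor _ F
  refine Groth.CohFin.rightAcyclic_of_pushAcyclic f _ fun V y hy => ?_
  obtain ⟨V', hV', hyV', hle⟩ := Opens.isBasis_iff_nbhd.mp S.isBasis_affineOpens hy
  refine ⟨V', hle, hyV', fun q => ?_⟩
  obtain ⟨e⟩ := (pushAcyclic_of_isAffineHom W.ι (F.restrict W.ι)).nonempty_equiv_H' (q + 1)
    (f ⁻¹ᵁ V')
  exact @Equiv.subsingleton _ _ e.toEquiv
    (hVanish_of_isAffineOpen (F.restrict W.ι) (IsAffineOpen.preimage (hU := hV') (W.ι ≫ f)) q)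

variable {ι : Type u} [Finite ι] (𝒰 : ι → X.Opens)

theorem isAffineOpen_prod (h𝒰 : ∀ i, IsAffineOpen (𝒰 i)) {p : ℕ} (i : Fin (p + 1) → ι) :
    IsAffineOpen (∏ᶜ (𝒰 ∘ i)) := by
  have e : (∏ᶜ (𝒰 ∘ i)) = ⨅ a, 𝒰 (i a) := by
    refine le_antisymm (le_iInf fun a => leOfHom (Limits.Pi.π (𝒰 ∘ i) a)) ?_
    exact leOfHom (Limits.Pi.lift (f := 𝒰 ∘ i) (P := ⨅ a, 𝒰 (i a))
      fun a => homOfLE (iInf_le (fun a => 𝒰 (i a)) a))
  rw [e]
  exact IsAffineOpen.iInf fun a => h𝒰 (i a)

theorem isQCoh_cechSh_X (h𝒰 : ∀ i, IsAffineOpen (𝒰 i)) (F : X.Modules) [F.IsQuasicoherent]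
    (p : ℕ) : (((CechOX.cechSh 𝒰).obj F).X p).IsQuasicoherent := by
  haveI : HasFiniteBiproducts X.Modules := HasFiniteBiproducts.of_hasFiniteProducts
  haveI : Fintype (Fin (p + 1) → ι) := Fintype.ofFinite _
  haveI : ∀ i : Fin (p + 1) → ι, ((CechOX.pushRestr (∏ᶜ (𝒰 ∘ i))).obj F).IsQuasicoherent :=
    fun i => isQCoh_pushRestr (isAffineOpen_prod 𝒰 h𝒰 i) F
  change SheafOfModules.IsQuasicoherent
    (∏ᶜ fun i : Fin (p + 1) → ι => (CechOX.pushRestr (∏ᶜ (𝒰 ∘ i))).obj F : X.Modules)
  refine (Groth.QCohMod.isQCoh_iff_of_iso (biproduct.isoProduct _).symm).mpr ?_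
  exact (Groth.QCohMod.isQCoh_iff_of_iso (biproduct.isoCoproduct _)).mpr
    (Groth.QCohMod.isQCoh_sigma _)

theorem rightAcyclic_biproduct {J : Type*} [Finite J] (G : X.Modules ⥤ S.Modules) [G.Additive]
    [PreservesFiniteLimits G]
    (M : J → X.Modules) [HasBiproduct M] (h : ∀ j, Groth.CohFin.RightAcyclic G (M j)) :
    Groth.CohFin.RightAcyclic G (⨁ M) := by
  cases nonempty_fintype J
  intro k
  rw [IsZero.iff_id_eq_zero, ← CategoryTheory.Functor.map_id]
  refine (congrArg ((G.rightDerived (k + 1)).map) (IsBilimit.total (biproduct.isBilimit M)).symm).trans ?_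
  haveI : (G.rightDerived (k + 1)).Additive :=
    { map_add := fun {_ _ _ _} => Groth.CohFin.rightDerived_map_add G _ _ _ }
  rw [Functor.map_sum]
  refine Finset.sum_eq_zero fun j _ => ?_
  rw [Functor.map_comp, (h j k).eq_of_tgt ((G.rightDerived (k + 1)).map (biproduct.π M j)) 0,
    zero_comp]

theorem rightAcyclic_cechSh_X [IsAffineHom (pullback.diagonal (terminal.from S))] (f : X ⟶ S)
    (h𝒰 : ∀ i, IsAffineOpen (𝒰 i)) (F : X.Modules) [F.IsQuasicoherent] (p : ℕ) :
    Groth.CohFin.RightAcyclic (Scheme.Modules.pushforward f) (((CechOX.cechSh 𝒰).obj F).X p) := by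
  haveI : HasFiniteBiproducts X.Modules := HasFiniteBiproducts.of_hasFiniteProducts
  haveI : Fintype (Fin (p + 1) → ι) := Fintype.ofFinite _
  haveI : PreservesLimitsOfSize.{0, 0} (Scheme.Modules.pushforward f) :=
    (Scheme.Modules.pullbackPushforwardAdjunction f).rightAdjoint_preservesLimits
  haveI : PreservesFiniteLimits (Scheme.Modules.pushforward f) := ⟨fun _ _ _ => inferInstance⟩
  intro k
  exact (rightAcyclic_biproduct (Scheme.Modules.pushforward f) _
    (fun i : Fin (p + 1) → ι => rightAcyclic_pushRestr f (isAffineOpen_prod 𝒰 h𝒰 i) F) k).of_iso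
    (((Scheme.Modules.pushforward f).rightDerived (k + 1)).mapIso (biproduct.isoProduct (fun i : Fin (p + 1) → ι =>
      (CechOX.pushRestr (∏ᶜ (𝒰 ∘ i))).obj F)).symm)

omit [IsAffineHom (pullback.diagonal (terminal.from X))] [Finite ι] in
/-- The augmentation of the Čech complex of sheaves of a cover is a quasi-isomorphism. -/
theorem quasiIso_aug (hcov : ⨆ i, 𝒰 i = ⊤) (F : X.Modules) :
    ∃ φ : (CochainComplex.single₀ X.Modules).obj F ⟶ (CechOX.cechSh 𝒰).obj F, QuasiIso φ := by
  obtain ⟨hm, hz, hk, he⟩ := Groth.Agent.S6531.result 𝒰 hcov F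
  refine ⟨(CochainComplex.fromSingle₀Equiv _ F).symm ⟨CechOX.cechShAug 𝒰 F, hz⟩, ⟨fun n => ?_⟩⟩
  cases n with
  | zero =>
    rw [CochainComplex.quasiIsoAt₀_iff, ShortComplex.quasiIso_iff_of_zeros _ (by simp <;> rfl)
      (by simp <;> rfl) (by simp <;> rfl)]
    have hex : (ShortComplex.mk (CechOX.cechShAug 𝒰 F) (((CechOX.cechSh 𝒰).obj F).d 0 1) hz).Exact :=
      ShortComplex.exact_of_f_is_kernel _ (KernelFork.IsLimit.ofι _ hz
        (fun g hg => (hk _ g hg).choose) (fun g hg => (hk _ g hg).choose_spec.1)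
        (fun g hg m hm => (hk _ g hg).choose_spec.2 m hm))
    refine ⟨(ShortComplex.exact_iff_of_iso ?_).1 hex, ?_⟩
    · exact ShortComplex.isoMk (Iso.refl _) (Iso.refl _) (Iso.refl _)
        (by simp [CochainComplex.fromSingle₀Equiv_symm_apply_f_zero] <;>
          exact (Category.id_comp _).trans (Category.comp_id _).symm)
        (by simp <;> exact (Category.id_comp _).trans (Category.comp_id _).symm)
    · simp [CochainComplex.fromSingle₀Equiv_symm_apply_f_zero]
      exact hm
  | succ n =>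
    rw [quasiIsoAt_iff_exactAt _ _ (CochainComplex.exactAt_succ_single_obj F n),
      HomologicalComplex.exactAt_iff_isZero_homology]
    exact he n

/-- The relative Čech complex computes `Rf_*`. -/
theorem nonempty_relCechZ_iso [IsAffineHom (pullback.diagonal (terminal.from S))] (f : X ⟶ S)
    (h𝒰 : ∀ i, IsAffineOpen (𝒰 i)) (hcov : ⨆ i, 𝒰 i = ⊤) (F : X.Modules) [F.IsQuasicoherent]
    [DCoh.HasRpush f] :
    Nonempty (DCoh.toD S (CechOX.relCechZ 𝒰 f F) ≅ (DCoh.Rpush f).obj (DCoh.inD X F)) := by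
  obtain ⟨φ, hφ⟩ := quasiIso_aug 𝒰 hcov F
  let e := ComplexShape.embeddingUpNat
  let C : CochainComplex X.Modules ℤ := CechOX.cechShZ 𝒰 F
  haveI : QuasiIso (HomologicalComplex.extendMap φ e) :=
    (HomologicalComplex.quasiIso_extendMap_iff φ e).2 hφ
  let η : (HomologicalComplex.single _ (ComplexShape.up ℤ) 0).obj F ⟶ C :=
    (HomologicalComplex.extendSingleIso (X := F) e (i := 0) (i' := (0 : ℤ)) rfl).inv ≫
      HomologicalComplex.extendMap φ e
  haveI : QuasiIso η := inferInstance
  haveI : C.IsStrictlyGE 0 := (CochainComplex.isStrictlyGE_iff _ _).2 fun i hi =>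
    HomologicalComplex.isZero_extend_X _ e _ fun j hj => by simp [e] at hj; omega
  have hC : ∀ n, Groth.CohFin.RightAcyclic (Scheme.Modules.pushforward f) (C.X n) := fun n => by
    intro k
    by_cases hn : 0 ≤ n
    · obtain ⟨p, rfl⟩ := Int.eq_ofNat_of_zero_le hn
      exact (rightAcyclic_cechSh_X 𝒰 f h𝒰 F p k).of_iso
        (((Scheme.Modules.pushforward f).rightDerived (k + 1)).mapIso
          (HomologicalComplex.extendXIso _ e rfl))
    · have hz := CochainComplex.isZero_of_isStrictlyGE C 0 n (by omega)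
      haveI : Injective (C.X n) := ⟨fun g h _ => ⟨0, hz.eq_of_tgt _ _⟩⟩
      exact Groth.CohFin.rightAcyclic_of_injective _ _ k
  haveI := Groth.Misc4.RpushCoprod.isIso_γ_of_acyclic f C 0 hC
  haveI := (DerivedCategory.isIso_Q_map_iff_quasiIso _ η).2 inferInstance
  exact ⟨DerivedCategory.Q.mapIso
      (Groth.Misc7.GSS.mapExtendIso (Scheme.Modules.pushforward f)
        ((CechOX.cechSh 𝒰).obj F)).symm ≪≫
    asIso ((Groth.Misc4.RpushCoprod.γ f).app C) ≪≫
    (DCoh.Rpush f).mapIso (asIso (DerivedCategory.Q.map η)).symm ≪≫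
    (DCoh.Rpush f).mapIso ((DerivedCategory.singleFunctorIsoCompQ _ 0).symm.app F)⟩

end Groth.CohBase.RelCech
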