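import Groth.Agent.CohBase.IdealOfClosed
import Groth.Agent.QCohMod.FTCriterion
import Groth.Agent.QCohMod.Category
import Mathlib.AlgebraicGeometry.Morphisms.Affine

/-!
# Serre's criterion of affineness
-/

universe u

open CategoryTheory Limits AlgebraicGeometry TopologicalSpace Opposite

namespace Groth.CohBase

variable {X : Scheme.{u}}

/-- A quasi-coherent module all of whose quasi-coherent submodules have vanishing first
cohomology. -/
structure SubVanish (A : X.Modules) : Prop where
  qcoh : A.IsQuasicoherent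
  vanish : ∀ (K : X.Modules) (i : K ⟶ A), Mono i → K.IsQuasicoherent →
    HVanish (X := X.toTopCat) (abSheaf K) 1 ⊤

lemma SubVanish.biprod {A B : X.Modules} (hA : SubVanish A) (hB : SubVanish B) :
    SubVanish (A ⊞ B) where
  qcoh := by
    have := hA.qcoh; have := hB.qcoh
    infer_instance
  vanish K i hi hK := by
    have := hA.qcoh; have := hB.qcoh
    let φ : K ⟶ B := i ≫ biprod.snd
    let S : ShortComplex X.Modules :=
      ShortComplex.mk (kernel.ι φ) (Abelian.factorThruImage φ) (by
        rw [← cancel_mono (Abelian.image.ι φ), Category.assoc, Abelian.image.fac, kernel.condition,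
          zero_comp])
    have hS : S.ShortExact :=
      { exact := by
          refine ShortComplex.exact_of_f_is_kernel _ (isKernelOfComp (Abelian.image.ι φ)
            (S.g ≫ Abelian.image.ι φ) (KernelFork.IsLimit.ofι (kernel.ι φ) (by
              rw [Abelian.image.fac, kernel.condition]) (fun g hg => kernel.lift φ g (by
                rw [Abelian.image.fac] at hg; exact hg))
              (fun g hg => kernel.lift_ι _ _ _) (fun g hg m hm => by
                rw [← cancel_mono (kernel.ι φ), kernel.lift_ι, hm]))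
            S.zero rfl) }
    have hK' : (kernel φ).IsQuasicoherent := inferInstance
    have hm : Mono (kernel.ι φ ≫ i ≫ biprod.fst) := by
      refine Preadditive.mono_of_cancel_zero _ fun g hg => ?_
      rw [← cancel_mono (kernel.ι φ), zero_comp, ← cancel_mono i, zero_comp]
      apply biprod.hom_ext
      · rw [zero_comp, Category.assoc, Category.assoc]; exact hg
      · rw [zero_comp, Category.assoc, Category.assoc, kernel.condition, comp_zero]
    have himg : (Abelian.image φ).IsQuasicoherent :=
      inferInstanceAs (kernel (cokernel.π φ)).IsQuasicoherent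
    exact hVanish_middle (shortExact_toAb hS) (hA.vanish _ _ hm hK')
      (hB.vanish _ (Abelian.image.ι φ) inferInstance himg)

lemma subVanish_zero {A : X.Modules} (hA : IsZero A) (hq : A.IsQuasicoherent) : SubVanish A where
  qcoh := hq
  vanish K i hi _ := by
    have hK : IsZero K := (IsZero.iff_id_eq_zero K).mpr
      (by rw [← cancel_mono i]; exact hA.eq_of_tgt _ _)
    refine (subsingleton_H_iff (X := X.toTopCat) (abSheaf K) 1).mp ?_
    exact CategoryTheory.Sheaf.subsingleton_H_of_isZero ((toAbF X).map_isZero hK) 1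

/-- Multiplication by a global function. -/
noncomputable def mulHom (g : Γ(X, ⊤)) : Coh.structureModule X ⟶ Coh.structureModule X :=
  QCohMod.secHom (Coh.structureModule X) g

lemma mulHom_app (g : Γ(X, ⊤)) (W : X.Opens) (r : Γ(X, W)) :
    (show Γ(X, W) from (mulHom g).app W r) = r * QCohMod.resFun X (le_top : W ≤ ⊤) g :=
  (QCohMod.secHom_app (Coh.structureModule X) g W r).trans rfl

lemma mulHom_app_top_mem (g : Γ(X, ⊤)) (J : Ideal Γ(X, ⊤)) (hg : g ∈ J) (r : Γ(X, ⊤)) :
    (show Γ(X, ⊤) from (mulHom g).app ⊤ r) ∈ J := by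
  rw [mulHom_app, QCohMod.resFun_self]
  exact J.mul_mem_left _ hg

/-- The module-theoretic span of functions, as images of maps from vanishing modules. -/
lemma exists_map_of_functions (hO : SubVanish (Coh.structureModule X)) (n : ℕ)
    (f : Fin (n + 1) → Γ(X, ⊤)) :
    ∃ (A : X.Modules) (φ : A ⟶ Coh.structureModule X), SubVanish A ∧
      (∀ a, (show Γ(X, ⊤) from φ.app ⊤ a) ∈ Ideal.span (Set.range f)) ∧
      ∀ (i : Fin (n + 1)) (W : X.Opens), W ≤ X.basicOpen (f i) →
        Function.Surjective (φ.app W) := by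
  have hmul : ∀ g : Γ(X, ⊤), ∀ (W : X.Opens), W ≤ X.basicOpen g →
      Function.Surjective ((mulHom g).app W) := by
    intro g W hW t
    have hu : IsUnit (QCohMod.resFun X (le_top : W ≤ ⊤) g) := by
      have := (X.toRingedSpace.isUnit_res_basicOpen g).map (QCohMod.resFun X hW)
      have h2 := QCohMod.resFun_resFun (X.basicOpen_le g) hW g
      exact h2 ▸ this
    obtain ⟨v, hv⟩ := hu
    refine ⟨show Γ(Coh.structureModule X, W) from ((show Γ(X, W) from t) * (↑v⁻¹ : Γ(X, W)) : Γ(X, W)), ?_⟩
    refine (mulHom_app g W _).trans ?_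
    rw [← hv]
    exact Units.inv_mul_cancel_right (show Γ(X, W) from t) v
  induction n with
  | zero =>
    refine ⟨_, mulHom (f 0), hO, fun a => ?_, ?_⟩
    · exact mulHom_app_top_mem (f 0) (Ideal.span (Set.range f)) (Ideal.subset_span ⟨0, rfl⟩) a
    · intro i W hW
      rw [Fin.fin_one_eq_zero i] at hW
      exact hmul _ W hW
  | succ n ih =>
    obtain ⟨A, φ, hA, hmem, hsurj⟩ := ih (Fin.tail f)
    let ψ := mulHom (f 0)
    refine ⟨A ⊞ Coh.structureModule X, biprod.desc φ ψ, hA.biprod hO, fun a => ?_, ?_⟩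
    · rw [biprod.desc_eq, Scheme.Modules.Hom.add_app]
      change (show Γ(X, ⊤) from φ.app ⊤ ((biprod.fst : A ⊞ Coh.structureModule X ⟶ A).app ⊤ a)) +
        (show Γ(X, ⊤) from ψ.app ⊤
          ((biprod.snd : A ⊞ Coh.structureModule X ⟶ Coh.structureModule X).app ⊤ a)) ∈ _
      refine Ideal.add_mem _ (Ideal.span_mono ?_ (hmem _)) ?_
      · rintro _ ⟨i, rfl⟩; exact ⟨i.succ, rfl⟩
      · exact mulHom_app_top_mem (f 0) (Ideal.span (Set.range f)) (Ideal.subset_span ⟨0, rfl⟩) _
    · intro i W hW t
      cases i using Fin.cases with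
      | zero =>
        obtain ⟨s, hs⟩ := hmul _ W hW t
        refine ⟨(biprod.inr : Coh.structureModule X ⟶ A ⊞ _).app W s, ?_⟩
        refine Eq.trans ?_ hs
        exact ConcreteCategory.congr_hom
          (congrArg (fun γ => Scheme.Modules.Hom.app γ W) (biprod.inr_desc φ ψ)) s
      | succ i =>
        obtain ⟨s, hs⟩ := hsurj i W hW t
        refine ⟨(biprod.inl : A ⟶ A ⊞ Coh.structureModule X).app W s, ?_⟩
        refine Eq.trans ?_ hs
        exact ConcreteCategory.congr_hom
          (congrArg (fun γ => Scheme.Modules.Hom.app γ W) (biprod.inl_desc φ ψ)) s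

/-- Covering by affine principal opens and vanishing give affineness. -/
theorem isAffine_of_cover_basicOpen (hO : SubVanish (Coh.structureModule X)) (n : ℕ)
    (f : Fin (n + 1) → Γ(X, ⊤)) (haff : ∀ i, IsAffineOpen (X.basicOpen (f i)))
    (hcov : ∀ y : X, ∃ i, y ∈ X.basicOpen (f i)) : IsAffine X := by
  obtain ⟨A, φ, hA, hmem, hsurj⟩ := exists_map_of_functions hO n f
  have hepi : Epi φ := by
    have : Epi ((toAbF X).map φ) := by
      refine (CategoryTheory.Sheaf.isLocallySurjective_iff_epi' AddCommGrpCat.{u} _).mp ?_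
      refine (TopCat.Presheaf.isLocallySurjective_iff ((toAbF X).map φ).hom).mpr ?_
      intro V t y hy
      obtain ⟨i, hi⟩ := hcov y
      obtain ⟨s, hs⟩ := hsurj i (V ⊓ X.basicOpen (f i)) inf_le_right
        (QCohMod.res (Coh.structureModule X) inf_le_left t)
      exact ⟨V ⊓ X.basicOpen (f i), inf_le_left, ⟨s, hs⟩, hy, hi⟩
    have : (toAbF X).Faithful :=
      inferInstanceAs (SheafOfModules.toSheaf.{u} X.ringCatSheaf).Faithful
    exact (toAbF X).epi_of_epi_map (inferInstance : Epi ((toAbF X).map φ))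
  have := hA.qcoh
  obtain ⟨a, ha⟩ := surjective_app_of_epi φ ⊤
    (hA.vanish _ (kernel.ι φ) inferInstance inferInstance) (QCohMod.oneSec ⊤)
  refine isAffine_of_isAffineOpen_basicOpen (Set.range f) ?_ (by rintro _ ⟨i, rfl⟩; exact haff i)
  rw [Ideal.eq_top_iff_one]
  have := hmem a
  rw [ha] at this
  exact this

/-- Serre's criterion, in relative form: it is enough to separate closed points. -/
theorem isAffine_of_separating [CompactSpace X] (hO : SubVanish (Coh.structureModule X))
    (hsep : ∀ (x : X) (_ : IsClosed ({x} : Set X)), ∃ f : Γ(X, ⊤),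
      x ∈ X.basicOpen f ∧ IsAffineOpen (X.basicOpen f)) : IsAffine X := by
  rcases isEmpty_or_nonempty X with h | h
  · exact isAffine_of_isEmpty
  choose f hxf haff using hsep
  let ι := {x : X // IsClosed ({x} : Set X)}
  have hcov : ∀ y : X, ∃ i : ι, y ∈ X.basicOpen (f i.1 i.2) := by
    intro y
    obtain ⟨z, hz, hzc⟩ := isClosed_closure.exists_closed_singleton
      (S := closure ({y} : Set X)) ⟨y, subset_closure rfl⟩
    exact ⟨⟨z, hzc⟩, (specializes_iff_mem_closure.mpr hz).mem_open
      (X.basicOpen (f z hzc)).2 (hxf z hzc)⟩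
  obtain ⟨s, hs⟩ := isCompact_univ.elim_finite_subcover
    (fun i : ι => (X.basicOpen (f i.1 i.2) : Set X)) (fun i => (X.basicOpen _).2)
    (fun y _ => Set.mem_iUnion.mpr (hcov y))
  obtain ⟨n, hn⟩ : ∃ n, s.card = n + 1 := Nat.exists_eq_succ_of_ne_zero (fun h0 => by
    obtain ⟨y⟩ := h
    obtain ⟨i, hi, -⟩ := Set.mem_iUnion₂.mp (hs (Set.mem_univ y))
    rw [Finset.card_eq_zero.mp h0] at hi
    exact Finset.notMem_empty i hi)
  let e : Fin (n + 1) ≃ s := (finCongr hn.symm).trans s.equivFin.symm
  refine isAffine_of_cover_basicOpen hO n (fun k => f (e k).1.1 (e k).1.2) (fun k => haff _ _)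
    fun y => ?_
  obtain ⟨i, hi, hy⟩ := Set.mem_iUnion₂.mp (hs (Set.mem_univ y))
  exact ⟨e.symm ⟨i, hi⟩, by rw [e.apply_symm_apply]; exact hy⟩

/-- A function whose principal open lies in an affine open has affine principal open. -/
lemma isAffineOpen_basicOpen_of_disjoint {U : X.Opens} (hU : IsAffineOpen U) (f : Γ(X, ⊤))
    (hd : Disjoint (X.basicOpen f : Set X) (U : Set X)ᶜ) : IsAffineOpen (X.basicOpen f) := by
  have hle : X.basicOpen f ≤ U := fun y hy => by
    by_contra h'; exact Set.disjoint_left.mp hd hy h'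
  have e := X.basicOpen_res f (homOfLE (le_top : U ≤ ⊤)).op
  rw [inf_eq_right.mpr hle] at e
  exact e ▸ hU.basicOpen _

/-- Serre's criterion of affineness. -/
theorem isAffine_of_h1 [CompactSpace X]
    (h : ∀ (I : X.Modules) (i : I ⟶ Coh.structureModule X), Mono i → I.IsQuasicoherent →
      HVanish (X := X.toTopCat) (abSheaf I) 1 ⊤) : IsAffine X := by
  refine isAffine_of_separating ⟨inferInstance, h⟩ fun x hx => ?_
  obtain ⟨_, ⟨U, hU, rfl⟩, hxU, -⟩ :=
    X.isBasis_affineOpens.exists_subset_of_mem_open (Set.mem_univ x) isOpen_univ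
  obtain ⟨f, hf, hd⟩ := exists_function_of_vanishing
    ⟨(U : Set X)ᶜ, U.2.isClosed_compl⟩ x hx (fun h' => h' hxU)
    (h _ (closedIdealι _) inferInstance inferInstance)
  exact ⟨f, hf, isAffineOpen_basicOpen_of_disjoint hU f hd⟩

end Groth.CohBase
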