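import Groth.Agent.CohBase.FlatBC.AffineBase
import Groth.Agent.LocFree.ExtPullback
import Groth.Agent.PropsBasic2.StalkFlat

/-!
# The stalks of higher direct images as cohomology over the local ring
-/

set_option autoImplicit false

universe u

open CategoryTheory Limits AlgebraicGeometry TopologicalSpace Opposite

namespace Groth.CohBase

variable {Y : Scheme.{u}}

lemma fromSpecStalk_top_le (y : Y) {V : Y.Opens} (hy : y ∈ V) :
    (⊤ : (Spec (Y.presheaf.stalk y)).Opens) ≤ Y.fromSpecStalk y ⁻¹ᵁ V := fun z _ => by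
  refine ((IsLocalRing.specializes_closedPoint z).map (Y.fromSpecStalk y).continuous).mem_open V.2 ?_
  rw [Scheme.fromSpecStalk_closedPoint]
  exact hy

lemma fromSpecStalk_appLE_apply (y : Y) {V : Y.Opens} (hy : y ∈ V) (b : Γ(Y, V)) :
    (Y.fromSpecStalk y).appLE V ⊤ (fromSpecStalk_top_le y hy) b =
      (Scheme.ΓSpecIso (Y.presheaf.stalk y)).inv (Y.presheaf.germ V y hy b) := by
  rw [Scheme.Hom.appLE, Scheme.fromSpecStalk_app hy]
  simp only [Category.assoc, CommRingCat.comp_apply, ← Functor.map_comp]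
  rw [show (homOfLE _).op ≫ (homOfLE (fromSpecStalk_top_le y hy)).op = 𝟙 _ from rfl]
  simp

/-- The stalk of a quasi-coherent module is the sections of its pullback to the local scheme. -/
theorem exists_stalk_spec_equiv (N : Y.Modules) [N.IsQuasicoherent] (y : Y) :
    ∃ e : N.presheaf.stalk y ≃+ Γ((Scheme.Modules.pullback (Y.fromSpecStalk y)).obj N, ⊤),
      ∀ (a : Y.presheaf.stalk y) t,
        e (a • t) = (Scheme.ΓSpecIso (Y.presheaf.stalk y)).inv a • e t := by
  obtain ⟨V, hV, hy, -⟩ := exists_isAffineOpen_mem_and_subset (X := Y) (x := y) (U := ⊤) trivial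
  let A := Y.presheaf.stalk y
  let g := Y.fromSpecStalk y
  let eV := fromSpecStalk_top_le y hy
  let p := (hV.primeIdealOf ⟨y, hy⟩).asIdeal
  let _ := Groth.QCohMod.sectionsAlg g eV
  let _ : Module Γ(Y, V) Γ((Scheme.Modules.pullback g).obj N, ⊤) :=
    Module.compHom _ (g.appLE V ⊤ eV).hom
  have : IsScalarTower Γ(Y, V) Γ(Spec A, ⊤) Γ((Scheme.Modules.pullback g).obj N, ⊤) :=
    IsScalarTower.of_algebraMap_smul fun _ _ => rfl
  let : Algebra Γ(Y, V) A := TopCat.Presheaf.algebra_section_stalk Y.presheaf ⟨y, hy⟩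
  have : IsLocalization p.primeCompl A := hV.isLocalization_stalk ⟨y, hy⟩
  let ι : A ≃ₐ[Γ(Y, V)] Γ(Spec A, ⊤) :=
    AlgEquiv.ofRingEquiv (f := (Scheme.ΓSpecIso A).symm.commRingCatIsoToRingEquiv)
      fun b => (fromSpecStalk_appLE_apply y hy b).symm
  have : IsLocalization p.primeCompl Γ(Spec A, ⊤) :=
    IsLocalization.isLocalization_of_algEquiv p.primeCompl ι
  have hloc : IsLocalizedModule p.primeCompl (LocFree.pullSecₗ g N eV) :=
    (isLocalizedModule_iff_isBaseChange p.primeCompl Γ(Spec A, ⊤) _).2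
      (LocFree.isBaseChange_pullSecₗ g N eV hV (isAffineOpen_top _))
  let _ := Groth.QCohMod.stalkModule N y hy
  have := Groth.QCohMod.isLocalizedModule_germ N hV y hy
  let e := IsLocalizedModule.linearEquiv p.primeCompl (Groth.QCohMod.germₗ N y hy)
    (LocFree.pullSecₗ g N eV)
  refine ⟨e.toAddEquiv, fun a t => ?_⟩
  obtain ⟨⟨b, c⟩, hbc⟩ := IsLocalization.surj p.primeCompl a
  have hc : IsUnit ((g.appLE V ⊤ eV) c.1) := IsLocalization.map_units Γ(Spec A, ⊤) c
  apply hc.smul_left_cancel.1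
  change (g.appLE V ⊤ eV) c.1 • e (a • t) = _
  have h1 : Y.presheaf.germ V y hy c.1 * a = Y.presheaf.germ V y hy b :=
    (mul_comm _ _).trans hbc
  have h2 := (e.map_smul c.1 (a • t)).symm.trans
    ((congrArg e ((smul_smul (Y.presheaf.germ V y hy c.1) a t).trans
      (congrArg (· • t) h1))).trans (e.map_smul b t))
  refine h2.trans ?_
  change (g.appLE V ⊤ eV) b • e t = _
  rw [smul_smul, fromSpecStalk_appLE_apply y hy, fromSpecStalk_appLE_apply y hy]
  erw [← map_mul]
  rw [h1]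
  rfl

/-- The stalk of `R^p f_*` is the cohomology over the local scheme. -/
theorem exists_stalk_Rpush_linEquiv {X : Scheme.{u}} (f : X ⟶ Y) [QuasiCompact f] [QuasiSeparated f]
    [HasInjectiveResolutions X.Modules] (F : X.Modules) [F.IsQuasicoherent] (y : Y) (p : ℕ)
    [((Coh.Rpush f p).obj F).IsQuasicoherent]
    (X₁ : Scheme.{u}) [X₁.Over (Spec (CommRingCat.of (Y.presheaf.stalk y)))] (g : X₁ ⟶ X)
    (hsq : IsPullback g (X₁ ↘ Spec (CommRingCat.of (Y.presheaf.stalk y))) f (Y.fromSpecStalk y)) :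
    Nonempty (((Coh.Rpush f p).obj F).presheaf.stalk y ≃ₗ[Y.presheaf.stalk y]
      Coh.HH X₁ ((Scheme.Modules.pullback g).obj F) p) := by
  have : QuasiCompact (X₁ ↘ Spec (CommRingCat.of (Y.presheaf.stalk y))) :=
    MorphismProperty.of_isPullback hsq ‹QuasiCompact f›
  have : QuasiSeparated (X₁ ↘ Spec (CommRingCat.of (Y.presheaf.stalk y))) :=
    MorphismProperty.of_isPullback hsq ‹QuasiSeparated f›
  have := QCohMod.isQCoh_pullback_obj g F
  have : Flat (Y.fromSpecStalk y) := Groth.PropsBasic2.flat_fromSpecStalk y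
  obtain ⟨α⟩ := FlatBC.exists_flat_base_change_iso hsq F p
  obtain ⟨e₁, he₁⟩ := exists_stalk_spec_equiv ((Coh.Rpush f p).obj F) y
  obtain ⟨e₂, he₂⟩ := FlatBC.exists_Rpush_top_equiv (Y.presheaf.stalk y) X₁
    ((Scheme.Modules.pullback g).obj F) p
  let e₃ : Γ((Scheme.Modules.pullback (Y.fromSpecStalk y)).obj ((Coh.Rpush f p).obj F), ⊤) ≃+
      Γ((Coh.Rpush (X₁ ↘ Spec (CommRingCat.of (Y.presheaf.stalk y))) p).obj
        ((Scheme.Modules.pullback g).obj F), ⊤) :=
    { toFun := α.hom.app ⊤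
      invFun := α.inv.app ⊤
      left_inv := fun s => congr(($(α.hom_inv_id)).app ⊤ s)
      right_inv := fun s => congr(($(α.inv_hom_id)).app ⊤ s)
      map_add' := map_add _ }
  refine ⟨{ (e₁.trans (e₃.trans e₂)) with map_smul' := fun a t => ?_ }⟩
  change e₂ (α.hom.app ⊤ (e₁ (a • t))) = a • e₂ (α.hom.app ⊤ (e₁ t))
  exact ((congrArg (fun z => e₂ (α.hom.app ⊤ z)) (he₁ a t)).trans
    (congrArg e₂ (α.hom.app_smul _ _))).trans (he₂ a _)

end Groth.CohBase
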