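import Groth.Agent.ConsAmple.Proper
import Groth.Agent.FlatStrata.Uniform
import Groth.Agent.CohBase.FibreBC
import Groth.Agent.CohBase.Push
import Groth.Agent.Ega2Proj.RelAmpleCoprod
import Groth.Agent.PicAux.Powers

/-!
# Uniform vanishing of the high twists on all fibres, over any quasi-compact base
-/

set_option autoImplicit false
set_option backward.isDefEq.respectTransparency false
set_option backward.isDefEq.respectTransparency.types false
set_option maxHeartbeats 1000000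

universe u

noncomputable section

open CategoryTheory Limits AlgebraicGeometry TopologicalSpace Opposite
open Groth.SpectralTopology Groth.PicAux

namespace Groth.CohBase.UniformFibreVanish

/-- Cohomology along an isomorphism of modules. -/
theorem subsingleton_HH_congr {W : Scheme.{u}} {M N : W.Modules} (e : M ≅ N) (p : ℕ)
    (h : Subsingleton (Coh.HH W M p)) : Subsingleton (Coh.HH W N p) :=
  @Equiv.subsingleton _ _ (((Sheaf.functorH _ p).mapIso ((SheafOfModules.toSheaf.{u} W.ringCatSheaf).mapIso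
    e.symm)).addCommGroupIsoToAddEquiv).toEquiv h

variable {X S : Scheme.{u}} (f : X ⟶ S) [IsProper f] [LocallyOfFinitePresentation f]

/-- The fibre over a point, through the preimage of an open around it. -/
theorem isPullback_fibre_restrict {V : S.Opens} (hV : IsAffineOpen V) (z : S) (hz : z ∈ V) :
    IsPullback (CohBase.fibreToPreimage f z hz) (f.fiberToSpecResidueField z) (f ∣_ V)
      (Spec.map (S.evaluation V z hz) ≫ hV.isoSpec.inv) := by
  refine (CohBase.isPullback_fibreToPreimage f hV z hz).of_iso (Iso.refl _) (Iso.refl _) (Iso.refl _)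
    hV.isoSpec.symm (by simp) (by simp) ?_ (by simp)
  rw [Iso.refl_hom, Category.id_comp, CohBase.preimageToSpec_eq, Iso.symm_hom, Category.assoc,
    ← IsAffineOpen.isoSpec_hom hV, Iso.hom_inv_id, Category.comp_id]

/-- Near each point of the base the high twists are acyclic on the fibres, uniformly. -/
theorem exists_nhd_uniform (L : X.Modules) (hL : RelAmple.IsRelAmple f L) (y : S) :
    ∃ (O : S.Opens) (N : ℕ), y ∈ O ∧ ∀ z ∈ O, ∀ d, N ≤ d → ∀ p, 1 ≤ p →
      Subsingleton (CohIII.fiberH f (CohB1.tensorPow L d) z p) := by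
  obtain ⟨V, hV, hyV⟩ := Groth.QCohMod.exists_affine_mem y
  have hLi : PicF.IsInvertible L := Groth.Ega2Proj.isInvertible_of_isRelAmple hL
  let A : CommRingCat.{u} := Γ(S, V)
  let g : (V : Scheme.{u}) ⟶ (fgCone A).pt := hV.isoSpec.hom
  haveI : IsIso g := inferInstanceAs (IsIso hV.isoSpec.hom)
  haveI : IsProper (f ∣_ V) :=
    MorphismProperty.of_isPullback (isPullback_morphismRestrict f V).flip ‹IsProper f›
  haveI : LocallyOfFinitePresentation (f ∣_ V) :=
    MorphismProperty.of_isPullback (isPullback_morphismRestrict f V).flip ‹_›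
  let LV := (Scheme.Modules.pullback (f ⁻¹ᵁ V).ι).obj L
  have hLVa : RelAmple.IsRelAmple (f ∣_ V) LV :=
    Groth.ConsAmple.isRelAmple_of_isPullback (isPullback_morphismRestrict f V).flip hL
  have hLV : PicF.IsInvertible LV := Groth.PicAux.isInvertible_pullback _ hLi
  obtain ⟨M, L₀, hp, hL₀, ⟨e⟩⟩ := Groth.ConsAmple.exists_model_proper (f ∣_ V) g hLV
  have := M.noetherian; have := M.lftg; have := M.qcg
  haveI : IsProper M.f₀ := hp
  haveI : IsLocallyNoetherian M.Y₀ := LocallyOfFiniteType.isLocallyNoetherian M.g₀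
  haveI : IsLocallyNoetherian M.X₀ := LocallyOfFiniteType.isLocallyNoetherian M.f₀
  let y' : (V : Scheme.{u}) := ⟨y, hyV⟩
  have hy₀ : M.qY y' ∈ Groth.ConsAmple.ampleSet M.f₀ L₀ := by
    have h := (Groth.ConsAmple.isRelAmple_iff_ampleSet_eq_univ (f ∣_ V)
      (Groth.PicAux.isInvertible_pullback M.qX hL₀)).1
        (Groth.Ega2Proj.isRelAmple_of_iso e.symm hLVa)
    rw [Groth.ConsAmple.ampleSet_preimage M.hX hL₀] at h
    exact h.ge (Set.mem_univ y')
  obtain ⟨V₀, hV₀, hyV₀, hA⟩ := Groth.AmpleFibre.exists_nhd_isAmple_proper M.f₀ (M.qY y') hL₀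
    (Groth.ConsAmple.isAmple_fibre_of_mem hy₀)
  let A₀ := Γ(M.Y₀, V₀)
  let X₁ : Scheme.{u} := M.f₀ ⁻¹ᵁ V₀
  letI : X₁.Over (Spec (CommRingCat.of A₀)) := ⟨CohBase.preimageToSpec M.f₀⟩
  haveI : IsProper (X₁ ↘ Spec (CommRingCat.of A₀)) :=
    MorphismProperty.of_isPullback (CohBase.isPullback_preimageToSpec M.f₀ hV₀) hp
  haveI : IsNoetherianRing A₀ := IsLocallyNoetherian.component_noetherian ⟨V₀, hV₀⟩
  let L₁ : X₁.Modules := L₀.restrict (M.f₀ ⁻¹ᵁ V₀).ι
  have hO : Coh.IsCoh (Coh.structureModule X₁) :=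
    (Groth.QCohMod.isCoh_iff _).mpr
      ⟨inferInstance, fun U _ => inferInstanceAs (Module.Finite Γ(X₁, U) Γ(X₁, U))⟩
  obtain ⟨N, H, -, hN⟩ := Groth.FlatStrata.exists_uniform (A := A₀) hA (Coh.structureModule X₁) hO
  refine ⟨V.ι ''ᵁ (M.qY ⁻¹ᵁ V₀), N, ⟨y', hyV₀, rfl⟩, fun z hz d hd p hp1 => ?_⟩
  obtain ⟨z', hz', rfl⟩ := hz
  let κ := S.residueField (V.ι z')
  let ζ : Spec κ ⟶ (V : Scheme.{u}) :=
    Spec.map (S.evaluation V (V.ι z') z'.2) ≫ hV.isoSpec.inv
  have hζ : ∀ w, ζ w = z' := fun w => V.ι.isOpenEmbedding.injective (by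
    rw [← Scheme.Hom.comp_apply]
    have e' : ζ ≫ V.ι = S.fromSpecResidueField (V.ι z') := by
      rw [Category.assoc, hV.isoSpec_inv_ι, CohBase.SpecMap_evaluation_fromSpec hV]
    rw [e']
    exact Scheme.fromSpecResidueField_apply _ _)
  have hsq1 := (isPullback_fibre_restrict f hV (V.ι z') z'.2).paste_horiz M.hX
  have hr : Set.range (ζ ≫ M.qY) ⊆ Set.range hV₀.fromSpec := by
    rw [hV₀.range_fromSpec]
    rintro _ ⟨w, rfl⟩
    rw [Scheme.Hom.comp_apply, hζ]
    exact hz'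
  let φ : CommRingCat.of A₀ ⟶ κ :=
    Spec.preimage (IsOpenImmersion.lift hV₀.fromSpec (ζ ≫ M.qY) hr)
  have hφ : Spec.map φ ≫ hV₀.fromSpec = ζ ≫ M.qY := by
    rw [Spec.map_preimage, IsOpenImmersion.lift_fac]
  letI : Algebra A₀ κ := φ.hom.toAlgebra
  let k : f.fiber (V.ι z') ⟶ M.X₀ := CohBase.fibreToPreimage f (V.ι z') z'.2 ≫ M.qX
  have hk : Set.range k ⊆ Set.range (M.f₀ ⁻¹ᵁ V₀).ι := by
    rintro _ ⟨x, rfl⟩
    rw [Scheme.Opens.range_ι]
    show M.f₀ (k x) ∈ V₀
    rw [← Scheme.Hom.comp_apply, hsq1.w, Scheme.Hom.comp_apply, Scheme.Hom.comp_apply, hζ]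
    exact hz'
  let g₁ : f.fiber (V.ι z') ⟶ X₁ := IsOpenImmersion.lift (M.f₀ ⁻¹ᵁ V₀).ι k hk
  have hg₁ : g₁ ≫ (M.f₀ ⁻¹ᵁ V₀).ι = k := IsOpenImmersion.lift_fac _ _ _
  letI : (f.fiber (V.ι z')).Over (Spec (CommRingCat.of κ)) := ⟨f.fiberToSpecResidueField (V.ι z')⟩
  have hsq : CohBase.IsBC (A := A₀) (A' := κ) g₁ := by
    have hbig : IsPullback (g₁ ≫ (M.f₀ ⁻¹ᵁ V₀).ι) (f.fiberToSpecResidueField (V.ι z')) M.f₀
        (Spec.map φ ≫ hV₀.fromSpec) := by
      rw [hg₁, hφ]; exact hsq1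
    refine hbig.of_right ?_ (CohBase.isPullback_preimageToSpec M.f₀ hV₀)
    change g₁ ≫ CohBase.preimageToSpec M.f₀ = _
    rw [← cancel_mono hV₀.fromSpec, Category.assoc, Category.assoc,
      ← (CohBase.isPullback_preimageToSpec M.f₀ hV₀).w, ← Category.assoc]
    exact hbig.w
  have hvan := ((hN κ) (f.fiber (V.ι z')) g₁ hsq).1 d hd |>.2 p hp1
  refine subsingleton_HH_congr ?_ p hvan
  let eL : (Scheme.Modules.pullback g₁).obj L₁ ≅
      (Scheme.Modules.pullback (f.fiberι (V.ι z'))).obj L :=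
    (Scheme.Modules.pullback g₁).mapIso
        ((Scheme.Modules.restrictFunctorIsoPullback (M.f₀ ⁻¹ᵁ V₀).ι).app L₀) ≪≫
      (Scheme.Modules.pullbackComp g₁ (M.f₀ ⁻¹ᵁ V₀).ι).app L₀ ≪≫
      (Scheme.Modules.pullbackCongr hg₁).app L₀ ≪≫
      ((Scheme.Modules.pullbackComp (CohBase.fibreToPreimage f (V.ι z') z'.2) M.qX).app L₀).symm ≪≫
      (Scheme.Modules.pullback _).mapIso e ≪≫
      (Scheme.Modules.pullbackComp _ (f ⁻¹ᵁ V).ι).app L ≪≫
      (Scheme.Modules.pullbackCongr (CohBase.fibreToPreimage_ι f (V.ι z') z'.2)).app L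
  exact (Groth.PicAux.exists_pullback_tensorMod g₁ _ _).choose ≪≫
    PicGrp.tensorModIso (Groth.PicAux.pullback_structure_iso g₁).some
      (Groth.PicAux.pullback_tensorPow g₁ L₁ d).some ≪≫
    (Groth.PicAux.exists_leftUnitor _).choose ≪≫
    (Groth.PicAux.nonempty_tensorPow_iso eL d).some ≪≫
    (Groth.PicAux.pullback_tensorPow (f.fiberι (V.ι z')) L d).some.symm

/-- The high twists by a relatively ample module are acyclic on all fibres, uniformly. -/
theorem exists_uniform_fibre_vanishing [CompactSpace S] (L : X.Modules)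
    (hL : RelAmple.IsRelAmple f L) :
    ∃ N : ℕ, ∀ z : S, ∀ d, N ≤ d → ∀ p, 1 ≤ p →
      Subsingleton (CohIII.fiberH f (CohB1.tensorPow L d) z p) := by
  choose O N hO h using exists_nhd_uniform f L hL
  obtain ⟨s, hs⟩ := isCompact_univ.elim_finite_subcover (fun y : S => (O y : Set S))
    (fun y => (O y).2) fun y _ => Set.mem_iUnion.2 ⟨y, hO y⟩
  refine ⟨s.sup N, fun z d hd p hp => ?_⟩
  obtain ⟨y, hys, hz⟩ := Set.mem_iUnion₂.1 (hs (Set.mem_univ z))
  exact h y z hz d ((Finset.le_sup hys).trans hd) p hp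

end Groth.CohBase.UniformFibreVanish
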